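import Cfsg.Agent.Lib.PSpFourThree.Weak
import Cfsg.Agent.Lib.PSpFourLocal.Main

/-!
The kind whose automizer is the symmetric group of degree four: a frame, hence `PSp(4,3)`.
-/

set_option autoImplicit false
set_option maxRecDepth 20000
set_option linter.style.haveILetI false

namespace CfsgLib.PSpFourThree

open CfsgLib.SymNineThree CfsgLib.SymNineThree.Mon CfsgLib.PSpFourLocal

attribute [local instance 2000] List.decidableBAll List.decidableBEx

/-- The codes of the four elements. -/
def frameCode : Fin 4 → ℕ := ![13, 25, 23, 17]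

theorem frame_code_facts : (∀ i, frameCode i < 27) ∧ (∀ i j, frameCode i = frameCode j → i = j) ∧
    addV (addV (addV 13 25) 23) 17 = 0 ∧
    ((List.range 27).all fun w => (List.range 3).any fun i => (List.range 3).any fun j =>
      (List.range 3).any fun k => Nat.beq w (addV (addV (scV i 13) (scV j 25)) (scV k 23))) = true := by
  refine ⟨?_, ?_, ?_, ?_⟩ <;> decide +kernel

theorem scV_frame : ∀ i : Fin 3, ∀ w ∈ [13, 25, 23],
    tr (scV i w) = tr w ^ (i : ℕ) ∧ scV i w < 27 ∧ w < 27 := by decide +kernel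

theorem frame_perm : ((List.range 1296).all fun x => !inK 2 x || (List.finRange 4).all fun i =>
    (List.finRange 4).any fun j =>
      Nat.beq (mulM (mulM x (trC (frameCode i))) (invM x)) (trC (frameCode j))) = true := by decide +kernel

theorem frame_full : ∀ σ : Equiv.Perm (Fin 4), (monoL.any fun m => inK 2 m && Nat.blt m 1296 &&
    (List.finRange 4).all fun i =>
      Nat.beq (mulM (mulM m (trC (frameCode i))) (invM m)) (trC (frameCode (σ i)))) = true := by
  decide +kernel

theorem square_check : ((List.range 1296).all fun x => !inK 2 x ||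
    monoL.any fun m => inK 2 m && Nat.blt m 1296 && inK 0 (mulM x (mulM m m))) = true := by decide +kernel

theorem sl_squares : ∀ g : S23, ∃ b c : S23, g = b * b * (c * c) := by decide +kernel

namespace Ctx

variable {G : Type*} [Group G] [Finite G] (X : Ctx G)

/-- An involution of `C` normalizing `J` is over `-1`. -/
theorem f_invol {t : G} (ht : t ∈ X.C) (ht2 : t * t = 1) (ht1 : t ≠ 1) : X.f t = -1 :=
  sl_inv _ (by rw [← X.f_mul ht ht, ht2, X.f_one]) fun e => ht1 (X.R_sq ((X.f_eq_one ht).mp e) ht2)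

/-- A subgroup containing all squares of `C` contains `C`. -/
theorem C_le {H : Subgroup G} (hH : ∀ g ∈ X.C, g * g ∈ H) : X.C ≤ H := by
  intro g hg
  have hR : X.R ≤ H := fun r hr => by
    have h := hH _ (X.R_le (mul_mem hr hr))
    rwa [show r * r * (r * r) = r * r * r * r by group, X.cubeR hr, one_mul] at h
  obtain ⟨b, c, hbc⟩ := sl_squares (X.f g)
  obtain ⟨b, hb, rfl⟩ := X.f_surj b
  obtain ⟨c, hc, rfl⟩ := X.f_surj c
  set w := b * b * (c * c)
  have hw : w ∈ X.C := mul_mem (mul_mem hb hb) (mul_mem hc hc)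
  have hr : g * w⁻¹ ∈ X.R := by
    refine (X.f_eq_one (mul_mem hg (inv_mem hw))).mp ?_
    rw [X.f_mul hg (inv_mem hw), X.f_inv hw, X.f_mul (mul_mem hb hb) (mul_mem hc hc), X.f_mul hb hb,
      X.f_mul hc hc, hbc, mul_inv_cancel]
  have := mul_mem (hR hr) (mul_mem (hH b hb) (hH c hc))
  rwa [show g * w⁻¹ * (b * b * (c * c)) = g by simp only [w]; group] at this

end Ctx

namespace Coord

variable {G : Type*} [Group G] [Finite G] {X : Ctx G} (U : Coord X)

theorem isFrame (hk : U.k = 2) : IsFrame X.J fun i => U.ι (frameCode i) where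
  mem i := U.ι_mem (frame_code_facts.1 i)
  comm := X.comm
  cube := X.cube
  card := X.card_J
  gen g hg := by
    obtain ⟨w, hw, rfl⟩ := U.exists_ι hg
    have h := List.all_eq_true.mp frame_code_facts.2.2.2 w (List.mem_range.mpr hw)
    simp only [List.any_eq_true, List.mem_range, Nat.beq_eq] at h
    obtain ⟨i, hi, j, hj, k, hk', rfl⟩ := h
    obtain ⟨a1, b1, c1⟩ := scV_frame ⟨i, hi⟩ 13 (by simp)
    obtain ⟨a2, b2, c2⟩ := scV_frame ⟨j, hj⟩ 25 (by simp)
    obtain ⟨a3, b3, c3⟩ := scV_frame ⟨k, hk'⟩ 23 (by simp)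
    refine ⟨i, j, k, ?_⟩
    rw [U.ι_add (addV_lt b1 b2) b3, U.ι_add b1 b2]
    simp only [ι, a1, a2, a3, U.f_pow (tr_mem c1), U.f_pow (tr_mem c2), U.f_pow (tr_mem c3)]
    rfl
  prod := by
    show U.ι 13 * U.ι 25 * U.ι 23 * U.ι 17 = 1
    rw [← U.ι_add (by norm_num) (by norm_num), ← U.ι_add (addV_lt (by norm_num) (by norm_num)) (by norm_num),
      ← U.ι_add (addV_lt (addV_lt (by norm_num) (by norm_num)) (by norm_num)) (by norm_num),
      frame_code_facts.2.2.1, U.ι_zero]
  perm g hg := by
    obtain ⟨x, hx, rfl⟩ := U.exists_f hg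
    have hx2 : inK 2 x.c = true := by
      have := mem_Kd.mp hx
      rwa [hk] at this
    have key : ∀ i, ∃ j, U.f x * U.ι (frameCode i) * (U.f x)⁻¹ = U.ι (frameCode j) := by
      intro i
      have h := List.all_eq_true.mp frame_perm _ (List.mem_range.mpr x.c.isLt)
      simp only [hx2, Bool.not_true, Bool.false_or, List.all_eq_true, List.any_eq_true, Nat.beq_eq] at h
      obtain ⟨j, -, hj⟩ := h i (List.mem_finRange i)
      refine ⟨j, ?_⟩
      show U.f x * U.f (tr _) * (U.f x)⁻¹ = U.f (tr _)
      rw [← U.f_conj hx (tr_mem (frame_code_facts.1 i))]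
      refine congrArg U.f (code_eq.mpr ?_)
      rw [code_mul, code_mul, code_inv, code_tr (frame_code_facts.1 i), code_tr (frame_code_facts.1 j)]
      exact hj
    choose s hs using key
    have hinj : Function.Injective s := fun i j e => by
      have h := hs i
      rw [e, ← hs j] at h
      exact frame_code_facts.2.1 i j (U.ι_inj (frame_code_facts.1 i) (frame_code_facts.1 j)
        (mul_left_cancel (mul_right_cancel h)))
    exact ⟨Equiv.ofBijective s (Finite.injective_iff_bijective.mp hinj), hs⟩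
  full σ := by
    have h := frame_full σ
    simp only [List.any_eq_true, Bool.and_eq_true, List.all_eq_true, Nat.beq_eq] at h
    obtain ⟨m, -, ⟨hmk, hml⟩, hm⟩ := h
    have hlt : m < 1296 := Nat.le_of_ble_eq_true hml
    have hmK : of m ∈ Kd U.k := by rw [hk]; exact mem_Kd_of hlt hmk
    refine ⟨U.f (of m), U.f_mem_N hmK, fun i => ?_⟩
    show U.f (of m) * U.f (tr _) * (U.f (of m))⁻¹ = U.f (tr _)
    rw [← U.f_conj hmK (tr_mem (frame_code_facts.1 i))]
    refine congrArg U.f (code_eq.mpr ?_)
    rw [code_mul, code_mul, code_inv, code_of hlt, code_tr (frame_code_facts.1 i),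
      code_tr (frame_code_facts.1 (σ i))]
    exact hm i (List.mem_finRange i)
  self := le_antisymm
    (fun g hg => X.cent_J fun y hy => (Subgroup.mem_centralizer_iff.mp hg y hy).symm)
    (fun g hg => Subgroup.mem_centralizer_iff.mpr fun y hy => X.comm y hy g hg)
  sig := X.sig
  card0 := by
    show Nat.card (Subgroup.centralizer ({U.ι 13} : Set G)) = 648
    rw [U.ι_thirteen]
    exact X.card_C
  cent01 := by
    intro g hg
    have hC : g ∈ X.C := by
      have := hg.1
      rwa [show U.ι (frameCode 0) = X.a from U.ι_thirteen] at this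
    refine X.cent_le_normalizer (U.ι_mem (show 25 < 27 by norm_num)) (fun h => ?_) hC
      (mem_centralizer_iff'.mp hg.2)
    rcases (U.ι_Z (by norm_num)).mp h with e | e | e <;> norm_num at e
  levi := by
    intro t ht2 ht1 _ h0 _
    suffices key : ∀ b : G, b = X.a → t * b = b * t →
        ∃ f : ↥(Subgroup.centralizer ({b} : Set G) ⊓ Subgroup.centralizer ({t} : Set G)) →*
          Matrix.SpecialLinearGroup (Fin 2) (ZMod 3), Function.Surjective f ∧
            (∀ x, f x = 1 ↔ (x : G) ∈ Subgroup.zpowers b) ∧ ∀ x : ↥(Subgroup.centralizer ({b} : Set G) ⊓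
              Subgroup.centralizer ({t} : Set G)), (x : G) = t → f x = -1 from
      key _ U.ι_thirteen h0
    intro b hb h0
    subst hb
    have htC : t ∈ X.C := mem_centralizer_iff'.mpr h0
    have htf := X.f_invol htC ht2 ht1
    let F := X.φ.comp (Subgroup.inclusion
      (inf_le_left : X.C ⊓ Subgroup.centralizer ({t} : Set G) ≤ X.C))
    have hF : ∀ x, F x = X.f x := fun x => (X.f_eq x.2.1).symm
    refine ⟨F, fun u => ?_, fun x => ?_, fun x hx => ?_⟩
    · obtain ⟨q, hq, hqt, rfl⟩ := X.cent_surj htC htf ht2 u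
      exact ⟨⟨q, hq, mem_centralizer_iff'.mpr hqt⟩, hF _⟩
    · rw [hF]
      constructor
      · intro e
        refine X.neg_one_no_fix htC htf ht2 ((X.f_eq_one x.2.1).mp e) ?_
        rw [← mem_centralizer_iff'.mp x.2.2, mul_inv_cancel_right, mul_inv_cancel]
        exact one_mem _
      · exact fun h => (X.f_eq_one x.2.1).mpr (X.Z_le_R h)
    · rw [hF, hx, htf]

/-- No subgroup of index two. -/
theorem no_index_two (hk : U.k = 2) (H : Subgroup G) : H.index ≠ 2 := by
  classical
  intro hH
  haveI : Fact (Nat.Prime 3) := ⟨Nat.prime_three⟩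
  haveI := Subgroup.normal_of_index_eq_two hH
  have hsq : ∀ g : G, g * g ∈ H := fun g => by
    rw [← pow_two]; exact Subgroup.sq_mem_of_index_two hH g
  have hC : X.C ≤ H := X.C_le fun g _ => hsq g
  have hS : (X.sylow : Subgroup G) ≤ H := fun s hs => hC (X.S_le hs)
  have htop := Sylow.normalizer_sup_eq_top (Sylow.subtype X.sylow hS)
  have hmap : ((Sylow.subtype X.sylow hS : Sylow 3 H) : Subgroup H).map H.subtype = X.S := by
    show (X.S.subgroupOf H).map H.subtype = X.S
    rw [Subgroup.subgroupOf_map_subtype, inf_eq_left]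
    exact hS
  rw [hmap] at htop
  have hN : Subgroup.normalizer (X.S : Set G) ≤ H := by
    intro g hg
    have hz : g * X.a * g⁻¹ ∈ X.Z := by
      refine X.mem_Z_of_S ((Subgroup.mem_normalizer_iff.mp hg _).mp (X.R_le_S X.a_mem_R)) fun s hs => ?_
      have h := (Subgroup.mem_normalizer_iff.mp hg (g⁻¹ * s * g)).mpr (by simpa [mul_assoc] using hs)
      calc s * (g * X.a * g⁻¹) = g * ((g⁻¹ * s * g) * X.a) * g⁻¹ := by group
        _ = g * (X.a * (g⁻¹ * s * g)) * g⁻¹ := by rw [X.a_comm (X.S_le h)]
        _ = _ := by group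
    rcases X.mem_Z.mp hz with e | e | e
    · exact absurd (conj_eq_one_iff.mp e) X.a_ne
    · exact hC (mem_centralizer_iff'.mpr (mul_inv_eq_iff_eq_mul.mp e))
    · rcases U.kind_odd (e.trans (inv_eq_of_mul_eq_one_left X.a_cube).symm) with h | h <;>
        rw [hk] at h <;> exact absurd h (by decide)
  rw [sup_eq_right.mpr hN] at htop
  rw [htop, Subgroup.index_top] at hH
  omega

/-- The kind gives `PSp(4,3)`. -/
theorem iso_of_four (hk : U.k = 2) : Nonempty (G ≃* CfsgLib.PSpFourRecog.P3) :=
  iso_of_frame (U.isFrame hk) (U.no_index_two hk)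

end Coord

end CfsgLib.PSpFourThree
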