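import Cfsg.Agent.Lib.NineTI.Isolated
import Cfsg.Agent.Lib.NineTI.Setup
import Cfsg.Agent.Lib.Transfer.Basic

/-!
A Sylow subgroup of order nine inverted by an involution, with a distinguished subgroup `⟨z⟩`
weakly closed in it and all other elements self-centralizing: `⟨z⟩` is normal.
-/

set_option autoImplicit false
set_option linter.style.haveILetI false
set_option linter.unusedSectionVars false

namespace CfsgLib.PSpFourThree

open Cfsg CfsgLib.Char

variable {Q : Type*} [Group Q] [Finite Q]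

/-- The hypotheses. -/
structure Flip (P : Subgroup Q) (z n : Q) : Prop where
  card : Nat.card P = 9
  comm : ∀ p ∈ P, ∀ q ∈ P, p * q = q * p
  cube : ∀ p ∈ P, p * p * p = 1
  max : ∀ R : Subgroup Q, IsPGroup 3 R → P ≤ R → R = P
  mem : z ∈ P
  ne : z ≠ 1
  sq : n * n = 1
  inv : ∀ p ∈ P, n * p * n⁻¹ = p⁻¹
  nor : ∀ g ∈ Subgroup.normalizer (P : Set Q), g ∈ P ∨ g * n ∈ P
  cent : ∀ y ∈ P, y ∉ Subgroup.zpowers z → ∀ g, g * y = y * g → g ∈ P
  fus : ∀ g, g * z * g⁻¹ ∈ P → g * z * g⁻¹ ∈ Subgroup.zpowers z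

namespace Flip

variable {P : Subgroup Q} {z n : Q}

theorem z_le (h : Flip P z n) : Subgroup.zpowers z ≤ P := Subgroup.zpowers_le.mpr h.mem

theorem n_inv (h : Flip P z n) : n⁻¹ = n := inv_eq_of_mul_eq_one_right h.sq

theorem n_not_mem (h : Flip P z n) : n ∉ P := fun hn => by
  have e := h.inv z h.mem
  rw [h.comm n hn z h.mem, mul_inv_cancel_right] at e
  have h2 : z * z = 1 := mul_eq_one_iff_eq_inv.mpr e
  exact h.ne (by simpa [h2] using h.cube z h.mem)

theorem n_mem (h : Flip P z n) : n ∈ Subgroup.normalizer (P : Set Q) := by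
  rw [Subgroup.mem_normalizer_iff]
  intro p
  refine ⟨fun hp => by rw [h.inv p hp]; exact inv_mem hp, fun hp => ?_⟩
  have e := h.inv _ hp
  rw [h.n_inv, show n * (n * p * n) * n = (n * n) * p * (n * n) by group, h.sq, one_mul, mul_one] at e
  rw [e]
  simpa [h.n_inv] using inv_mem hp

theorem card_z (h : Flip P z n) : Nat.card (Subgroup.zpowers z) = 3 := by
  rw [Nat.card_zpowers]
  exact orderOf_eq_prime (by rw [pow_succ, pow_two, h.cube z h.mem]) h.ne

theorem isPGroup (h : Flip P z n) : IsPGroup 3 P :=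
  fun g => ⟨1, Subtype.ext (by simpa [pow_succ] using h.cube g g.2)⟩

/-- A 3-subgroup is conjugate into `P`. -/
theorem exists_conj (h : Flip P z n) {R : Subgroup Q} (hR : IsPGroup 3 R) :
    ∃ g : Q, ∀ r ∈ R, g * r * g⁻¹ ∈ P := by
  haveI : Fact (Nat.Prime 3) := ⟨Nat.prime_three⟩
  obtain ⟨A, hA⟩ := hR.exists_le_sylow
  let B : Sylow 3 Q := ⟨P, h.isPGroup, fun hQ hle => h.max _ hQ hle⟩
  obtain ⟨g, hg⟩ := MulAction.exists_smul_eq Q A B
  refine ⟨g, fun r hr => ?_⟩
  have e : P = ((g • A : Sylow 3 Q) : Subgroup Q) := by rw [hg]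
  rw [e, Sylow.coe_subgroup_smul]
  exact Subgroup.smul_mem_pointwise_smul r (MulAut.conj g) A (hA hr)

/-- A 3-subgroup containing a self-centralizing element lies in `P`. -/
theorem le_of_mem (h : Flip P z n) {R : Subgroup Q} (hR : IsPGroup 3 R) {y : Q} (hy : y ∈ P)
    (hyz : y ∉ Subgroup.zpowers z) (hyR : y ∈ R) : R ≤ P := by
  obtain ⟨g, hg⟩ := h.exists_conj hR
  intro r hr
  refine h.cent y hy hyz r ?_
  have e := h.comm _ (hg r hr) _ (hg y hyR)
  rw [conj_mul, conj_mul] at e
  exact mul_left_cancel (mul_right_cancel e)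

/-- No element outside `⟨z⟩` is a product of two conjugates of `z`. -/
theorem no_product (h : Flip P z n) {y u v : Q} (hy : y ∈ P) (hyz : y ∉ Subgroup.zpowers z)
    (hu : IsConj z u) (hv : IsConj z v) : u * v ≠ y := by
  classical
  intro huv
  haveI : Fact (Nat.Prime 3) := ⟨Nat.prime_three⟩
  obtain ⟨gu, hgu⟩ := isConj_iff.mp hu
  obtain ⟨gv, hgv⟩ := isConj_iff.mp hv
  have cu : u * u * u = 1 := by rw [← hgu, conj_mul, conj_mul, h.cube z h.mem]; simp
  have cv : v * v * v = 1 := by rw [← hgv, conj_mul, conj_mul, h.cube z h.mem]; simp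
  have cy : u * v * (u * v) * (u * v) = 1 := by rw [huv]; exact h.cube y hy
  -- the abelian part
  set a := u * v⁻¹ with ha
  set b := v⁻¹ * u with hb
  have hu2 : u * u = u⁻¹ := eq_inv_of_mul_eq_one_left cu
  have hv2 : v⁻¹ * v⁻¹ = v := by
    calc v⁻¹ * v⁻¹ = v⁻¹ * v⁻¹ * (v * v * v) := by rw [cv, mul_one]
      _ = v := by group
  have hab : a * b = u * v * u := by
    rw [ha, hb]
    calc u * v⁻¹ * (v⁻¹ * u) = u * (v⁻¹ * v⁻¹) * u := by group
      _ = _ := by rw [hv2]
  have hcomm : a * b = b * a := by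
    rw [hab, show b * a = (v * u * v)⁻¹ by
      rw [ha, hb]
      calc v⁻¹ * u * (u * v⁻¹) = v⁻¹ * (u * u) * v⁻¹ := by group
        _ = _ := by rw [hu2]; group]
    refine eq_inv_of_mul_eq_one_left ?_
    rw [show u * v * u * (v * u * v) = u * v * (u * v) * (u * v) by group, cy]
  set A := Subgroup.closure ({a, b} : Set Q) with hA
  have haA : a ∈ A := Subgroup.subset_closure (by simp)
  have hA2 : ∀ p ∈ A, ∀ q ∈ A, q * p = p * q := by
    have hA1 : A ≤ Subgroup.centralizer ({a, b} : Set Q) := by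
      rw [hA, Subgroup.closure_le]
      rintro p (rfl | rfl) <;>
        exact Subgroup.mem_centralizer_iff.mpr (by rintro q (rfl | rfl) <;> simp [hcomm])
    intro p hp
    have h2 : A ≤ Subgroup.centralizer ({p} : Set Q) := by
      rw [hA, Subgroup.closure_le]
      intro q hq
      exact Subgroup.mem_centralizer_singleton_iff.mpr (Subgroup.mem_centralizer_iff.mp (hA1 hp) q hq)
    exact fun q hq => Subgroup.mem_centralizer_singleton_iff.mp (h2 hq)
  have hnu : ∀ p ∈ A, u * p * u⁻¹ ∈ A := by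
    have h3 : A ≤ A.comap (MulAut.conj u).toMonoidHom := by
      rw [hA, Subgroup.closure_le]
      rintro p (rfl | rfl)
      · show u * a * u⁻¹ ∈ A
        rw [show u * a * u⁻¹ = (a * b)⁻¹ by
          rw [hab, ha]
          calc u * (u * v⁻¹) * u⁻¹ = (u * u) * v⁻¹ * u⁻¹ := by group
            _ = _ := by rw [hu2]; group]
        exact A.inv_mem (A.mul_mem haA (Subgroup.subset_closure (by simp)))
      · show u * b * u⁻¹ ∈ A
        rw [show u * b * u⁻¹ = a by rw [ha, hb]; group]
        exact haA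
    exact h3
  have hUA : Subgroup.zpowers u ≤ Subgroup.normalizer (A : Set Q) := by
    rw [Subgroup.zpowers_le]
    refine Subgroup.mem_normalizer_iff_map_conj_eq.mpr (Subgroup.eq_of_le_of_card_ge ?_ (le_of_eq
      (Subgroup.card_map_of_injective (MulAut.conj u).injective).symm))
    rintro _ ⟨p, hp, rfl⟩
    exact hnu p hp
  set K := A ⊔ Subgroup.zpowers u with hK
  have hAK : K ≤ Subgroup.normalizer (A : Set Q) := sup_le Subgroup.le_normalizer hUA
  have huK : u ∈ K := Subgroup.mem_sup_right (Subgroup.mem_zpowers u)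
  have hvu : v = a⁻¹ * u := by rw [ha]; group
  have hyK : y ∈ K := huv ▸ mul_mem huK (hvu ▸ mul_mem (inv_mem (Subgroup.mem_sup_left haA)) huK)
  -- a conjugate of `u` in `P`
  have hp : ∀ w : Q, w * w * w = 1 → IsPGroup 3 (Subgroup.zpowers w) := by
    intro w hw x
    obtain ⟨x, i, rfl⟩ := x
    refine ⟨1, Subtype.ext ?_⟩
    show (w ^ i) ^ 3 ^ 1 = 1
    rw [pow_one, ← zpow_natCast, ← zpow_mul, mul_comm, zpow_mul, zpow_natCast, pow_succ, pow_two, hw,
      one_zpow]
  obtain ⟨Ty, hTy⟩ := ((hp y (h.cube y hy)).comap_subtype (K := K)).exists_le_sylow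
  obtain ⟨Tu, hTu⟩ := ((hp u cu).comap_subtype (K := K)).exists_le_sylow
  obtain ⟨k, hk⟩ := MulAction.exists_smul_eq K Tu Ty
  have hTP : ((Ty : Subgroup K).map K.subtype) ≤ P := h.le_of_mem (Ty.2.map _) hy hyz
    ⟨⟨y, hyK⟩, hTy (Subgroup.mem_zpowers y), rfl⟩
  set u' := (k : Q) * u * (k : Q)⁻¹ with hu'
  have hu'P : u' ∈ P := hTP ⟨k * ⟨u, huK⟩ * k⁻¹, by
    rw [← hk]
    exact Subgroup.smul_mem_pointwise_smul _ (MulAut.conj k) _ (hTu (Subgroup.mem_zpowers u)), rfl⟩
  have hu'z : u' ∈ Subgroup.zpowers z := by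
    have e : u' = (k * gu : Q) * z * (k * gu : Q)⁻¹ := by rw [hu', ← hgu]; group
    rw [e]
    exact h.fus _ (e ▸ hu'P)
  have hd : u' * u⁻¹ ∈ A := by
    obtain ⟨p, hp, w, hw, hpw⟩ : ∃ p ∈ A, ∃ w ∈ Subgroup.zpowers u, p * w = (k : Q) := by
      have hk' : (k : Q) ∈ ((A ⊔ Subgroup.zpowers u : Subgroup Q) : Set Q) := k.2
      rw [Subgroup.coe_mul_of_right_le_normalizer_left A _ hUA] at hk'
      exact Set.mem_mul.mp hk'
    obtain ⟨i, rfl⟩ := Subgroup.mem_zpowers_iff.mp hw
    rw [hu', ← hpw, show p * u ^ i * u * (p * u ^ i)⁻¹ * u⁻¹ = p * (u * p⁻¹ * u⁻¹) by group]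
    exact A.mul_mem hp (hnu _ (A.inv_mem hp))
  have hN : ∀ p ∈ A, ∀ k ∈ K, k * p * k⁻¹ ∈ A := fun p hp k hk =>
    (Subgroup.mem_normalizer_iff.mp (hAK hk) p).mp hp
  set w := (u' * u')⁻¹ * y with hw
  have hwA : w ∈ A := by
    have hu'K : u' ∈ K := mul_mem (mul_mem k.2 huK) (inv_mem k.2)
    have e : w = u'⁻¹ * (u'⁻¹ * (u' * u⁻¹)⁻¹ * u') * u' * (u'⁻¹ * (u' * u⁻¹)⁻¹ * u') *
        (u⁻¹ * a⁻¹ * u) := by
      rw [hw, ← huv, hvu]; group
    have k1 := hN _ (A.inv_mem hd) u'⁻¹ (inv_mem hu'K)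
    rw [inv_inv] at k1
    have k2 := hN _ (A.inv_mem haA) u⁻¹ (inv_mem huK)
    rw [inv_inv] at k2
    rw [e]
    have k3 := hN _ k1 u'⁻¹ (inv_mem hu'K)
    rw [inv_inv] at k3
    exact A.mul_mem (A.mul_mem k3 k1) k2
  have huz : u' * u' ∈ Subgroup.zpowers z := mul_mem hu'z hu'z
  have hwP : w ∈ P := mul_mem (inv_mem (h.z_le huz)) hy
  have hwz : w ∉ Subgroup.zpowers z := fun e => hyz (by
    have := mul_mem huz e
    rwa [hw, mul_inv_cancel_left] at this)
  have hAP : A ≤ P := fun p hp => h.cent w hwP hwz p (hA2 w hwA p hp)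
  have huP : u ∈ P := by
    have := mul_mem (inv_mem (hAP hd)) hu'P
    rwa [show (u' * u⁻¹)⁻¹ * u' = u by group] at this
  have hvP : v ∈ P := hvu ▸ mul_mem (inv_mem (hAP haA)) huP
  refine hyz (huv ▸ mul_mem ?_ ?_)
  · rw [← hgu] at huP ⊢; exact h.fus _ huP
  · rw [← hgv] at hvP ⊢; exact h.fus _ hvP

/-- The character argument. -/
theorem exists_proper (h : Flip P z n) : ∃ K : Subgroup Q, K.Normal ∧ K ≠ ⊤ ∧ z ∈ K := by
  classical
  haveI : Fintype Q := Fintype.ofFinite Q
  set N := Subgroup.normalizer (P : Set Q) with hN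
  have hPN : P ≤ N := Subgroup.le_normalizer
  let nN : N := ⟨n, h.n_mem⟩
  have hor : ∀ x : N, (x : Q) ∈ P ∨ ∃ p ∈ P, (x : Q) = p * n := fun x => by
    rcases h.nor x x.2 with e | e
    · exact Or.inl e
    · exact Or.inr ⟨_, e, by rw [mul_assoc, h.sq, mul_one]⟩
  let PN : Subgroup N := P.subgroupOf N
  have hPc : Nat.card PN = 9 := by
    rw [Nat.card_congr (Subgroup.subgroupOfEquivOfLe hPN).toEquiv, h.card]
  have hidx : PN.index = 2 := Subgroup.index_eq_two_iff.mpr ⟨nN, fun x => by
    rcases h.nor x x.2 with e | e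
    · exact Or.inr ⟨e, fun e' => h.n_not_mem (by
        simpa [nN] using mul_mem (inv_mem e) (show (x : Q) * n ∈ P from e'))⟩
    · exact Or.inl ⟨e, fun e' => h.n_not_mem (by
        simpa using mul_mem (inv_mem (show (x : Q) ∈ P from e')) e)⟩⟩
  have hNc : Nat.card N = 18 := by rw [← PN.card_mul_index, hidx, hPc]
  let Z := Subgroup.zpowers z
  have hzn : ∀ w ∈ Z, n * w * n⁻¹ ∈ Z := fun w hw => by rw [h.inv w (h.z_le hw)]; exact inv_mem hw
  let B : Subgroup N :=
    { carrier := {x | (x : Q) ∈ Z ∨ (x : Q) * n ∈ Z}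
      one_mem' := Or.inl (one_mem _)
      mul_mem' := fun {x y} hx hy => by
        rcases hx with hx | hx <;> rcases hy with hy | hy
        · exact Or.inl (mul_mem hx hy)
        · refine Or.inr ?_
          show (x : Q) * y * n ∈ Z
          rw [mul_assoc]; exact mul_mem hx hy
        · refine Or.inr ?_
          show (x : Q) * y * n ∈ Z
          rw [show (x : Q) * y * n = x * n * (n⁻¹ * y * n) by group]
          refine mul_mem hx ?_
          have := hzn _ hy
          rwa [h.n_inv] at this ⊢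
        · refine Or.inl ?_
          show (x : Q) * y ∈ Z
          rw [show (x : Q) * y = x * n * (n * ((y : Q) * n) * n) by
            rw [show n * ((y : Q) * n) * n = n * y * (n * n) by group, h.sq, mul_one,
              show (x : Q) * n * (n * y) = x * (n * n) * y by group, h.sq, mul_one]]
          refine mul_mem hx ?_
          have := hzn _ hy
          rwa [h.n_inv] at this
      inv_mem' := fun {x} hx => by
        rcases hx with hx | hx
        · exact Or.inl (inv_mem hx)
        · refine Or.inr ?_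
          show (x : Q)⁻¹ * n ∈ Z
          have := hzn _ (inv_mem hx)
          rwa [show n * ((x : Q) * n)⁻¹ * n⁻¹ = n * n⁻¹ * ((x : Q)⁻¹ * n⁻¹) by group, mul_inv_cancel,
            one_mul, h.n_inv] at this }
  have hBP : ∀ x : N, x ∈ B → (x : Q) ∈ P → (x : Q) ∈ Z := fun x hx hxP => hx.resolve_right fun e =>
    h.n_not_mem (by simpa using mul_mem (inv_mem hxP) (h.z_le e))
  have hnB : nN ∈ B := Or.inr (by show n * n ∈ Z; rw [h.sq]; exact one_mem _)
  have hBc : Nat.card B = 6 := by
    have hi : (Z.subgroupOf N).subgroupOf B = PN.subgroupOf B := by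
      ext x
      exact ⟨fun e => h.z_le e, fun e => hBP x x.2 e⟩
    have h2 : (PN.subgroupOf B).index = 2 := Subgroup.index_eq_two_iff.mpr ⟨⟨nN, hnB⟩, fun x => by
      rcases h.nor (x : N) (x : N).2 with e | e
      · exact Or.inr ⟨e, fun e' => h.n_not_mem (by
          simpa [nN] using mul_mem (inv_mem e) (show ((x : N) : Q) * n ∈ P from e'))⟩
      · exact Or.inl ⟨e, fun e' => h.n_not_mem (by
          simpa using mul_mem (inv_mem (show ((x : N) : Q) ∈ P from e')) e)⟩⟩
    have h3 := (PN.subgroupOf B).card_mul_index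
    have hZB : Z.subgroupOf N ≤ B := fun x hx => Or.inl hx
    rw [h2, ← hi, Nat.card_congr (Subgroup.subgroupOfEquivOfLe hZB).toEquiv,
      Nat.card_congr (Subgroup.subgroupOfEquivOfLe (h.z_le.trans hPN)).toEquiv, h.card_z] at h3
    omega
  let f : N → ℂ := (fun _ => (1 : ℂ)) + indFun PN (fun _ => (1 : ℂ)) - indFun B (fun _ => (1 : ℂ))
  have hgen : IsGeneralizedCharacter N f := isGeneralized_sub
    (isGeneralized_add isGeneralized_one (isGeneralized_indFun _ isGeneralized_one))
    (isGeneralized_indFun _ isGeneralized_one)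
  have hind : ∀ (H : Subgroup N) (g : N), indFun H (fun _ => (1 : ℂ)) g =
      (Nat.card H : ℂ)⁻¹ * (Nat.card {x : N // x⁻¹ * g * x ∈ H} : ℂ) := by
    intro H g
    simp only [indFun]
    congr 1
    rw [Nat.card_eq_fintype_card, Fintype.card_subtype, Finset.natCast_card_filter]
    refine Finset.sum_congr rfl fun x _ => ?_
    by_cases hx : x⁻¹ * g * x ∈ H
    · rw [if_pos hx, extendByZero]
      exact Subtype.val_injective.extend_apply _ _ (⟨_, hx⟩ : H)
    · rw [if_neg hx, extendByZero]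
      exact Function.extend_apply' _ _ _ (by rintro ⟨a, ha⟩; exact hx (ha ▸ a.2))
  haveI : PN.Normal := Subgroup.normal_of_index_eq_two hidx
  have hfP : ∀ g : N, (g : Q) ∈ P → indFun PN (fun _ => (1 : ℂ)) g = 2 := by
    intro g hg
    rw [hind, hPc, Nat.card_congr (Equiv.subtypeUnivEquiv fun x => by
      simpa using (inferInstance : PN.Normal).conj_mem g hg x⁻¹), hNc]
    norm_num
  have hfP' : ∀ g : N, (g : Q) ∉ P → indFun PN (fun _ => (1 : ℂ)) g = 0 := by
    intro g hg
    haveI : IsEmpty {x : N // x⁻¹ * g * x ∈ PN} := ⟨fun x => hg (by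
      have := (inferInstance : PN.Normal).conj_mem _ x.2 x.1
      rwa [show x.1 * (x.1⁻¹ * g * x.1) * x.1⁻¹ = g by group] at this)⟩
    rw [hind, Nat.card_of_isEmpty (α := {x : N // x⁻¹ * g * x ∈ PN}), Nat.cast_zero, mul_zero]
  have hzc : ∀ w ∈ Z, ∀ x : N, (x : Q) * w * (x : Q)⁻¹ ∈ Z := fun w hw x => by
    rcases hor x with e | ⟨p, hp, e⟩
    · rw [h.comm _ e _ (h.z_le hw), mul_inv_cancel_right]; exact hw
    · rw [e, show p * n * w * (p * n)⁻¹ = p * (n * w * n⁻¹) * p⁻¹ by group,
        h.comm _ hp _ (h.z_le (hzn w hw)), mul_inv_cancel_right]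
      exact hzn w hw
  have hval : ∀ g : N, f g = if (g : Q) ∈ P ∧ (g : Q) ∉ Z then 3 else 0 := by
    intro g
    show 1 + indFun PN _ g - indFun B _ g = _
    by_cases hg : (g : Q) ∈ P
    · rw [hfP g hg]
      by_cases hgz : (g : Q) ∈ Z
      · rw [if_neg (fun e => e.2 hgz), hind, hBc, Nat.card_congr (Equiv.subtypeUnivEquiv fun x => by
          exact Or.inl (by simpa using hzc _ hgz x⁻¹)), hNc]
        norm_num
      · rw [if_pos ⟨hg, hgz⟩, hind]
        haveI : IsEmpty {x : N // x⁻¹ * g * x ∈ B} := ⟨fun x => hgz (by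
          have hP : ((x.1⁻¹ * g * x.1 : N) : Q) ∈ P := by
            have := (inferInstance : PN.Normal).conj_mem g hg x.1⁻¹
            rw [inv_inv] at this
            exact this
          have := hzc _ (hBP _ x.2 hP) x.1
          simpa [mul_assoc] using this)⟩
        rw [Nat.card_of_isEmpty (α := {x : N // x⁻¹ * g * x ∈ B}), Nat.cast_zero, mul_zero]
        norm_num
    · rw [hfP' g hg, if_neg (fun e => hg e.1), hind, hBc]
      obtain ⟨p, hp, hgp⟩ := (hor g).resolve_left hg
      -- conjugate to the involution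
      set q : Q := p * p with hq
      let qN : N := ⟨q, hPN (mul_mem hp hp)⟩
      have hgq : g = qN * nN * qN⁻¹ := Subtype.ext (by
        show (g : Q) = q * n * q⁻¹
        rw [hgp, show q * n * q⁻¹ = q * (n * q⁻¹ * n⁻¹) * n by group,
          h.inv _ (inv_mem (mul_mem hp hp)), inv_inv, hq,
          show p * p * (p * p) = p * p * p * p by group, h.cube p hp, one_mul])
      have e : {x : N // x⁻¹ * g * x ∈ B} ≃ B :=
        Equiv.subtypeEquiv (Equiv.mulLeft qN⁻¹) fun x => by
          rw [hgq, show x⁻¹ * (qN * nN * qN⁻¹) * x = (qN⁻¹ * x)⁻¹ * nN * (qN⁻¹ * x) by group]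
          show _ ↔ qN⁻¹ * x ∈ B
          generalize qN⁻¹ * x = y
          refine ⟨fun hy => ?_, fun hy => B.mul_mem (B.mul_mem (B.inv_mem hy) hnB) hy⟩
          rcases hor y with hyP | ⟨r, hr, hyr⟩
          · have hy' : ((y : Q)⁻¹ * n * y) ∈ Z ∨ ((y : Q)⁻¹ * n * y) * n ∈ Z := hy
            have e1 : (y : Q)⁻¹ * n * y * n = (y : Q)⁻¹ * (y : Q)⁻¹ := by
              rw [← h.inv _ hyP, h.n_inv]; group
            refine Or.inl ?_
            rcases hy' with hy' | hy'
            · exfalso
              refine h.n_not_mem ?_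
              have := mul_mem (mul_mem hyP (h.z_le hy')) (inv_mem hyP)
              rwa [show (y : Q) * ((y : Q)⁻¹ * n * y) * (y : Q)⁻¹ = n by group] at this
            · rw [e1] at hy'
              have h4 := mul_mem hy' hy'
              rwa [show (y : Q)⁻¹ * (y : Q)⁻¹ * ((y : Q)⁻¹ * (y : Q)⁻¹) =
                (y : Q)⁻¹ * ((y : Q) * y * y)⁻¹ by group, h.cube _ hyP, inv_one, mul_one,
                inv_mem_iff] at h4
          · have hy' : ((y : Q)⁻¹ * n * y) ∈ Z ∨ ((y : Q)⁻¹ * n * y) * n ∈ Z := hy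
            have e0 : (y : Q)⁻¹ * n * y = n * (r⁻¹ * n * r) * n := by
              rw [hyr, mul_inv_rev, h.n_inv]; group
            have e1 : r⁻¹ * n * r * n = r⁻¹ * r⁻¹ := by
              rw [← h.inv _ hr, h.n_inv]; group
            refine Or.inr ?_
            rw [hyr, mul_assoc, h.sq, mul_one]
            rcases hy' with hy' | hy'
            · exfalso
              refine h.n_not_mem ?_
              rw [e0] at hy'
              have h5 := h.z_le (hzn _ hy')
              rw [h.n_inv, show n * (n * (r⁻¹ * n * r) * n) * n = n * n * (r⁻¹ * n * r) * (n * n) by group,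
                h.sq, one_mul, mul_one] at h5
              have := mul_mem (mul_mem hr h5) (inv_mem hr)
              rwa [show r * (r⁻¹ * n * r) * r⁻¹ = n by group] at this
            · have h5 := hzn _ hy'
              rw [e0, h.n_inv, show n * (n * (r⁻¹ * n * r) * n * n) * n =
                (n * n) * (r⁻¹ * n * r) * (n * n) * n by group, h.sq, one_mul, mul_one, e1] at h5
              have h4 := mul_mem h5 h5
              rwa [show r⁻¹ * r⁻¹ * (r⁻¹ * r⁻¹) = r⁻¹ * (r * r * r)⁻¹ by group, h.cube _ hr,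
                inv_one, mul_one, inv_mem_iff] at h4
      rw [Nat.card_congr e, hBc]
      norm_num
  let S : Set Q := {x | x ∈ P ∧ x ∉ Z}
  have hcount : (Finset.univ.filter fun g : N => (g : Q) ∈ P ∧ (g : Q) ∉ Z).card = 6 := by
    rw [← Fintype.card_subtype, ← Nat.card_eq_fintype_card,
      Nat.card_congr (show {g : N // (g : Q) ∈ P ∧ (g : Q) ∉ Z} ≃ ↥((P : Set Q) \ (Z : Set Q)) from
        ⟨fun g => ⟨g.1, g.2⟩, fun x => ⟨⟨x.1, hPN x.2.1⟩, x.2⟩, fun _ => rfl, fun _ => rfl⟩),
      Nat.card_coe_set_eq, Set.ncard_sdiff (show (Z : Set Q) ⊆ P from h.z_le), ← Nat.card_coe_set_eq,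
      ← Nat.card_coe_set_eq]
    show Nat.card P - Nat.card Z = 6
    rw [h.card, h.card_z]
  have hone : classInner f (fun _ => (1 : ℂ)) = 1 := by
    simp only [classInner, map_one, mul_one, hval]
    rw [Finset.sum_ite, Finset.sum_const_zero, add_zero, Finset.sum_const, hcount, hNc]
    norm_num
  have hnorm : classInner f f = 3 := by
    have e : classInner f f = 3 * classInner f (fun _ => (1 : ℂ)) := by
      simp only [classInner, Finset.mul_sum]
      refine Finset.sum_congr rfl fun g _ => ?_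
      rw [hval]
      split <;> simp only [map_zero, map_ofNat, map_one] <;> ring
    rw [e, hone, mul_one]
  have hTI : ∀ g : Q, g ∉ N → ∀ x ∈ S, g * x * g⁻¹ ∈ S → x = 1 := by
    rintro g hg x ⟨hx, hxz⟩ ⟨hy, hyz⟩
    refine absurd ?_ hg
    refine Subgroup.mem_normalizer_iff_map_conj_eq.mpr (Subgroup.eq_of_le_of_card_ge ?_ (le_of_eq
      (Subgroup.card_map_of_injective (MulAut.conj g).injective).symm))
    rintro _ ⟨m, hm, rfl⟩
    refine h.cent _ hy hyz _ ?_
    show g * m * g⁻¹ * (g * x * g⁻¹) = g * x * g⁻¹ * (g * m * g⁻¹)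
    rw [conj_mul, conj_mul, h.comm m hm x hx]
  have hsupp : ∀ g : N, (g : Q) ∉ S → f g = 0 := fun g hg => by
    rw [hval, if_neg (show ¬ ((g : Q) ∈ P ∧ (g : Q) ∉ Z) from hg)]
  have h1 : f 1 = 0 := by rw [hval, if_neg]; exact fun e => e.2 (one_mem _)
  refine CfsgLib.NineTI.exists_normal_of_norm_three N S hTI f hgen hsupp h1 hnorm hone z
    (fun g hg => hg.2 (h.fus g hg.1)) fun g hg u v hu hv => ?_
  rw [hval] at hg
  split at hg
  · rename_i hS
    exact h.no_product hS.1 hS.2 hu hv
  · exact absurd rfl hg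

/-- `⟨z⟩` is normal. -/
theorem conj_mem (h : Flip P z n) (g : Q) : g * z * g⁻¹ ∈ Subgroup.zpowers z := by
  classical
  haveI : Fact (Nat.Prime 3) := ⟨Nat.prime_three⟩
  obtain ⟨K, hK, hKtop, hzK⟩ := h.exists_proper
  haveI := hK
  set M := K ⊔ P with hM
  have hnM : n ∉ M := by
    intro hn
    obtain ⟨k, hk, p, hp, hkp⟩ := Subgroup.mem_sup_of_normal_left.mp hn
    by_cases hy : ∃ y ∈ P, y ∉ Subgroup.zpowers z ∧ y ∈ K
    · obtain ⟨y, hyP, hyz, hyK⟩ := hy
      have hzy : Subgroup.zpowers z < Subgroup.zpowers z ⊔ Subgroup.zpowers y :=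
        lt_of_le_of_ne le_sup_left fun e => hyz (e.ge (Subgroup.mem_sup_right (Subgroup.mem_zpowers y)))
      have hle : Subgroup.zpowers z ⊔ Subgroup.zpowers y ≤ P :=
        sup_le h.z_le (Subgroup.zpowers_le.mpr hyP)
      have hPK : P ≤ K := by
        refine (Subgroup.eq_of_le_of_card_ge hle ?_).ge.trans
          (sup_le (Subgroup.zpowers_le.mpr hzK) (Subgroup.zpowers_le.mpr hyK))
        have hd : Nat.card ↥(Subgroup.zpowers z ⊔ Subgroup.zpowers y) ∣ 3 ^ 2 :=
          (show (3 : ℕ) ^ 2 = Nat.card P by rw [h.card]; norm_num) ▸ Subgroup.card_dvd_of_le hle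
        obtain ⟨i, hi, e⟩ := (Nat.dvd_prime_pow Nat.prime_three).mp hd
        have h3 : Nat.card ↥(Subgroup.zpowers z ⊔ Subgroup.zpowers y) ≠ 3 := fun e' => hzy.ne
          (Subgroup.eq_of_le_of_card_ge hzy.le (by rw [e', h.card_z]))
        have h3' := Subgroup.card_le_of_le hzy.le
        rw [h.card_z] at h3'
        rw [h.card, e] at *
        interval_cases i <;> simp_all
      have hnK : n ∈ K := hkp ▸ mul_mem hk (hPK hp)
      let B : Sylow 3 Q := ⟨P, h.isPGroup, fun hQ hle => h.max _ hQ hle⟩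
      have htop := Sylow.normalizer_sup_eq_top (Sylow.subtype B (show (B : Subgroup Q) ≤ K from hPK))
      have hmap : ((Sylow.subtype B (show (B : Subgroup Q) ≤ K from hPK) : Sylow 3 K) : Subgroup K).map
          K.subtype = P := by
        show (P.subgroupOf K).map K.subtype = P
        rw [Subgroup.subgroupOf_map_subtype, inf_eq_left]
        exact hPK
      rw [hmap] at htop
      refine hKtop (eq_top_iff.mpr (htop.ge.trans (sup_le (fun x hx => ?_) le_rfl)))
      rcases h.nor x hx with e | e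
      · exact hPK e
      · have := mul_mem (hPK e) hnK
        rwa [mul_assoc, h.sq, mul_one] at this
    · push Not at hy
      obtain ⟨y, hyP, hyz⟩ : ∃ y ∈ P, y ∉ Subgroup.zpowers z := by
        by_contra e
        push Not at e
        have := Subgroup.card_le_of_le (show P ≤ Subgroup.zpowers z from e)
        rw [h.card, h.card_z] at this
        omega
      refine hy y hyP hyz ?_
      have hk' : k = n * p⁻¹ := by rw [← hkp, mul_inv_cancel_right]
      have hc : k * y * k⁻¹ * y⁻¹ ∈ K := by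
        rw [show k * y * k⁻¹ * y⁻¹ = k * (y * k⁻¹ * y⁻¹) by group]
        exact mul_mem hk (hK.conj_mem _ (inv_mem hk) y)
      rwa [hk', show n * p⁻¹ * y * (n * p⁻¹)⁻¹ = n * (p⁻¹ * y * p) * n⁻¹ by group,
        h.comm _ (inv_mem hp) _ hyP, inv_mul_cancel_right, h.inv y hyP,
        show y⁻¹ * y⁻¹ = y by
          rw [← mul_inv_rev]; exact inv_eq_of_mul_eq_one_right (h.cube y hyP)] at hc
  have hPM : P ≤ M := le_sup_right
  let S : Sylow 3 M := Sylow.subtype (⟨P, h.isPGroup, fun hQ hle => h.max _ hQ hle⟩ : Sylow 3 Q) hPM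
  have hcomp := CfsgLib.Transfer.hasNormalPComplement_of_normalizer_le_centralizer S fun g hg => by
    refine Subgroup.mem_centralizer_iff.mpr fun m hm => Subtype.ext ?_
    show (m : Q) * g = g * m
    have hgN : (g : Q) ∈ Subgroup.normalizer (P : Set Q) := by
      rw [Subgroup.mem_normalizer_iff]
      intro q
      constructor
      · intro hq
        exact (Subgroup.mem_normalizer_iff.mp hg ⟨q, hPM hq⟩).mp hq
      · intro hq
        have hqM : q ∈ M := by
          have := mul_mem (mul_mem (inv_mem g.2) (hPM hq)) g.2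
          rwa [show (g : Q)⁻¹ * ((g : Q) * q * (g : Q)⁻¹) * g = q by group] at this
        exact (Subgroup.mem_normalizer_iff.mp hg ⟨q, hqM⟩).mpr hq
    rcases h.nor g hgN with e | e
    · exact h.comm _ hm _ e
    · exact absurd (by simpa using mul_mem (inv_mem g.2) (hPM e)) hnM
  obtain ⟨T, L, hL, hTL⟩ := hcomp
  haveI := hL
  have hLc : ¬ 3 ∣ Nat.card L := by
    intro hd
    have h1 := hTL.card_mul_card
    have h2 := T.not_dvd_index
    have h4 := (T : Subgroup M).card_mul_index
    rw [← h1] at h4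
    rw [mul_comm (Nat.card L)] at h4
    exact h2 (Nat.eq_of_mul_eq_mul_left Nat.card_pos h4 ▸ hd)
  have hMle : M ≤ Subgroup.centralizer ({z} : Set Q) := by
    haveI : IsMulCommutative P := ⟨⟨fun p q => Subtype.ext (h.comm p p.2 q q.2)⟩⟩
    set L' := L.map M.subtype with hL'
    have hPL : P ≤ Subgroup.normalizer (L' : Set Q) := fun p hp => by
      refine Subgroup.mem_normalizer_iff_map_conj_eq.mpr (Subgroup.eq_of_le_of_card_ge ?_ (le_of_eq
        (Subgroup.card_map_of_injective (MulAut.conj p).injective).symm))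
      rintro _ ⟨_, ⟨l, hl, rfl⟩, rfl⟩
      exact ⟨⟨p, hPM hp⟩ * l * (⟨p, hPM hp⟩ : M)⁻¹, hL.conj_mem _ hl _, rfl⟩
    have hL3 : ¬ 3 ∣ Nat.card L' := by rwa [hL', Subgroup.card_map_of_injective M.subtype_injective]
    have hcop : (Nat.card P).Coprime (Nat.card L') := by
      rw [h.card, show (9 : ℕ) = 3 ^ 2 by norm_num]
      exact (Nat.prime_three.coprime_iff_not_dvd.mpr hL3).pow_left 2
    have hnc : ¬ IsCyclic P := CfsgLib.Coprime.not_isCyclic_of_exponent (p := 3)
      (fun p hp => by rw [pow_succ, pow_two, h.cube p hp]) (by norm_num) (by rw [h.card]; norm_num)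
    have hLz : L' ≤ Subgroup.centralizer ({z} : Set Q) :=
      CfsgLib.Coprime.le_of_centralizer_le hnc hPL hcop fun y hy hy1 => by
        intro l hl
        by_cases hyz : y ∈ Subgroup.zpowers z
        · refine Subgroup.mem_centralizer_singleton_iff.mpr ?_
          have hle : Subgroup.zpowers z ≤ Subgroup.centralizer ({l} : Set Q) := by
            have : Subgroup.zpowers y = Subgroup.zpowers z :=
              Subgroup.eq_of_le_of_card_ge (Subgroup.zpowers_le.mpr hyz) (le_of_eq (by
                rw [h.card_z, Nat.card_zpowers,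
                  orderOf_eq_prime (p := 3) (by rw [pow_succ, pow_two, h.cube y hy]) hy1]))
            rw [← this, Subgroup.zpowers_le]
            exact Subgroup.mem_centralizer_singleton_iff.mpr
              (Subgroup.mem_centralizer_singleton_iff.mp hl.2).symm
          exact (Subgroup.mem_centralizer_singleton_iff.mp (hle (Subgroup.mem_zpowers z))).symm
        · refine Subgroup.mem_centralizer_singleton_iff.mpr (h.comm _ ?_ _ h.mem)
          exact h.cent y hy hyz l (Subgroup.mem_centralizer_singleton_iff.mp hl.2)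
    have hPz : P ≤ Subgroup.centralizer ({z} : Set Q) := fun p hp =>
      Subgroup.mem_centralizer_singleton_iff.mpr (h.comm p hp z h.mem)
    have hsup : (S : Subgroup M) ⊔ L = ⊤ := by
      refine Subgroup.eq_top_of_card_eq _ (le_antisymm (Subgroup.card_le_card_group _) ?_)
      have hd1 := Subgroup.card_dvd_of_le (le_sup_left : (S : Subgroup M) ≤ (S : Subgroup M) ⊔ L)
      have hd2 := Subgroup.card_dvd_of_le (le_sup_right : L ≤ (S : Subgroup M) ⊔ L)
      have hco : (Nat.card (S : Subgroup M)).Coprime (Nat.card L) := by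
        obtain ⟨i, hi⟩ := S.2.exists_card_eq
        rw [hi]
        exact (Nat.prime_three.coprime_iff_not_dvd.mpr hLc).pow_left i
      have := Nat.le_of_dvd Nat.card_pos (hco.mul_dvd_of_dvd_of_dvd hd1 hd2)
      rw [show Nat.card (S : Subgroup M) = Nat.card (T : Subgroup M) from
        S.card_eq_multiplicity.trans T.card_eq_multiplicity.symm, mul_comm, hTL.card_mul_card] at this
      exact this
    intro m hm
    have : (⟨m, hm⟩ : M) ∈ (S : Subgroup M) ⊔ L := hsup ▸ Subgroup.mem_top _
    have h2 : m ∈ ((S : Subgroup M) ⊔ L).map M.subtype := ⟨_, this, rfl⟩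
    rw [Subgroup.map_sup] at h2
    refine sup_le ?_ hLz h2
    rintro _ ⟨x, hx, rfl⟩
    exact hPz hx
  set w := g * z * g⁻¹ with hw
  have hwz : w * z = z * w :=
    Subgroup.mem_centralizer_singleton_iff.mp (hMle (Subgroup.mem_sup_left (hK.conj_mem z hzK g)))
  have hp : IsPGroup 3 ↥(Subgroup.closure ({w, z} : Set Q)) := by
    have hcl : ∀ x ∈ Subgroup.closure ({w, z} : Set Q), x * x * x = 1 ∧
        x * w = w * x ∧ x * z = z * x := by
      intro x hx
      induction hx using Subgroup.closure_induction with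
      | mem x hx =>
        rcases hx with rfl | rfl
        · exact ⟨by rw [hw, conj_mul, conj_mul, h.cube z h.mem]; simp, rfl, hwz⟩
        · exact ⟨h.cube _ h.mem, hwz.symm, rfl⟩
      | one => simp
      | mul x y hx hy ix iy =>
        have hxy : Commute x y := by
          have hle : Subgroup.closure ({w, z} : Set Q) ≤ Subgroup.centralizer ({x} : Set Q) := by
            rw [Subgroup.closure_le]
            rintro u (rfl | rfl)
            · exact Subgroup.mem_centralizer_singleton_iff.mpr ix.2.1.symm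
            · exact Subgroup.mem_centralizer_singleton_iff.mpr ix.2.2.symm
          exact (Subgroup.mem_centralizer_singleton_iff.mp (hle hy)).symm
        refine ⟨?_, ((show Commute x w from ix.2.1).mul_left iy.2.1).eq,
          ((show Commute x z from ix.2.2).mul_left iy.2.2).eq⟩
        have := hxy.mul_pow 3
        simp only [pow_succ, pow_zero, one_mul] at this
        rw [this, ix.1, iy.1, one_mul]
      | inv x hx ix =>
        refine ⟨?_, ((show Commute x w from ix.2.1).inv_left).eq, ((show Commute x z from ix.2.2).inv_left).eq⟩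
        rw [show x⁻¹ * x⁻¹ * x⁻¹ = (x * x * x)⁻¹ by group, ix.1, inv_one]
    intro x
    exact ⟨1, Subtype.ext (by simpa [pow_succ] using (hcl x x.2).1)⟩
  obtain ⟨c, hc⟩ := h.exists_conj hp
  have h1 : c * z * c⁻¹ ∈ Subgroup.zpowers z := h.fus c (hc z (Subgroup.subset_closure (by simp)))
  have h2 : c * g * z * (c * g)⁻¹ ∈ Subgroup.zpowers z :=
    h.fus (c * g) (by
      rw [show c * g * z * (c * g)⁻¹ = c * w * c⁻¹ by rw [hw]; group]
      exact hc w (Subgroup.subset_closure (by simp)))
  have hcN : c ∈ Subgroup.normalizer (Subgroup.zpowers z : Set Q) := by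
    refine Subgroup.mem_normalizer_iff_map_conj_eq.mpr (Subgroup.eq_of_le_of_card_ge ?_ (le_of_eq
      (Subgroup.card_map_of_injective (MulAut.conj c).injective).symm))
    rw [MonoidHom.map_zpowers, Subgroup.zpowers_le]
    exact h1
  refine (Subgroup.mem_normalizer_iff.mp hcN w).mpr ?_
  rwa [show c * g * z * (c * g)⁻¹ = c * w * c⁻¹ by rw [hw]; group] at h2

end Flip

end CfsgLib.PSpFourThree
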