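import Cfsg.Agent.Lib.PSpFourThree.KindTwoCent
import Cfsg.Agent.Lib.PSpFourThree.Inverted
import Cfsg.Agent.Lib.PSpFourThree.KindFour
import Cfsg.Agent.S0077
import Cfsg.Agent.S0215

/-!
The kind whose automizer is `2 × S₃`: `⟨a⟩` is normal.
-/

set_option autoImplicit false
set_option maxRecDepth 20000
set_option linter.style.haveILetI false
set_option linter.unusedSectionVars false

namespace CfsgLib.PSpFourThree

open CfsgLib.SymNineThree CfsgLib.SymNineThree.Mon CfsgLib.PSpFourLocal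
open scoped commutatorElement

attribute [local instance 2000] List.decidableBAll List.decidableBEx

theorem two_nt : ((List.range 1296).all fun x => !inK 1 x || !Nat.beq (mulM x 432) (mulM 432 x) ||
    inT x || inT (mulM x 432) || inT (mulM x 129) || inT (mulM x (mulM 129 432))) = true := by
  decide +kernel

theorem two_p0 : Fintype.card {v : Fin 27 //
    Nat.beq (mulM 432 (trC v)) (mulM (trC v) 432) = true} = 9 := by decide +kernel

theorem two_els : inK 0 432 = true ∧ inK 1 129 = true ∧ mulM 432 432 = 0 ∧ mulM 129 129 = 0 ∧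
    mulM 129 432 = mulM 432 129 ∧ inT 432 = false ∧ inT 129 = false ∧ inT (mulM 129 432) = false ∧
    mulM 432 (trC 9) = mulM (trC 9) 432 := by decide +kernel

theorem two_invert : ∀ v : Fin 27, of 129 * tr (v : ℕ) * (of 129)⁻¹ * tr (v : ℕ) = 1 := by decide +kernel

theorem sl_no_three : ∀ u : S23, u * u * u = 1 →
    (∀ g : S23, g * u * g⁻¹ * u⁻¹ * (g * u * g⁻¹ * u⁻¹) * (g * u * g⁻¹ * u⁻¹) = 1) → u = 1 := by
  decide +kernel

/-- A square in a subgroup gives membership for elements of odd order. -/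
theorem mem_of_sq {G : Type*} [Group G] {H : Subgroup G} {x : G} (ho : Odd (orderOf x))
    (h : x * x ∈ H) : x ∈ H := by
  obtain ⟨m, hm⟩ := ho
  have h1 : x ^ orderOf x = 1 := pow_orderOf_eq_one x
  rw [hm, pow_succ, pow_mul, pow_two] at h1
  rw [eq_inv_of_mul_eq_one_right h1]
  exact inv_mem (pow_mem h m)

/-- An element with no commuting conjugate other than itself is isolated in 2-groups. -/
theorem isolated_of_comm {G : Type*} [Group G] {t : G} (ht : t * t = 1)
    (h : ∀ g : G, g * t * g⁻¹ * t = t * (g * t * g⁻¹) → g * t * g⁻¹ = t) (g : G)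
    (hp : ∃ m : ℕ, (t * (g * t * g⁻¹)) ^ 2 ^ m = 1) : g * t * g⁻¹ = t := by
  classical
  set j := g * t * g⁻¹ with hj
  set w := t * j with hw
  have hj2 : j * j = 1 := by
    rw [hj, show g * t * g⁻¹ * (g * t * g⁻¹) = g * (t * t) * g⁻¹ by group, ht, mul_one, mul_inv_cancel]
  have htinv : t⁻¹ = t := inv_eq_of_mul_eq_one_right ht
  have hwt : t * w * t⁻¹ = w⁻¹ := by
    rw [hw, mul_inv_rev, htinv, inv_eq_of_mul_eq_one_right hj2, ← mul_assoc t t j, ht, one_mul]
  set m := Nat.find hp with hm0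
  have hm : w ^ 2 ^ m = 1 := Nat.find_spec hp
  have hmin : ∀ i < m, w ^ 2 ^ i ≠ 1 := fun i hi => Nat.find_min hp hi
  rcases Nat.lt_or_ge m 2 with h2 | h2
  · refine h g ?_
    have hw2 : w * w = 1 := by
      interval_cases m
      · simp only [pow_zero, pow_one] at hm; rw [hm, one_mul]
      · rwa [pow_one, pow_two] at hm
    have := eq_inv_of_mul_eq_one_left hw2
    rw [hw, mul_inv_rev, htinv, inv_eq_of_mul_eq_one_right hj2] at this
    exact this.symm
  · exfalso
    set c := w ^ 2 ^ (m - 2) with hc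
    have hc4 : c * c * (c * c) = 1 := by
      rw [hc, ← pow_add, ← pow_add, ← hm]
      congr 1
      rw [show m = m - 2 + 1 + 1 by omega, pow_succ, pow_succ, show m - 2 + 1 + 1 - 2 = m - 2 by omega]
      omega
    have hcc : c * c ≠ 1 := by
      rw [hc, ← pow_add, ← two_mul, ← pow_succ', show m - 2 + 1 = m - 1 by omega]
      exact hmin _ (by omega)
    have hct : t * c * t⁻¹ = c⁻¹ := by rw [hc, ← conj_pow, hwt, inv_pow]
    have e1 : c * t * c⁻¹ = c * c * t := by
      calc c * t * c⁻¹ = c * (t * c⁻¹ * t⁻¹) * t := by group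
        _ = c * c * t := by rw [show t * c⁻¹ * t⁻¹ = (t * c * t⁻¹)⁻¹ by group, hct, inv_inv]
    have hcomm : c * t * c⁻¹ * t = t * (c * t * c⁻¹) := by
      rw [e1, show t * (c * c * t) = (t * c * t⁻¹) * (t * c * t⁻¹) * (t * t) by group, hct,
        mul_assoc (c * c) t t, ht, mul_one, mul_one, ← mul_inv_rev]
      exact eq_inv_of_mul_eq_one_left hc4
    have h' : c * t * c⁻¹ = t := h c hcomm
    rw [e1, mul_eq_right] at h'
    exact hcc h'

namespace Ctx

variable {G : Type*} [Group G] [Finite G] (X : Ctx G)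

/-- Elements of order three of `C` whose conjugates commutate with cube one lie in `R`. -/
theorem mem_R_of {x : G} (hx : x ∈ X.C) (h3 : X.f x * X.f x * X.f x = 1)
    (h : ∀ c ∈ X.C, X.f (c * x * c⁻¹ * x⁻¹) * X.f (c * x * c⁻¹ * x⁻¹) * X.f (c * x * c⁻¹ * x⁻¹) = 1) :
    x ∈ X.R := by
  refine (X.f_eq_one hx).mp (sl_no_three _ h3 fun g => ?_)
  obtain ⟨c, hc, rfl⟩ := X.f_surj g
  have := h c hc
  rwa [X.f_mul (mul_mem (mul_mem hc hx) (inv_mem hc)) (inv_mem hx), X.f_mul (mul_mem hc hx) (inv_mem hc),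
    X.f_mul hc hx, X.f_inv hc, X.f_inv hx] at this

/-- Normalizers of `Z` normalize `C` and `R`. -/
theorem conj_C {g c : G} (hg : g * X.a * g⁻¹ ∈ X.Z) (hc : c ∈ X.C) : g * c * g⁻¹ ∈ X.C := by
  have hga : g * X.a * g⁻¹ ≠ 1 := fun e => X.a_ne (conj_eq_one_iff.mp e)
  have h1 : g * c * g⁻¹ * (g * X.a * g⁻¹) = g * X.a * g⁻¹ * (g * c * g⁻¹) := by
    rw [conj_mul, conj_mul, X.a_comm hc]
  refine mem_centralizer_iff'.mpr ?_
  rcases X.mem_Z.mp hg with e | e | e
  · exact absurd e hga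
  · rwa [e] at h1
  · rw [e] at h1
    have h2 : Commute (g * c * g⁻¹) (X.a * X.a) := h1
    have := h2.mul_right h2
    rwa [show X.a * X.a * (X.a * X.a) = X.a * X.a * X.a * X.a by group, X.a_cube, one_mul] at this

theorem conj_R {g r : G} (hg : g * X.a * g⁻¹ ∈ X.Z) (hr : r ∈ X.R) : g * r * g⁻¹ ∈ X.R := by
  have hg' : g⁻¹ * X.a * g⁻¹⁻¹ ∈ X.Z := by
    have hN : g ∈ Subgroup.normalizer (X.Z : Set G) := mem_of_map_conj _ fun z hz => by
      rcases X.mem_Z.mp hz with rfl | rfl | rfl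
      · simp
      · exact hg
      · rw [show g * (X.a * X.a) * g⁻¹ = g * X.a * g⁻¹ * (g * X.a * g⁻¹) by group]
        exact mul_mem hg hg
    exact (Subgroup.mem_normalizer_iff.mp (inv_mem hN) _).mp (Subgroup.mem_zpowers _)
  have hC := X.conj_C hg (X.R_le hr)
  refine X.mem_R_of hC ?_ fun c hc => ?_
  · rw [← X.f_mul hC hC, ← X.f_mul (mul_mem hC hC) hC, conj_mul, conj_mul, X.cubeR hr]
    simp [X.f_one]
  · have hc' := X.conj_C hg' hc
    rw [inv_inv] at hc'
    have hd : g⁻¹ * c * g * r * (g⁻¹ * c * g)⁻¹ * r⁻¹ ∈ X.R := mul_mem (X.R_normal hc' hr) (inv_mem hr)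
    have hdC := X.conj_C hg (X.R_le hd)
    rw [show c * (g * r * g⁻¹) * c⁻¹ * (g * r * g⁻¹)⁻¹ =
      g * (g⁻¹ * c * g * r * (g⁻¹ * c * g)⁻¹ * r⁻¹) * g⁻¹ by group,
      ← X.f_mul hdC hdC, ← X.f_mul (mul_mem hdC hdC) hdC, conj_mul, conj_mul, X.cubeR hd]
    simp [X.f_one]

/-- An element normalizing `R` and inverting `a` with square one fixes an element outside `Z`. -/
theorem exists_fixed {i : G} (hi : i * i = 1) (hinv : i * X.a * i⁻¹ = X.a⁻¹) :
    ∃ r ∈ X.R, r ∉ X.Z ∧ i * r = r * i := by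
  by_contra h
  push Not at h
  have hia : i * X.a * i⁻¹ ∈ X.Z := by rw [hinv]; exact inv_mem (Subgroup.mem_zpowers _)
  let φ : X.R →* X.R :=
    { toFun := fun r => ⟨i * r * i⁻¹, X.conj_R hia r.2⟩
      map_one' := Subtype.ext (by simp)
      map_mul' := fun r s => Subtype.ext (by simp [mul_assoc]) }
  have hfix : MonoidHom.FixedPointFree φ := by
    intro r hr
    have e : i * (r : G) * i⁻¹ = r := congrArg Subtype.val hr
    by_contra hne
    by_cases hz : (r : G) ∈ X.Z
    · have h2 : i * (r : G) * i⁻¹ = (r : G)⁻¹ := by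
        rcases X.mem_Z.mp hz with e' | e' | e'
        · exact absurd (Subtype.ext e') hne
        · rw [e', hinv]
        · rw [e', show i * (X.a * X.a) * i⁻¹ = i * X.a * i⁻¹ * (i * X.a * i⁻¹) by group, hinv, mul_inv_rev]
      exact hne (Subtype.ext (X.R_sq r.2 (mul_eq_one_iff_eq_inv.mpr (e.symm.trans h2))))
    · exact h r r.2 hz (mul_inv_eq_iff_eq_mul.mp e)
  have hinvol : Function.Involutive φ := fun r => Subtype.ext (by
    show i * (i * (r : G) * i⁻¹) * i⁻¹ = r
    rw [inv_eq_of_mul_eq_one_right hi, show i * (i * (r : G) * i) * i = i * i * r * (i * i) by group, hi]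
    simp)
  have hc : Subgroup.center X.R = ⊤ := eq_top_iff.mpr fun r _ =>
    Subgroup.mem_center_iff.mpr fun s => (hfix.commute_all_of_involutive hinvol s r).eq
  have := X.center_R
  rw [hc, Subgroup.card_top, X.card_R] at this
  omega

/-- Involutions of `C` are conjugate. -/
theorem invol_conj {t j : G} (ht : t ∈ X.C) (ht2 : t * t = 1) (htf : X.f t = -1) (hj : j ∈ X.C)
    (hj2 : j * j = 1) (hjf : X.f j = -1) : ∃ r ∈ X.R, j = r * t * r⁻¹ ∧ j = t * r := by
  set r := t * j with hr'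
  have htinv : t⁻¹ = t := inv_eq_of_mul_eq_one_right ht2
  have hr : r ∈ X.R := (X.f_eq_one (mul_mem ht hj)).mp (by rw [X.f_mul ht hj, htf, hjf]; exact sl_neg.1)
  have hjr : j = t * r := by rw [hr', ← mul_assoc, ht2, one_mul]
  have htr : t * r * t = r⁻¹ := by
    rw [hr', mul_inv_rev, inv_eq_of_mul_eq_one_right hj2, htinv, ← mul_assoc t t j, ht2, one_mul]
  have hrr : r⁻¹ * r⁻¹ = r := by
    calc r⁻¹ * r⁻¹ = r⁻¹ * r⁻¹ * (r * r * r) := by rw [X.cubeR hr, mul_one]
      _ = r := by group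
  refine ⟨r, hr, ?_, hjr⟩
  rw [hjr]
  calc t * r = t * (r⁻¹ * r⁻¹) := by rw [hrr]
    _ = t * (t * r * t) * r⁻¹ := by rw [htr, mul_assoc]
    _ = r * t * r⁻¹ := by rw [← mul_assoc t (t * r), ← mul_assoc t t r, ht2, one_mul]

end Ctx

namespace Coord

variable {G : Type*} [Group G] [Finite G] {X : Ctx G} (U : Coord X)

/-- The involution of `C`. -/
noncomputable def tt : G := U.f (of 432)
/-- The element inverting `J`. -/
noncomputable def nn : G := U.f (of 129)

theorem tt_facts (hk : U.k = 1) : of 432 ∈ Kd U.k ∧ of 129 ∈ Kd U.k ∧ U.tt ∈ X.C ∧ U.tt * U.tt = 1 ∧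
    U.tt ≠ 1 ∧ X.f U.tt = -1 ∧ U.nn * U.nn = 1 ∧ U.nn * U.tt = U.tt * U.nn ∧
    (∀ j ∈ X.J, U.nn * j * U.nn⁻¹ = j⁻¹) := by
  obtain ⟨e1, e2, e3, e4, e5, e6, -, -, -⟩ := two_els
  have h4 : of 432 ∈ Kd 0 := mem_Kd_of (by norm_num) e1
  have h4k : of 432 ∈ Kd U.k := Kd_mono h4
  have h1k : of 129 ∈ Kd U.k := by rw [hk]; exact mem_Kd_of (by norm_num) e2
  have hC : U.tt ∈ X.C := U.f_mem_C h4
  have h42 : of 432 * of 432 = 1 := code_eq.mpr (by rw [code_mul, code_of (by norm_num), e3, code_one])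
  have ht2 : U.tt * U.tt = 1 := by rw [tt, ← U.f_mul h4k h4k, h42, U.f_one]
  have ht1 : U.tt ≠ 1 := fun e => by
    have h := (U.f_mem_J h4k).mp (show U.f (of 432) ∈ X.J by rw [show U.f (of 432) = 1 from e]; exact one_mem _)
    have h' : inT (of 432).c = true := h
    rw [code_of (by norm_num), e6] at h'
    exact Bool.false_ne_true h'
  refine ⟨h4k, h1k, hC, ht2, ht1, X.f_invol hC ht2 ht1, ?_, ?_, fun j hj => ?_⟩
  · rw [nn, ← U.f_mul h1k h1k, show of 129 * of 129 = 1 from code_eq.mpr (by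
      rw [code_mul, code_of (by norm_num), e4, code_one]), U.f_one]
  · rw [nn, tt]
    exact (U.f_comm h1k h4k).mpr (comm_iff.mpr (by rw [code_of (by norm_num), code_of (by norm_num)]; exact e5))
  · obtain ⟨v, hv, rfl⟩ := U.exists_ι hj
    refine eq_inv_of_mul_eq_one_left ?_
    rw [ι, nn, ← U.f_conj h1k (tr_mem hv),
      ← U.f_mul ((Kd U.k).mul_mem ((Kd U.k).mul_mem h1k (tr_mem hv)) ((Kd U.k).inv_mem h1k)) (tr_mem hv),
      show of 129 * tr v * (of 129)⁻¹ * tr v = 1 from two_invert ⟨v, hv⟩, U.f_one]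

include U in
/-- Conjugates in `J` of elements of `⟨a⟩`. -/
theorem conj_Z_mem (hk : U.k = 1) {z g : G} (hz : z ∈ X.Z) (h : g * z * g⁻¹ ∈ X.J) :
    g * z * g⁻¹ ∈ X.Z := by
  rcases X.mem_Z.mp hz with rfl | rfl | rfl
  · simp
  · exact U.conj_a_mem hk h
  · rw [← conj_mul]
    have h' : g * X.a * g⁻¹ ∈ X.J := by
      have := mul_mem h h
      rwa [conj_mul, show X.a * X.a * (X.a * X.a) = X.a * X.a * X.a * X.a by group, X.a_cube, one_mul] at this
    exact mul_mem (U.conj_a_mem hk h') (U.conj_a_mem hk h')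

include U in
/-- The centralizer of the involution normalizes `⟨a⟩`. -/
theorem cent_tt (hk : U.k = 1) {g : G} (hg : g * U.tt = U.tt * g) : g * X.a * g⁻¹ ∈ X.Z := by
  classical
  haveI : Fact (Nat.Prime 3) := ⟨Nat.prime_three⟩
  obtain ⟨h4k, h1k, htC, ht2, ht1, -, hn2, hnt, hninv⟩ := U.tt_facts hk
  set t := U.tt with ht
  set Ct := Subgroup.centralizer ({t} : Set G) with hCt
  let tH : Ct := ⟨t, mem_centralizer_iff'.mpr rfl⟩
  let nH : Ct := ⟨U.nn, mem_centralizer_iff'.mpr hnt⟩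
  set T := (Subgroup.zpowers t).subgroupOf Ct with hT
  haveI : T.Normal := ⟨fun z hz x => by
    have hc : x * z = z * x := Subtype.ext (by
      obtain ⟨i, hi⟩ := Subgroup.mem_zpowers_iff.mp (show (z : G) ∈ Subgroup.zpowers t from hz)
      show (x : G) * z = z * x
      rw [← hi]
      exact ((show Commute (x : G) t from mem_centralizer_iff'.mp x.2).zpow_right i).eq)
    rw [hc, mul_inv_cancel_right]; exact hz⟩
  let π := QuotientGroup.mk' T
  have hker : π.ker = T := QuotientGroup.ker_mk' T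
  have hmemT : ∀ x : G, x ∈ Subgroup.zpowers t ↔ x = 1 ∨ x = t := by
    intro x
    constructor
    · intro hx
      rw [← mem_powers_iff_mem_zpowers, Submonoid.mem_powers_iff] at hx
      obtain ⟨m, rfl⟩ := hx
      rw [pow_eq_pow_mod m (show t ^ 2 = 1 by rw [pow_two, ht2])]
      rcases (show m % 2 = 0 ∨ m % 2 = 1 by omega) with e | e <;> rw [e] <;> simp
    · rintro (rfl | rfl)
      · exact one_mem _
      · exact Subgroup.mem_zpowers _
  have hπ : ∀ x y : Ct, π x = π y ↔ (x : G) = y ∨ (x : G) = y * t := by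
    intro x y
    rw [eq_comm, ← inv_mul_eq_one, ← map_inv, ← map_mul, ← MonoidHom.mem_ker, hker, hT,
      Subgroup.mem_subgroupOf, hmemT]
    simp only [Subgroup.coe_mul, Subgroup.coe_inv, inv_mul_eq_one]
    exact ⟨fun h => h.imp Eq.symm fun e => by rw [← e]; group, fun h => h.imp Eq.symm fun e => by
      rw [e]; group⟩
  have hc3 : ∀ x p : Ct, (x : G) * x * x = 1 → (p : G) * p * p = 1 → π x = π p → (x : G) = p := by
    intro x p hx hp hxp
    refine ((hπ x p).mp hxp).resolve_right fun e => ht1 ?_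
    have hpt : (p : G) * t = t * p := mem_centralizer_iff'.mp p.2
    rw [e, show (p : G) * t * (p * t) * (p * t) = (p : G) * (t * p) * ((t * p) * t) by group,
      ← hpt, show (p : G) * (p * t) * (p * t * t) = (p : G) * p * (t * p) * (t * t) by group, ← hpt, ht2,
      mul_one, ← mul_assoc, hp, one_mul] at hx
    exact hx
  set P0 : Subgroup G := X.J ⊓ Ct with hP0
  have hP0C : P0 ≤ Ct := inf_le_right
  have hcard0 : Nat.card P0 = 9 := by
    have hiff : ∀ v : ℕ, v < 27 → (U.ι v ∈ Ct ↔ Nat.beq (mulM 432 (trC v)) (mulM (trC v) 432) = true) := by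
      intro v hv
      rw [hCt, mem_centralizer_iff', Nat.beq_eq, ht, tt, ι, eq_comm, U.f_comm h4k (tr_mem hv), comm_iff,
        code_of (by norm_num), code_tr hv]
    rw [← two_p0, ← Nat.card_eq_fintype_card]
    refine (Nat.card_congr (Equiv.ofBijective
      (fun v : {v : Fin 27 // Nat.beq (mulM 432 (trC v)) (mulM (trC v) 432) = true} =>
        (⟨U.ι v.1, U.ι_mem v.1.isLt, (hiff _ v.1.isLt).mpr v.2⟩ : P0)) ⟨fun p q e => ?_, fun p => ?_⟩)).symm
    · exact Subtype.ext (Fin.ext (U.ι_inj p.1.isLt q.1.isLt (congrArg Subtype.val e)))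
    · obtain ⟨v, hv, e⟩ := U.exists_ι p.2.1
      exact ⟨⟨⟨v, hv⟩, (hiff v hv).mp (e ▸ p.2.2)⟩, Subtype.ext e.symm⟩
  set P := (P0.subgroupOf Ct).map π with hP
  let F : P0 →* Ct ⧸ T := π.comp (Subgroup.inclusion hP0C)
  have hFinj : Function.Injective F := fun p q e =>
    Subtype.ext (hc3 ⟨p, hP0C p.2⟩ ⟨q, hP0C q.2⟩ (X.cube' p.2.1) (X.cube' q.2.1) e)
  have hcardP : Nat.card P = 9 := by
    have hr : F.range = P := by
      ext q
      constructor
      · rintro ⟨p, rfl⟩; exact ⟨⟨p, hP0C p.2⟩, p.2, rfl⟩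
      · rintro ⟨p, hp, rfl⟩; exact ⟨⟨p, hp⟩, rfl⟩
    rw [← hr, ← hcard0]
    exact Nat.card_congr (MonoidHom.ofInjective hFinj).toEquiv.symm
  set z : Ct ⧸ T := π ⟨X.a, mem_centralizer_iff'.mpr (X.a_comm htC).symm⟩ with hz
  have haP0 : X.a ∈ P0 := ⟨X.a_mem_J, mem_centralizer_iff'.mpr (X.a_comm htC).symm⟩
  -- four cosets
  have hfour : ∀ x : Ct, (x : G) ∈ Subgroup.normalizer (X.J : Set G) → π x ∈ P ∨ π x * π nH ∈ P := by
    intro x hx
    obtain ⟨m, hm, e⟩ := U.exists_f hx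
    have hc : Nat.beq (mulM (m.c : ℕ) 432) (mulM 432 m.c) = true := by
      have := mem_centralizer_iff'.mp x.2
      rw [e, ht, tt] at this
      have h := comm_iff.mp ((U.f_comm hm h4k).mp this)
      rw [code_of (by norm_num)] at h
      rwa [Nat.beq_eq]
    have hm1 : inK 1 m.c = true := by
      have := mem_Kd.mp hm
      rwa [hk] at this
    have h := List.all_eq_true.mp two_nt _ (List.mem_range.mpr m.c.isLt)
    simp only [hm1, hc, Bool.not_true, Bool.false_or, Bool.or_eq_true] at h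
    have hJ : ∀ s : Mon, s ∈ Kd U.k → inT (mulM (m.c : ℕ) s.c) = true → (x : G) * U.f s ∈ X.J := by
      intro s hs h'
      rw [e, ← U.f_mul hm hs, U.f_mem_J ((Kd U.k).mul_mem hm hs)]
      show inT (m * s).c = true
      rwa [code_mul]
    have hmk : ∀ y : Ct, (y : G) ∈ X.J → π y ∈ P := fun y hy => ⟨y, ⟨hy, y.2⟩, rfl⟩
    have hπt : π tH = 1 := by
      rw [← MonoidHom.mem_ker, hker]; exact Subgroup.mem_zpowers t
    rcases h with ((h | h) | h) | h
    · exact Or.inl (hmk x (e ▸ (U.f_mem_J hm).mpr h))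
    · refine Or.inl ?_
      have := hmk (x * tH) (hJ _ h4k (by rwa [code_of (by norm_num)]))
      rwa [map_mul, hπt, mul_one] at this
    · refine Or.inr ?_
      have := hmk (x * nH) (hJ _ h1k (by rwa [code_of (by norm_num)]))
      rwa [map_mul] at this
    · refine Or.inr ?_
      have := hmk (x * (nH * tH)) (by
        have h2 := hJ _ ((Kd U.k).mul_mem h1k h4k) (by
          rwa [code_mul, code_of (by norm_num), code_of (by norm_num)])
        rwa [U.f_mul h1k h4k] at h2)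
      rwa [map_mul, map_mul, hπt, mul_one] at this
  have hmemP : ∀ q ∈ P, ∃ p : Ct, (p : G) ∈ P0 ∧ π p = q := fun q ⟨p, hp, e⟩ => ⟨p, hp, e⟩
  have hlift : ∀ x p : Ct, (x : G) * x * x = 1 → π x = π p → (p : G) ∈ P0 → (x : G) ∈ P0 :=
    fun x p hx e hp => (hc3 x p hx (X.cube' hp.1) e).symm ▸ hp
  have hnor0 : ∀ x : Ct, π x ∈ Subgroup.normalizer (P : Set (Ct ⧸ T)) →
      ∀ p ∈ P0, (x : G) * p * (x : G)⁻¹ ∈ P0 := by
    intro x hx p hp
    have h1 := (Subgroup.mem_normalizer_iff.mp hx _).mp (show π ⟨p, hP0C hp⟩ ∈ P from ⟨⟨p, hP0C hp⟩, hp, rfl⟩)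
    obtain ⟨p', hp', e⟩ := hmemP _ h1
    refine hlift (x * ⟨p, hP0C hp⟩ * x⁻¹) p' ?_ (by rw [e, map_mul, map_mul, map_inv]) hp'
    show (x : G) * p * (x : G)⁻¹ * ((x : G) * p * (x : G)⁻¹) * ((x : G) * p * (x : G)⁻¹) = 1
    rw [conj_mul, conj_mul, X.cube' hp.1]; simp
  have hy9 : U.ι 9 ∈ P0 ∧ U.ι 9 ∉ X.Z := by
    refine ⟨⟨U.ι_mem (by norm_num), mem_centralizer_iff'.mpr ?_⟩, fun e => ?_⟩
    · rw [ht, tt, ι, eq_comm]
      exact (U.f_comm h4k (tr_mem (by norm_num))).mpr (comm_iff.mpr (by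
        rw [code_of (by norm_num), code_tr (by norm_num)]; exact two_els.2.2.2.2.2.2.2.2))
    · rcases (U.ι_Z (by norm_num)).mp e with e | e | e <;> norm_num at e
  have hnor : ∀ q ∈ Subgroup.normalizer (P : Set (Ct ⧸ T)), q ∈ P ∨ q * π nH ∈ P := by
    intro q hq
    obtain ⟨x, rfl⟩ := QuotientGroup.mk'_surjective T q
    refine hfour x (mem_of_map_conj _ fun j hj => ?_)
    have hy' := hnor0 x hq _ hy9.1
    have hy'Z : (x : G) * U.ι 9 * (x : G)⁻¹ ∉ X.Z := fun e => hy9.2 (by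
      have := U.conj_Z_mem hk e (g := (x : G)⁻¹) (by
        rw [show (x : G)⁻¹ * ((x : G) * U.ι 9 * (x : G)⁻¹) * (x : G)⁻¹⁻¹ = U.ι 9 by group]
        exact hy9.1.1)
      rwa [show (x : G)⁻¹ * ((x : G) * U.ι 9 * (x : G)⁻¹) * (x : G)⁻¹⁻¹ = U.ι 9 by group] at this)
    have hcm : (x : G) * j * (x : G)⁻¹ * ((x : G) * U.ι 9 * (x : G)⁻¹) =
        (x : G) * U.ι 9 * (x : G)⁻¹ * ((x : G) * j * (x : G)⁻¹) := by
      rw [conj_mul, conj_mul, X.comm _ hj _ hy9.1.1]
    refine U.cube_mem hk hy'.1 hy'Z (U.cent_off hk hy'.1 hy'Z hcm) hcm ?_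
    rw [conj_mul, conj_mul, X.cube' hj]; simp
  have hn0 : π nH ∉ P := by
    intro h
    obtain ⟨p, hp, e⟩ := hmemP _ h
    rcases (hπ nH p).mp e.symm with e' | e'
    · have h1 := (U.f_mem_J h1k).mp (show U.f (of 129) ∈ X.J by
        rw [show U.f (of 129) = (p : G) from e']; exact hp.1)
      have h2 : inT (of 129).c = true := h1
      rw [code_of (by norm_num), two_els.2.2.2.2.2.2.1] at h2
      exact Bool.false_ne_true h2
    · have h0 : U.nn * t ∈ X.J := by
        rw [show U.nn = (p : G) * t from e', mul_assoc, ht2, mul_one]; exact hp.1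
      rw [nn, ht, tt, ← U.f_mul h1k h4k] at h0
      have h2 : inT (of 129 * of 432).c = true := (U.f_mem_J ((Kd U.k).mul_mem h1k h4k)).mp h0
      rw [code_mul, code_of (by norm_num), code_of (by norm_num), two_els.2.2.2.2.2.2.2.1] at h2
      exact Bool.false_ne_true h2
  have hnsq : π nH * π nH = 1 := by
    rw [← map_mul, show nH * nH = 1 from Subtype.ext hn2, map_one]
  have hcube : ∀ q ∈ P, q * q * q = 1 := by
    rintro _ ⟨p, hp, rfl⟩
    rw [← map_mul, ← map_mul, show p * p * p = 1 from Subtype.ext (X.cube' hp.1), map_one]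
  have hinv : ∀ q ∈ P, π nH * q * (π nH)⁻¹ = q⁻¹ := by
    rintro _ ⟨p, hp, rfl⟩
    rw [← map_inv, ← map_mul, ← map_mul, ← map_inv]
    exact congrArg π (Subtype.ext (hninv _ hp.1))
  have hzP : z ∈ P := ⟨⟨X.a, mem_centralizer_iff'.mpr (X.a_comm htC).symm⟩, haP0, rfl⟩
  have hflip : Flip P z (π nH) := by
    refine ⟨hcardP, ?_, hcube, fun R hR hle => ?_, hzP, ?_, hnsq, hinv, hnor, fun q hq hqz x hx => ?_,
      fun q hq => ?_⟩
    · rintro _ ⟨p, hp, rfl⟩ _ ⟨q, hq, rfl⟩
      rw [← map_mul, ← map_mul, show p * q = q * p from Subtype.ext (X.comm _ hp.1 _ hq.1)]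
    · by_contra hne
      haveI := hR.isNilpotent
      have hlt : P.subgroupOf R < ⊤ := lt_top_iff_ne_top.mpr fun e =>
        hne (le_antisymm (Subgroup.subgroupOf_eq_top.mp e) hle)
      obtain ⟨q, hqN, hqP⟩ := SetLike.exists_of_lt
        (Group.normalizerCondition_of_isNilpotent (P.subgroupOf R) hlt)
      have hqn : (q : Ct ⧸ T) ∈ Subgroup.normalizer (P : Set (Ct ⧸ T)) := by
        refine Subgroup.mem_normalizer_iff_map_conj_eq.mpr (Subgroup.eq_of_le_of_card_ge ?_ (le_of_eq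
          (Subgroup.card_map_of_injective (MulAut.conj (q : Ct ⧸ T)).injective).symm))
        rintro _ ⟨p, hp, rfl⟩
        exact (Subgroup.mem_normalizer_iff.mp hqN ⟨p, hle hp⟩).mp hp
      rcases hnor _ hqn with e | e
      · exact hqP e
      · have hnR : π nH ∈ R := by simpa using mul_mem (inv_mem q.2) (hle e)
        obtain ⟨m, hm⟩ := hR ⟨π nH, hnR⟩
        have hm' : π nH ^ 3 ^ m = 1 := congrArg Subtype.val hm
        obtain ⟨l, hl⟩ : ∃ l, 3 ^ m = 2 * l + 1 := ⟨3 ^ m / 2, by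
          have := Nat.odd_iff.mp ((show Odd 3 by decide).pow (n := m)); omega⟩
        rw [hl, pow_succ, pow_mul, pow_two, hnsq, one_pow, one_mul] at hm'
        exact hn0 (hm' ▸ one_mem P)
    · intro e
      rw [← map_one π, hz, hπ] at e
      rcases e with e | e
      · exact X.a_ne e
      · have e' : X.a = t := e.trans (one_mul t)
        exact ht1 (by rw [← e']; exact (X.Z_sq (Subgroup.mem_zpowers _) (by rw [e']; exact ht2)))
    · obtain ⟨p, hp, rfl⟩ := hmemP q hq
      obtain ⟨x, rfl⟩ := QuotientGroup.mk'_surjective T x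
      have hpZ : (p : G) ∉ X.Z := by
        intro e
        refine hqz ?_
        obtain ⟨i, hi⟩ := Subgroup.mem_zpowers_iff.mp e
        refine Subgroup.mem_zpowers_iff.mpr ⟨i, ?_⟩
        rw [hz, ← map_zpow]
        exact congrArg π (Subtype.ext hi)
      have hx' : π x * π p * (π x)⁻¹ = π p := mul_inv_eq_iff_eq_mul.mpr hx
      have hxp : (x : G) * p * (x : G)⁻¹ = p :=
        hc3 (x * p * x⁻¹) p (by
          show (x : G) * p * (x : G)⁻¹ * ((x : G) * p * (x : G)⁻¹) * ((x : G) * p * (x : G)⁻¹) = 1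
          rw [conj_mul, conj_mul, X.cube' hp.1]; simp) (X.cube' hp.1) (by rw [map_mul, map_mul, map_inv, hx'])
      rcases hfour x (U.cent_off hk hp.1 hpZ (mul_inv_eq_iff_eq_mul.mp hxp)) with e | e
      · exact e
      · exfalso
        have hpP : π p ∈ P := ⟨p, hp, rfl⟩
        have h1 : π x * π nH * π p * (π x * π nH)⁻¹ = π p := by
          obtain ⟨p2, hp2, e2⟩ := hmemP _ e
          rw [← e2, show π p2 * π p = π p * π p2 by
            rw [← map_mul, ← map_mul, show p2 * p = p * p2 from Subtype.ext (X.comm _ hp2.1 _ hp.1)],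
            mul_inv_cancel_right]
        rw [show π x * π nH * π p * (π x * π nH)⁻¹ = π x * (π nH * π p * (π nH)⁻¹) * (π x)⁻¹ by group,
          hinv _ hpP, show π x * (π p)⁻¹ * (π x)⁻¹ = (π x * π p * (π x)⁻¹)⁻¹ by group, hx'] at h1
        have h2 : π p * π p = 1 := mul_eq_one_iff_eq_inv.mpr h1.symm
        have h3 := hcube _ hpP
        rw [h2, one_mul] at h3
        exact hqz (h3 ▸ one_mem _)
    · obtain ⟨x, rfl⟩ := QuotientGroup.mk'_surjective T q
      obtain ⟨p, hp, e⟩ := hmemP _ hq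
      let aC : Ct := ⟨X.a, hP0C haP0⟩
      have hxa : (x : G) * X.a * (x : G)⁻¹ ∈ P0 := by
        refine hlift (x * aC * x⁻¹) p ?_ ?_ hp
        · show (x : G) * X.a * (x : G)⁻¹ * ((x : G) * X.a * (x : G)⁻¹) * ((x : G) * X.a * (x : G)⁻¹) = 1
          rw [conj_mul, conj_mul, X.a_cube]; simp
        · rw [e, map_mul, map_mul, map_inv]
      obtain ⟨i, hi⟩ := Subgroup.mem_zpowers_iff.mp (U.conj_a_mem hk hxa.1)
      refine Subgroup.mem_zpowers_iff.mpr ⟨i, ?_⟩
      rw [hz, ← map_zpow, ← map_inv, ← map_mul, ← map_mul]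
      exact congrArg π (Subtype.ext hi)
  let gC : Ct := ⟨g, mem_centralizer_iff'.mpr hg⟩
  obtain ⟨i, hi⟩ := Subgroup.mem_zpowers_iff.mp (hflip.conj_mem (π gC))
  rw [hz, ← map_zpow, ← map_inv, ← map_mul, ← map_mul] at hi
  have h := hc3 _ (⟨X.a, hP0C haP0⟩ ^ i) (by
      show g * X.a * g⁻¹ * (g * X.a * g⁻¹) * (g * X.a * g⁻¹) = 1
      rw [conj_mul, conj_mul, X.a_cube]; simp) (by
      rw [Subgroup.coe_zpow]
      exact X.cube' (zpow_mem X.a_mem_J i)) hi.symm
  rw [show g * X.a * g⁻¹ = X.a ^ i by simpa using h]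
  exact zpow_mem (Subgroup.mem_zpowers _) i

include U in
/-- The smaller odd kind: `⟨a⟩` is normal. -/
theorem normalizer_eq_top (hk : U.k = 1) : Subgroup.normalizer (X.Z : Set G) = ⊤ := by
  classical
  haveI : Fact (Nat.Prime 2) := ⟨Nat.prime_two⟩
  haveI : Fact (Nat.Prime 3) := ⟨Nat.prime_three⟩
  obtain ⟨-, -, htC, ht2, ht1, htf, -, -, -⟩ := U.tt_facts hk
  set t := U.tt with ht
  have hcyc : ∀ y : G, y * X.a * y⁻¹ ∈ X.Z → y * X.a * y⁻¹ = X.a⁻¹ ∨ y ∈ X.C := by
    intro y hy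
    rcases X.mem_Z.mp hy with e | e | e
    · exact absurd (conj_eq_one_iff.mp e) X.a_ne
    · exact Or.inr (mem_centralizer_iff'.mpr (mul_inv_eq_iff_eq_mul.mp e))
    · exact Or.inl (e.trans (inv_eq_of_mul_eq_one_left X.a_cube).symm)
  -- no commuting conjugate
  have hcomm : ∀ g : G, g * t * g⁻¹ * t = t * (g * t * g⁻¹) → g * t * g⁻¹ = t := by
    intro g hg
    set j := g * t * g⁻¹ with hj
    have hj2 : j * j = 1 := by
      rw [hj, show g * t * g⁻¹ * (g * t * g⁻¹) = g * (t * t) * g⁻¹ by group, ht2, mul_one, mul_inv_cancel]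
    have hj1 : j ≠ 1 := fun e => ht1 (conj_eq_one_iff.mp e)
    rcases hcyc j (U.cent_tt hk hg) with hinv | hjC
    · exfalso
      obtain ⟨r, hr, hrZ, hjr⟩ := X.exists_fixed hj2 hinv
      have h7 : U.ι 7 ∉ X.Z := fun e => by
        rcases (U.ι_Z (by norm_num)).mp e with e | e | e <;> norm_num at e
      obtain ⟨c, hc, hcr⟩ := X.R_conj hr hrZ U.seven_mem_R h7
      set j' := c * j * c⁻¹ with hj'
      set h := c * g with hh
      have hjh : j' = h * t * h⁻¹ := by rw [hj', hh, hj]; group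
      have hja : j' * X.a * j'⁻¹ = X.a⁻¹ := by
        have e : c⁻¹ * X.a * c = X.a := by rw [mul_assoc, ← X.a_comm hc, inv_mul_cancel_left]
        rw [hj', show c * j * c⁻¹ * X.a * (c * j * c⁻¹)⁻¹ = c * (j * (c⁻¹ * X.a * c) * j⁻¹) * c⁻¹ by group,
          e, hinv, show c * X.a⁻¹ * c⁻¹ = (c * X.a * c⁻¹)⁻¹ by group, X.a_comm hc, mul_inv_cancel_right]
      set u := U.ι 7 with hu
      have hju : j' * u = u * j' := by
        rw [hj', ← hcr, conj_mul, conj_mul, hjr]
      -- `u` normalizes the conjugate of `⟨a⟩`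
      set a' := h * X.a * h⁻¹ with ha'
      have hut : h⁻¹ * u * h * t = t * (h⁻¹ * u * h) := by
        calc h⁻¹ * u * h * t = h⁻¹ * (u * (h * t * h⁻¹)) * h := by group
          _ = h⁻¹ * (h * t * h⁻¹ * u) * h := by rw [← hjh, hju]
          _ = _ := by group
      have hu3 : u * u * u = 1 := X.cube' (U.ι_mem (by norm_num))
      have hua : u * a' = a' * u := by
        rcases hcyc _ (U.cent_tt hk hut) with e | e
        · exfalso
          have hC2 : (h⁻¹ * u * h) * (h⁻¹ * u * h) ∈ X.C := mem_centralizer_iff'.mpr (by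
            refine mul_inv_eq_iff_eq_mul.mp ?_
            calc h⁻¹ * u * h * (h⁻¹ * u * h) * X.a * (h⁻¹ * u * h * (h⁻¹ * u * h))⁻¹
                = h⁻¹ * u * h * (h⁻¹ * u * h * X.a * (h⁻¹ * u * h)⁻¹) * (h⁻¹ * u * h)⁻¹ := by group
              _ = h⁻¹ * u * h * X.a⁻¹ * (h⁻¹ * u * h)⁻¹ := by rw [e]
              _ = (h⁻¹ * u * h * X.a * (h⁻¹ * u * h)⁻¹)⁻¹ := by group
              _ = X.a := by rw [e, inv_inv])
          have hC : h⁻¹ * u * h ∈ X.C := by
            have h4 := mul_mem hC2 hC2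
            rwa [show h⁻¹ * u * h * (h⁻¹ * u * h) * (h⁻¹ * u * h * (h⁻¹ * u * h)) = h⁻¹ * (u * u * u * u) * h
              by group, hu3, one_mul] at h4
          have h5 : X.a = X.a⁻¹ := by
            rw [← e, X.a_comm hC, mul_inv_cancel_right]
          exact X.a_ne (X.Z_sq (Subgroup.mem_zpowers _) (mul_eq_one_iff_eq_inv.mpr h5))
        · have h5 := X.a_comm e
          calc u * a' = h * (h⁻¹ * u * h * X.a) * h⁻¹ := by rw [ha']; group
            _ = h * (X.a * (h⁻¹ * u * h)) * h⁻¹ := by rw [h5]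
            _ = a' * u := by rw [ha']; group
      have ha'3 : a' * a' * a' = 1 := by rw [ha', conj_mul, conj_mul, X.a_cube]; simp
      have hN := U.cent_off hk (U.ι_mem (by norm_num)) h7 hua.symm
      have haJ := U.cube_mem hk (U.ι_mem (by norm_num)) h7 hN hua.symm ha'3
      have haZ : a' ∈ X.Z := U.conj_a_mem hk haJ
      have hja' : j' * a' * j'⁻¹ = a' := by
        rw [hjh, ha', show h * t * h⁻¹ * (h * X.a * h⁻¹) * (h * t * h⁻¹)⁻¹ = h * (t * X.a * t⁻¹) * h⁻¹ by group,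
          X.a_comm htC, mul_inv_cancel_right]
      have ha'1 : a' ≠ 1 := fun e => X.a_ne (conj_eq_one_iff.mp e)
      rcases X.mem_Z.mp haZ with e | e | e
      · exact ha'1 e
      · rw [e, hja] at hja'
        exact X.a_ne (X.Z_sq (Subgroup.mem_zpowers _) (mul_eq_one_iff_eq_inv.mpr hja'.symm))
      · rw [e, show j' * (X.a * X.a) * j'⁻¹ = j' * X.a * j'⁻¹ * (j' * X.a * j'⁻¹) by group, hja] at hja'
        have h8 : X.a * X.a * (X.a * X.a) = 1 := by
          nth_rw 1 [← hja']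
          group
        rw [show X.a * X.a * (X.a * X.a) = X.a * X.a * X.a * X.a by group, X.a_cube, one_mul] at h8
        exact X.a_ne h8
    · obtain ⟨r, hr, -, hjr⟩ := X.invol_conj htC ht2 htf hjC hj2 (X.f_invol hjC hj2 hj1)
      have hrt : t * r = r * t := by
        rw [hjr] at hg
        calc t * r = (t * r * t) * t := by rw [mul_assoc, mul_assoc, ht2, mul_one]
          _ = t * (t * r) * t := by rw [hg]
          _ = r * t := by rw [← mul_assoc, ht2, one_mul]
      have h2 : r * r = 1 := by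
        rw [hjr] at hj2
        rwa [show t * r * (t * r) = t * (r * t) * r by group, ← hrt, ← mul_assoc t t r, ht2, one_mul] at hj2
      rw [hjr, X.R_sq hr h2, mul_one]
  -- Glauberman
  obtain ⟨Q, hQ⟩ := (IsPGroup.of_card (n := 1) (G := Subgroup.zpowers t) (p := 2) (by
    rw [Nat.card_zpowers, pow_one]
    exact orderOf_eq_prime (by rw [pow_two, ht2]) ht1)).exists_le_sylow
  have htQ : t ∈ (Q : Subgroup G) := hQ (Subgroup.mem_zpowers t)
  obtain ⟨N, hN, hodd, hmemN⟩ := Cfsg.Agent.S0215.result Q t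
    (orderOf_eq_prime (by rw [pow_two, ht2]) ht1) htQ fun g hg => by
      refine isolated_of_comm ht2 hcomm g ?_
      obtain ⟨m, hm⟩ := Q.2 ⟨t * (g * t * g⁻¹), mul_mem htQ hg⟩
      exact ⟨m, congrArg Subtype.val hm⟩
  haveI := hN
  have hoddN : ∀ y ∈ N, Odd (orderOf y) := fun y hy => hodd.of_dvd_nat (by
    rw [← Subgroup.orderOf_mk y hy]; exact orderOf_dvd_natCard _)
  -- `R` lies in `N`
  have hRN : X.R ≤ N := by
    obtain ⟨r, -, hrR, hrZ⟩ := X.exists_r0
    set c := t * r * t⁻¹ * r⁻¹ with hc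
    have hcN : c ∈ N := hmemN r
    have hcR : c ∈ X.R := mul_mem (X.R_normal htC hrR) (inv_mem hrR)
    have hcZ : c ∉ X.Z := fun e => hrZ (X.neg_one_no_fix htC htf ht2 hrR e)
    have hall : ∀ s ∈ X.R, s ∉ X.Z → s ∈ N := fun s hs hsZ => by
      obtain ⟨g, -, rfl⟩ := X.R_conj hcR hcZ hs hsZ
      exact hN.conj_mem c hcN g
    have haN : X.a ∈ N := by
      have h1 : c⁻¹ * X.a ∉ X.Z := fun e => hcZ (by
        have := mul_mem e (inv_mem (Subgroup.mem_zpowers X.a))
        rw [mul_inv_cancel_right] at this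
        exact inv_mem_iff.mp this)
      have := mul_mem hcN (hall _ (mul_mem (inv_mem hcR) X.a_mem_R) h1)
      rwa [mul_inv_cancel_left] at this
    intro s hs
    by_cases hsZ : s ∈ X.Z
    · exact (Subgroup.zpowers_le.mpr haN) hsZ
    · exact hall s hs hsZ
  have hNC : ∀ x ∈ N, x ∈ X.C → x ∈ X.R := by
    have h3 : ∀ x ∈ N, x ∈ X.C → X.f x * X.f x * X.f x = 1 := by
      intro x hx hxC
      have hd : orderOf (X.f x) ∣ orderOf x := by
        refine orderOf_dvd_of_pow_eq_one ?_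
        rw [← X.f_pow hxC, pow_orderOf_eq_one, X.f_one]
      have hd24 : orderOf (X.f x) ∣ 24 := Ctx.card_S23 ▸ orderOf_dvd_natCard (X.f x)
      have ho := (hoddN x hx).of_dvd_nat hd
      have h3 : orderOf (X.f x) ∣ 3 := by
        have hle := Nat.le_of_dvd (by norm_num) hd24
        generalize orderOf (X.f x) = m at *
        clear hd
        interval_cases m <;> revert hd24 ho <;> decide
      rw [← pow_two, ← pow_succ]
      exact orderOf_dvd_iff_pow_eq_one.mp h3
    intro x hx hxC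
    refine X.mem_R_of hxC (h3 x hx hxC) fun c hc => ?_
    exact h3 _ (mul_mem (hN.conj_mem x hx c) (inv_mem hx))
      (mul_mem (mul_mem (mul_mem hc hxC) (inv_mem hc)) (inv_mem hxC))
  have hcentN : ∀ y ∈ N, y * X.a * y⁻¹ ∈ X.Z → y ∈ X.R := by
    intro y hy hya
    refine hNC y hy (mem_of_sq (hoddN y hy) ?_)
    rcases hcyc y hya with e | e
    · refine mem_centralizer_iff'.mpr (mul_inv_eq_iff_eq_mul.mp ?_)
      calc y * y * X.a * (y * y)⁻¹ = y * (y * X.a * y⁻¹) * y⁻¹ := by group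
        _ = y * X.a⁻¹ * y⁻¹ := by rw [e]
        _ = (y * X.a * y⁻¹)⁻¹ := by group
        _ = X.a := by rw [e, inv_inv]
    · exact mul_mem e e
  have hnormR : ∀ y ∈ N, (∀ r ∈ X.R, y * r * y⁻¹ ∈ X.R) → y ∈ X.R := by
    intro y hy h
    refine hcentN y hy (X.mem_Z_of_center (h _ X.a_mem_R) fun r hr => ?_)
    have hyN : y ∈ Subgroup.normalizer (X.R : Set G) := mem_of_map_conj _ h
    have hr' : y⁻¹ * r * y ∈ X.R := (Subgroup.mem_normalizer_iff.mp hyN _).mpr (by
      simpa [mul_assoc] using hr)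
    calc r * (y * X.a * y⁻¹) = y * (y⁻¹ * r * y * X.a) * y⁻¹ := by group
      _ = y * (X.a * (y⁻¹ * r * y)) * y⁻¹ := by rw [X.a_comm (X.R_le hr')]
      _ = y * X.a * y⁻¹ * r := by group
  set R' := X.R.subgroupOf N with hR'
  have hR'card : Nat.card R' = 27 := by
    rw [Nat.card_congr (Subgroup.subgroupOfEquivOfLe hRN).toEquiv, X.card_R]
  let PR : Sylow 3 N := ⟨R', IsPGroup.of_card (n := 3) (by rw [hR'card]; norm_num), fun {Q'} hQ' hle => by
    by_contra hne
    haveI := hQ'.isNilpotent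
    have hlt : R'.subgroupOf Q' < ⊤ := lt_top_iff_ne_top.mpr fun e =>
      hne (le_antisymm (Subgroup.subgroupOf_eq_top.mp e) hle)
    obtain ⟨q, hqN, hqR⟩ := SetLike.exists_of_lt
      (Group.normalizerCondition_of_isNilpotent (R'.subgroupOf Q') hlt)
    exact hqR (hnormR _ (q : N).2 fun r hr =>
      (Subgroup.mem_normalizer_iff.mp hqN ⟨⟨r, hRN hr⟩, hle (show (⟨r, hRN hr⟩ : N) ∈ R' from hr)⟩).mp hr)⟩
  set Z' := X.Z.subgroupOf N with hZ'
  have hW : Cfsg.IsWeaklyClosed Z' (PR : Subgroup N) := by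
    refine ⟨fun z hz => X.Z_le_R hz, fun g hg => ?_⟩
    have haZ' : (⟨X.a, hRN X.a_mem_R⟩ : N) ∈ Z' := Subgroup.mem_zpowers X.a
    have h1 : (g : G) * X.a * (g : G)⁻¹ ∈ X.R := hg ⟨_, haZ', rfl⟩
    have h2 : (g : G) * X.a * (g : G)⁻¹ ∈ X.Z :=
      U.conj_a_mem hk (U.conj_mem_S (X.R_le_S h1))
    refine Subgroup.eq_of_le_of_card_ge ?_ (le_of_eq (Subgroup.card_map_of_injective
      (MulAut.conj g).injective).symm)
    rintro _ ⟨z, hz, rfl⟩
    obtain ⟨i, hi⟩ := Subgroup.mem_zpowers_iff.mp (show (z : G) ∈ X.Z from hz)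
    show (g : G) * z * (g : G)⁻¹ ∈ X.Z
    rw [← hi, ← conj_zpow]
    exact zpow_mem h2 i
  have hgr := Cfsg.Agent.S0077.result PR Z' (fun z hz => Subgroup.mem_centralizer_iff.mpr fun r hr =>
    Subtype.ext (X.Z_comm (X.R_le hr) hz)) hW
  have hN1R : commutator N ⊓ R' ≤ Z' := by
    intro y hy
    have h1 : y ∈ ⁅Subgroup.normalizer (Z' : Set N), Subgroup.normalizer (Z' : Set N)⁆ := (hgr.le hy).1
    have hle : Subgroup.normalizer (Z' : Set N) ≤ R' := fun g hg =>
      hcentN _ g.2 ((Subgroup.mem_normalizer_iff.mp hg ⟨X.a, hRN X.a_mem_R⟩).mp (Subgroup.mem_zpowers X.a))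
    refine (Subgroup.commutator_le.mpr ?_) h1
    intro p hp q hq
    exact X.comm_R (hle hp) (hle hq)
  set N1 := commutator N with hN1
  -- the Sylow subgroup of the commutator is central in its normalizer
  obtain ⟨A⟩ : Nonempty (Sylow 3 N1) := inferInstance
  obtain ⟨g0, hg0⟩ : ∃ g0 : N, ∀ y ∈ (A : Subgroup N1), (g0 * (y : N) * g0⁻¹) ∈ R' := by
    obtain ⟨B, hB⟩ := (A.2.map N1.subtype).exists_le_sylow
    obtain ⟨g0, hg0⟩ := MulAction.exists_smul_eq N B PR
    refine ⟨g0, fun y hy => ?_⟩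
    have e : R' = ((g0 • B : Sylow 3 N) : Subgroup N) := by rw [hg0]
    rw [e, Sylow.coe_subgroup_smul]
    exact Subgroup.smul_mem_pointwise_smul _ (MulAut.conj g0) _ (hB ⟨y, hy, rfl⟩)
  haveI : N1.Normal := by rw [hN1]; infer_instance
  have hAZ : ∀ y ∈ (A : Subgroup N1), g0 * (y : N) * g0⁻¹ ∈ Z' := fun y hy =>
    hN1R ⟨(inferInstance : N1.Normal).conj_mem _ y.2 g0, hg0 y hy⟩
  have hcomp : Cfsg.HasNormalPComplement 3 N1 := by
    refine CfsgLib.Transfer.hasNormalPComplement_of_normalizer_le_centralizer A fun x hx => ?_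
    refine Subgroup.mem_centralizer_iff.mpr fun y hy => Subtype.ext (Subtype.ext ?_)
    by_cases hy1 : y = 1
    · simp [hy1]
    set b : G := ((g0 * (y : N) * g0⁻¹ : N) : G) with hb
    have hbZ : b ∈ X.Z := hAZ y hy
    have hb1 : b ≠ 1 := fun e => hy1 (Subtype.ext (Subtype.ext (conj_eq_one_iff.mp e)))
    set x' : G := ((g0 * (x : N) * g0⁻¹ : N) : G) with hx'
    have hxb : x' * b * x'⁻¹ ∈ X.Z := by
      have := hAZ _ ((Subgroup.mem_normalizer_iff.mp hx y).mp hy)
      have e : x' * b * x'⁻¹ = ((g0 * ((x * y * x⁻¹ : N1) : N) * g0⁻¹ : N) : G) := by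
        simp [hx', hb, mul_assoc]
      rw [e]; exact this
    have hgen : X.a ∈ Subgroup.zpowers b := by
      have : Subgroup.zpowers b = X.Z := Subgroup.eq_of_le_of_card_ge (Subgroup.zpowers_le.mpr hbZ) (by
        rw [X.card_Z, Nat.card_zpowers, orderOf_eq_prime (p := 3) (by rw [pow_succ, pow_two, X.cube_Z hbZ]) hb1])
      rw [this]; exact Subgroup.mem_zpowers _
    obtain ⟨i, hi⟩ := Subgroup.mem_zpowers_iff.mp hgen
    have hxR := hcentN x' (SetLike.coe_mem _) (by rw [← hi, ← conj_zpow]; exact zpow_mem hxb i)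
    have hc := X.Z_comm (X.R_le hxR) hbZ
    have : (g0 : G) * ((y : N) : G) * ((x : N) : G) * (g0 : G)⁻¹ =
        (g0 : G) * ((x : N) : G) * ((y : N) : G) * (g0 : G)⁻¹ := by
      have e : x' * b = b * x' := hc
      simp only [hx', hb, Subgroup.coe_mul, Subgroup.coe_inv] at e
      calc (g0 : G) * ((y : N) : G) * ((x : N) : G) * (g0 : G)⁻¹
          = (g0 : G) * ((y : N) : G) * (g0 : G)⁻¹ * ((g0 : G) * ((x : N) : G) * (g0 : G)⁻¹) := by group
        _ = _ := by rw [← e]; group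
    exact mul_left_cancel (a := (g0 : G)) (mul_right_cancel (b := (g0 : G)⁻¹) (by simpa [mul_assoc] using this))
  obtain ⟨B, L, hL, hBL⟩ := hcomp
  set M := (Cfsg.pPrimeCore 3 N1).map (N.subtype.comp N1.subtype) with hM
  have hcoreM : M = ⊥ := by
    refine X.sig M ?_ fun j _ => ?_
    · rw [hM, Subgroup.card_map_of_injective (f := N.subtype.comp N1.subtype)
        (fun p q e => Subtype.ext (Subtype.ext e))]
      exact CfsgLib.Transfer.pPrimeCore_coprime 3
    · set N1' := N1.map N.subtype with hN1'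
      have hN1n : ∀ g : G, g ∈ Subgroup.normalizer (N1' : Set G) := fun g => by
        refine mem_of_map_conj _ fun m hm => ?_
        haveI : N1.Characteristic := by rw [hN1]; infer_instance
        exact (inferInstance : N1'.Normal).conj_mem m hm g
      -- the core is invariant under automorphisms
      refine mem_of_map_conj _ ?_
      rintro _ ⟨c, hc, rfl⟩
      let α : N1 ≃* N1' := N1.equivMapOfInjective N.subtype N.subtype_injective
      let β : N1' ≃* N1' :=
        { toFun := fun y => ⟨j * y * j⁻¹, (Subgroup.mem_normalizer_iff.mp (hN1n j) _).mp y.2⟩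
          invFun := fun y => ⟨j⁻¹ * y * j, (Subgroup.mem_normalizer_iff.mp (hN1n j) _).mpr (by
            rw [show j * (j⁻¹ * (y : G) * j) * j⁻¹ = (y : G) by group]; exact y.2)⟩
          left_inv := fun y => Subtype.ext (by simp [mul_assoc])
          right_inv := fun y => Subtype.ext (by simp [mul_assoc])
          map_mul' := fun y w => Subtype.ext (by simp [mul_assoc]) }
      let γ : N1 ≃* N1 := α.trans (β.trans α.symm)
      haveI := CfsgLib.Transfer.pPrimeCore_normal 3 N1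
      have hle : (Cfsg.pPrimeCore 3 N1).map γ.toMonoidHom ≤ Cfsg.pPrimeCore 3 N1 := by
        refine CfsgLib.Transfer.le_pPrimeCore (Subgroup.Normal.map inferInstance _ γ.surjective) ?_
        rw [Subgroup.card_map_of_injective (f := γ.toMonoidHom) γ.injective]
        exact CfsgLib.Transfer.pPrimeCore_coprime 3
      refine ⟨γ c, hle ⟨c, hc, rfl⟩, ?_⟩
      have hα : ∀ z : N1, (α z : G) = ((z : N) : G) := fun z => rfl
      show (((γ c : N1) : N) : G) = j * ((c : N) : G) * j⁻¹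
      rw [← hα (γ c)]
      show (α (α.symm (β (α c))) : G) = _
      rw [α.apply_symm_apply]
      exact congrArg (fun z => j * z * j⁻¹) (hα c)
  have hN1p : IsPGroup 3 N1 := by
    haveI := hL
    have hLbot : L = ⊥ := by
      have hLc : (Nat.card L).Coprime 3 := by
        have h4 := (B : Subgroup N1).card_mul_index
        rw [← hBL.card_mul_card, mul_comm (Nat.card L)] at h4
        rw [← Nat.eq_of_mul_eq_mul_left Nat.card_pos h4]
        exact (Nat.prime_three.coprime_iff_not_dvd.mpr B.not_dvd_index).symm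
      have h1 := CfsgLib.Transfer.le_pPrimeCore hL hLc
      have h2 : L.map (N.subtype.comp N1.subtype) = ⊥ := le_bot_iff.mp
        ((Subgroup.map_mono h1).trans hcoreM.le)
      exact (Subgroup.map_eq_bot_iff_of_injective _
        (f := N.subtype.comp N1.subtype) (fun p q e => Subtype.ext (Subtype.ext e))).mp h2
    rw [hLbot] at hBL
    intro x
    have hx : x ∈ (B : Subgroup N1) := by
      rw [Subgroup.isComplement'_bot_left.mp hBL]; exact Subgroup.mem_top x
    obtain ⟨m, hm⟩ := B.2 ⟨x, hx⟩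
    exact ⟨m, congrArg Subtype.val hm⟩
  have hN1le : N1 ≤ R' := by
    obtain ⟨B', hB'⟩ := hN1p.exists_le_sylow
    obtain ⟨g1, hg1⟩ := MulAction.exists_smul_eq N B' PR
    intro y hy
    have e : R' = ((g1 • B' : Sylow 3 N) : Subgroup N) := by rw [hg1]
    rw [e, Sylow.coe_subgroup_smul]
    have h1 := Subgroup.smul_mem_pointwise_smul _ (MulAut.conj g1) _
      (hB' ((inferInstance : N1.Normal).conj_mem y hy g1⁻¹))
    simpa [MulAut.smul_def, mul_assoc] using h1
  -- the commutator is `⟨a⟩`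
  have haN1 : (⟨X.a, hRN X.a_mem_R⟩ : N) ∈ N1 := by
    obtain ⟨r, hr, s, hs, hne⟩ : ∃ r ∈ X.R, ∃ s ∈ X.R, r * s * r⁻¹ * s⁻¹ ≠ 1 := by
      by_contra hcon
      push Not at hcon
      have hc : Subgroup.center X.R = ⊤ := eq_top_iff.mpr fun r _ => Subgroup.mem_center_iff.mpr
        fun s => Subtype.ext (by
          have := hcon _ s.2 _ r.2
          rw [mul_inv_eq_one, mul_inv_eq_iff_eq_mul] at this
          exact this)
      have := X.center_R
      rw [hc, Subgroup.card_top, X.card_R] at this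
      omega
    have hm : (⁅(⟨r, hRN hr⟩ : N), (⟨s, hRN hs⟩ : N)⁆) ∈ N1 := by
      rw [hN1, commutator_def]
      exact Subgroup.commutator_mem_commutator (Subgroup.mem_top _) (Subgroup.mem_top _)
    have hZ : r * s * r⁻¹ * s⁻¹ ∈ X.Z := X.comm_R hr hs
    have hgen : X.a ∈ Subgroup.zpowers (r * s * r⁻¹ * s⁻¹) := by
      have : Subgroup.zpowers (r * s * r⁻¹ * s⁻¹) = X.Z :=
        Subgroup.eq_of_le_of_card_ge (Subgroup.zpowers_le.mpr hZ) (by
          rw [X.card_Z, Nat.card_zpowers,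
            orderOf_eq_prime (p := 3) (by rw [pow_succ, pow_two, X.cube_Z hZ]) hne])
      rw [this]; exact Subgroup.mem_zpowers _
    obtain ⟨i, hi⟩ := Subgroup.mem_zpowers_iff.mp hgen
    have := zpow_mem hm i
    rwa [show ⁅(⟨r, hRN hr⟩ : N), (⟨s, hRN hs⟩ : N)⁆ ^ i = ⟨X.a, hRN X.a_mem_R⟩ from Subtype.ext (by
      rw [Subgroup.coe_zpow]; exact hi)] at this
  refine eq_top_iff.mpr fun g _ => mem_of_map_conj _ fun z hz => ?_
  haveI : N1.Characteristic := by rw [hN1]; infer_instance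
  have h1 : z ∈ N1.map N.subtype := by
    obtain ⟨i, rfl⟩ := Subgroup.mem_zpowers_iff.mp hz
    exact zpow_mem (⟨_, haN1, rfl⟩ : X.a ∈ N1.map N.subtype) i
  obtain ⟨y, hy, e⟩ := (inferInstance : (N1.map N.subtype).Normal).conj_mem z h1 g
  rw [← e]
  exact hN1R ⟨hy, hN1le hy⟩

end Coord

end CfsgLib.PSpFourThree
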