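import Mathlib
import Cfsg.Prelude
import Cfsg.Agent.Lib.PSpFourLocal.Section

/-!
A centralizer of shape `3^{1+2}:SL(2,3)` around an elementary abelian group `J` of order 27:
the elements, their centralizers, and the position of `J`.
-/

set_option autoImplicit false
set_option linter.style.haveILetI false
set_option linter.unusedSectionVars false

namespace CfsgLib.PSpFourThree

open CfsgLib.PSpFourLocal (S23)

theorem sl_cen : ∀ g : S23, g * g * g = 1 → (∀ h : S23, g * h = h * g) → g = 1 := by decide +kernel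

theorem sl_normal : ∀ g : S23, g ≠ 1 → g = -1 ∨ g * g = -1 ∨ g * g * g = -1 ∨
    ∃ h : S23, h * g * h⁻¹ * g⁻¹ * (h * g * h⁻¹ * g⁻¹) = -1 := by decide +kernel

theorem sl_pow : ∀ g : S23, g ≠ 1 → g * g * g ≠ 1 → g = -1 ∨ g * g = -1 ∨ g * g * g = -1 := by
  decide +kernel

theorem sl_inv : ∀ g : S23, g * g = 1 → g ≠ 1 → g = -1 := by decide +kernel

theorem sl_neg_comm : ∀ g : S23, -1 * g = g * -1 := by decide +kernel

theorem sl_root : ∃ g : S23, g * g = -1 := by decide +kernel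

theorem sl_neg : (-1 : S23) * -1 = 1 ∧ (-1 : S23) ≠ 1 := by decide +kernel

theorem sl_normalizer : ∀ u : S23, u * u * u = 1 → u ≠ 1 →
    (Finset.univ.filter fun g : S23 => g * u * g⁻¹ = u ∨ g * u * g⁻¹ = u * u).card = 6 ∧
    ∀ g : S23, g * u = u * g → g * u * g⁻¹ = u := by
  decide +kernel

theorem sl_three : ∀ u v : S23, u * u * u = 1 → u ≠ 1 → v * v * v = 1 → v ≠ 1 → u * v = v * u →
    v = u ∨ v = u * u := by
  decide +kernel

theorem mem_centralizer_iff' {G : Type*} [Group G] {x g : G} :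
    g ∈ Subgroup.centralizer ({x} : Set G) ↔ g * x = x * g := Subgroup.mem_centralizer_singleton_iff

theorem mem_of_map_conj {G : Type*} [Group G] [Finite G] (M : Subgroup G) {g : G}
    (h : ∀ m ∈ M, g * m * g⁻¹ ∈ M) : g ∈ Subgroup.normalizer (M : Set G) := by
  refine Subgroup.mem_normalizer_iff_map_conj_eq.mpr (Subgroup.eq_of_le_of_card_ge ?_ (le_of_eq
    (Subgroup.card_map_of_injective (MulAut.conj g).injective).symm))
  rintro _ ⟨y, hy, rfl⟩
  exact h y hy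

/-- A multiplicative map read on a subgroup, with cardinality of a preimage. -/
theorem card_preimage {A B : Type*} [Group A] [Group B] [Finite A] (f : A →* B)
    (hf : Function.Surjective f) (K : Subgroup B) :
    Nat.card (K.comap f) = Nat.card f.ker * Nat.card K := by
  have h1 := (K.comap f).card_mul_index
  rw [Subgroup.index_comap_of_surjective K hf] at h1
  have h2 := f.ker.card_mul_index
  rw [Subgroup.index_ker, MonoidHom.range_eq_top.mpr hf, Subgroup.card_top] at h2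
  haveI : Finite B := Finite.of_surjective f hf
  have h3 := K.card_mul_index
  have hi : K.index ≠ 0 := Subgroup.index_ne_zero_of_finite
  refine Nat.eq_of_mul_eq_mul_right (Nat.pos_of_ne_zero hi) ?_
  rw [h1, ← h2, mul_assoc, h3]

/-- The hypotheses. -/
structure Ctx (G : Type*) [Group G] [Finite G] where
  a : G
  R : Subgroup G
  J : Subgroup G
  φ : ↥(Subgroup.centralizer ({a} : Set G)) →* S23
  ha : orderOf a = 3
  surj : Function.Surjective φ
  hker : ∀ x, φ x = 1 ↔ (x : G) ∈ R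
  R_le : R ≤ Subgroup.centralizer ({a} : Set G)
  card_R : Nat.card R = 27
  center_R : Nat.card (Subgroup.center R) = 3
  exp_R : ∀ r ∈ R, r ^ 3 = 1
  J_le : J ≤ Subgroup.centralizer ({a} : Set G)
  comm : ∀ x ∈ J, ∀ y ∈ J, x * y = y * x
  cube : ∀ x ∈ J, x ^ 3 = 1
  card_J : Nat.card J = 27
  sig : ∀ K : Subgroup G, (Nat.card K).Coprime 3 → J ≤ Subgroup.normalizer (K : Set G) → K = ⊥

namespace Ctx

variable {G : Type*} [Group G] [Finite G] (X : Ctx G)

/-- The centralizer. -/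
abbrev C : Subgroup G := Subgroup.centralizer ({X.a} : Set G)

theorem a_comm {g : G} (hg : g ∈ X.C) : g * X.a = X.a * g := mem_centralizer_iff'.mp hg

theorem a_mem_C : X.a ∈ X.C := mem_centralizer_iff'.mpr rfl

theorem a_cube : X.a * X.a * X.a = 1 := by
  have := pow_orderOf_eq_one X.a
  rwa [X.ha, pow_succ, pow_two] at this

theorem a_ne : X.a ≠ 1 := fun h => by have := X.ha; rw [h, orderOf_one] at this; omega

theorem cube' {x : G} (hx : x ∈ X.J) : x * x * x = 1 := by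
  rw [← pow_two, ← pow_succ, X.cube x hx]

theorem cubeR {x : G} (hx : x ∈ X.R) : x * x * x = 1 := by
  rw [← pow_two, ← pow_succ, X.exp_R x hx]

/-- `φ` on elements. -/
noncomputable def f (g : G) : S23 := open scoped _root_.Classical in if h : g ∈ X.C then X.φ ⟨g, h⟩ else 1

theorem f_eq {g : G} (h : g ∈ X.C) : X.f g = X.φ ⟨g, h⟩ := dif_pos h

theorem f_mul {g h : G} (hg : g ∈ X.C) (hh : h ∈ X.C) : X.f (g * h) = X.f g * X.f h := by
  rw [X.f_eq hg, X.f_eq hh, X.f_eq (mul_mem hg hh), ← map_mul]; rfl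

theorem f_inv {g : G} (hg : g ∈ X.C) : X.f g⁻¹ = (X.f g)⁻¹ := by
  rw [X.f_eq hg, X.f_eq (inv_mem hg), ← map_inv]; rfl

theorem f_one : X.f 1 = 1 := by rw [X.f_eq (one_mem _)]; exact map_one X.φ

theorem f_eq_one {g : G} (hg : g ∈ X.C) : X.f g = 1 ↔ g ∈ X.R := by rw [X.f_eq hg]; exact X.hker _

theorem f_surj (u : S23) : ∃ g ∈ X.C, X.f g = u := by
  obtain ⟨g, rfl⟩ := X.surj u
  exact ⟨g, g.2, X.f_eq g.2⟩

theorem f_pow {g : G} (hg : g ∈ X.C) (n : ℕ) : X.f (g ^ n) = X.f g ^ n := by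
  rw [X.f_eq hg, X.f_eq (pow_mem hg n), ← map_pow]; rfl

theorem R_normal {g r : G} (hg : g ∈ X.C) (hr : r ∈ X.R) : g * r * g⁻¹ ∈ X.R := by
  have hrC := X.R_le hr
  refine (X.f_eq_one (mul_mem (mul_mem hg hrC) (inv_mem hg))).mp ?_
  rw [X.f_mul (mul_mem hg hrC) (inv_mem hg), X.f_mul hg hrC, X.f_inv hg, (X.f_eq_one hrC).mpr hr,
    mul_one, mul_inv_cancel]

theorem card_ker : Nat.card X.φ.ker = 27 := by
  rw [← X.card_R]
  exact Nat.card_congr
    { toFun := fun x => ⟨((x : X.C) : G), (X.hker _).mp x.2⟩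
      invFun := fun r => ⟨⟨r, X.R_le r.2⟩, (X.hker _).mpr r.2⟩
      left_inv := fun _ => rfl
      right_inv := fun _ => rfl }

theorem card_S23 : Nat.card S23 = 24 := by
  rw [Nat.card_eq_fintype_card, CfsgLib.PSpFourLocal.s23_facts.1]

theorem card_C : Nat.card X.C = 648 := by
  have h := card_preimage X.φ X.surj ⊤
  rw [Subgroup.comap_top, Subgroup.card_top, Subgroup.card_top, X.card_ker, card_S23] at h
  exact h

theorem a_mem_R : X.a ∈ X.R := by
  refine (X.f_eq_one X.a_mem_C).mp (sl_cen _ ?_ fun h => ?_)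
  · rw [← X.f_mul X.a_mem_C X.a_mem_C, ← X.f_mul (mul_mem X.a_mem_C X.a_mem_C) X.a_mem_C, X.a_cube, X.f_one]
  · obtain ⟨g, hg, rfl⟩ := X.f_surj h
    rw [← X.f_mul X.a_mem_C hg, ← X.f_mul hg X.a_mem_C, X.a_comm hg]

/-- The subgroup generated by `a`. -/
abbrev Z : Subgroup G := Subgroup.zpowers X.a

theorem card_Z : Nat.card X.Z = 3 := by rw [Nat.card_zpowers, X.ha]

theorem Z_le_R : X.Z ≤ X.R := Subgroup.zpowers_le.mpr X.a_mem_R

theorem Z_comm {g z : G} (hg : g ∈ X.C) (hz : z ∈ X.Z) : g * z = z * g := by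
  obtain ⟨n, rfl⟩ := Subgroup.mem_zpowers_iff.mp hz
  exact ((show Commute g X.a from X.a_comm hg).zpow_right n).eq

theorem mem_Z {z : G} : z ∈ X.Z ↔ z = 1 ∨ z = X.a ∨ z = X.a * X.a := by
  constructor
  · intro hz
    rw [← mem_powers_iff_mem_zpowers, Submonoid.mem_powers_iff] at hz
    obtain ⟨n, rfl⟩ := hz
    rw [← pow_mod_orderOf, X.ha]
    have := Nat.mod_lt n (show 0 < 3 by norm_num)
    interval_cases n % 3 <;> simp [pow_two]
  · rintro (rfl | rfl | rfl)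
    · exact one_mem _
    · exact Subgroup.mem_zpowers _
    · exact mul_mem (Subgroup.mem_zpowers _) (Subgroup.mem_zpowers _)

theorem mem_Z_of_center {z : G} (hz : z ∈ X.R) (hc : ∀ r ∈ X.R, r * z = z * r) : z ∈ X.Z := by
  have hle : X.Z.subgroupOf X.R ≤ Subgroup.center X.R := fun y hy => Subgroup.mem_center_iff.mpr
    fun r => Subtype.ext (X.Z_comm (X.R_le r.2) hy)
  have he := Subgroup.eq_of_le_of_card_ge hle (by
    rw [X.center_R, Nat.card_congr (Subgroup.subgroupOfEquivOfLe X.Z_le_R).toEquiv, X.card_Z])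
  have : (⟨z, hz⟩ : X.R) ∈ Subgroup.center X.R :=
    Subgroup.mem_center_iff.mpr fun r => Subtype.ext (hc r r.2)
  rw [← he] at this
  exact this

theorem cube_Z {z : G} (hz : z ∈ X.Z) : z * z * z = 1 := X.cubeR (X.Z_le_R hz)

theorem Z_sq {z : G} (hz : z ∈ X.Z) (h2 : z * z = 1) : z = 1 := by
  have := X.cube_Z hz
  rwa [h2, one_mul] at this

theorem R_sq {r : G} (hr : r ∈ X.R) (h2 : r * r = 1) : r = 1 := by
  have := X.cubeR hr
  rwa [h2, one_mul] at this

/-- An involution above `-1`. -/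
theorem exists_inv {g : G} (hg : g ∈ X.C) (hf : X.f g = -1) :
    ∃ t ∈ X.C, t * t = 1 ∧ t ≠ 1 ∧ X.f t = -1 ∧ ∃ n : ℕ, t = g ^ n := by
  have h2 : g * g ∈ X.R := (X.f_eq_one (mul_mem hg hg)).mp (by rw [X.f_mul hg hg, hf]; exact sl_neg.1)
  refine ⟨g ^ 3, pow_mem hg 3, ?_, ?_, ?_, 3, rfl⟩
  · rw [show g ^ 3 * g ^ 3 = g * g * (g * g) * (g * g) by simp only [pow_three, mul_assoc], X.cubeR h2]
  · intro h
    have := X.f_pow hg 3
    rw [h, X.f_one, hf] at this
    exact absurd this (by decide +kernel)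
  · rw [X.f_pow hg 3, hf]; decide +kernel

/-- Elements of `C` centralizing `R` modulo `a`. -/
def kerR : Subgroup G where
  carrier := {g | g ∈ X.C ∧ ∀ r ∈ X.R, g * r * g⁻¹ * r⁻¹ ∈ X.Z}
  one_mem' := ⟨one_mem _, fun r _ => by simp⟩
  mul_mem' := fun {g h} hg hh => ⟨mul_mem hg.1 hh.1, fun r hr => by
    have e : g * h * r * (g * h)⁻¹ * r⁻¹ =
        g * (h * r * h⁻¹) * g⁻¹ * (h * r * h⁻¹)⁻¹ * (h * r * h⁻¹ * r⁻¹) := by group
    rw [e]
    exact mul_mem (hg.2 _ (X.R_normal hh.1 hr)) (hh.2 r hr)⟩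
  inv_mem' := fun {g} hg => ⟨inv_mem hg.1, fun r hr => by
    have h := hg.2 _ (X.R_normal (inv_mem hg.1) hr)
    rw [inv_inv] at h
    rw [show g * (g⁻¹ * r * g) * g⁻¹ * (g⁻¹ * r * g)⁻¹ = (g⁻¹ * r * g⁻¹⁻¹ * r⁻¹)⁻¹ by group] at h
    exact inv_mem_iff.mp h⟩

theorem kerR_normal {g h : G} (hg : g ∈ X.C) (hh : h ∈ X.kerR) : g * h * g⁻¹ ∈ X.kerR := by
  refine ⟨mul_mem (mul_mem hg hh.1) (inv_mem hg), fun r hr => ?_⟩
  have hz := hh.2 _ (X.R_normal (inv_mem hg) hr)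
  rw [inv_inv] at hz
  have e : g * h * g⁻¹ * r * (g * h * g⁻¹)⁻¹ * r⁻¹ =
      g * (h * (g⁻¹ * r * g) * h⁻¹ * (g⁻¹ * r * g)⁻¹) * g⁻¹ := by group
  rw [e, X.Z_comm hg hz, mul_inv_cancel_right]
  exact hz

theorem kerR_le {g : G} (h : g ∈ X.kerR) : g ∈ X.R := by
  by_contra hgR
  have hf : X.f g ≠ 1 := fun e => hgR ((X.f_eq_one h.1).mp e)
  have hgg := mul_mem h.1 h.1
  obtain ⟨k, hk, hkf⟩ : ∃ k ∈ X.kerR, X.f k = -1 := by
    rcases sl_normal _ hf with e | e | e | ⟨u, e⟩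
    · exact ⟨g, h, e⟩
    · exact ⟨g * g, mul_mem h h, by rw [X.f_mul h.1 h.1, e]⟩
    · exact ⟨g * g * g, mul_mem (mul_mem h h) h, by rw [X.f_mul hgg h.1, X.f_mul h.1 h.1, e]⟩
    · obtain ⟨v, hv, rfl⟩ := X.f_surj u
      have hc : v * g * v⁻¹ * g⁻¹ ∈ X.kerR := mul_mem (X.kerR_normal hv h) (inv_mem h)
      refine ⟨_, mul_mem hc hc, ?_⟩
      rw [X.f_mul hc.1 hc.1, X.f_mul (mul_mem (mul_mem hv h.1) (inv_mem hv)) (inv_mem h.1),
        X.f_mul (mul_mem hv h.1) (inv_mem hv), X.f_mul hv h.1, X.f_inv hv, X.f_inv h.1, e]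
  obtain ⟨t, htC, ht2, ht1, htf, n, rfl⟩ := X.exists_inv hk.1 hkf
  set t := k ^ n
  have htK : t ∈ X.kerR := pow_mem hk n
  have htinv : t⁻¹ = t := inv_eq_of_mul_eq_one_right ht2
  have htR : ∀ r ∈ X.R, t * r * t⁻¹ = r := fun r hr => by
    have hz := htK.2 r hr
    set z := t * r * t⁻¹ * r⁻¹ with hz'
    have h1 : t * r * t⁻¹ = z * r := by rw [hz']; group
    have h2 : t * (z * r) * t⁻¹ = r := by
      rw [← h1, htinv, show t * (t * r * t) * t = t * t * r * (t * t) by group, ht2]; simp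
    have h3 : t * (z * r) * t⁻¹ = z * z * r := by
      have hzt : t * z * t⁻¹ = z := by rw [X.Z_comm htC hz, mul_inv_cancel_right]
      rw [← conj_mul, hzt, h1]
      exact (mul_assoc z z r).symm
    rw [h1, X.Z_sq hz (mul_eq_right.mp (h3.symm.trans h2)), one_mul]
  have hcen : ∀ c ∈ X.C, c * t * c⁻¹ = t := by
    intro c hc
    set r := t⁻¹ * (c * t * c⁻¹) with hr'
    have hcC : c * t * c⁻¹ ∈ X.C := mul_mem (mul_mem hc htC) (inv_mem hc)
    have hr : r ∈ X.R := by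
      refine (X.f_eq_one (mul_mem (inv_mem htC) hcC)).mp ?_
      rw [X.f_mul (inv_mem htC) hcC, X.f_inv htC, X.f_mul (mul_mem hc htC) (inv_mem hc),
        X.f_mul hc htC, X.f_inv hc, htf, ← sl_neg_comm, mul_inv_cancel_right, inv_mul_cancel]
    have he : c * t * c⁻¹ = t * r := by rw [hr']; group
    have hsq : t * r * (t * r) = 1 := by
      rw [← he, show c * t * c⁻¹ * (c * t * c⁻¹) = c * (t * t) * c⁻¹ by group, ht2, mul_one,
        mul_inv_cancel]
    have htr : t * r = r * t := mul_inv_eq_iff_eq_mul.mp (htR r hr)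
    rw [show t * r * (t * r) = t * (r * t) * r by group, ← htr,
      show t * (t * r) * r = t * t * (r * r) by group, ht2, one_mul] at hsq
    rw [he, X.R_sq hr hsq, mul_one]
  have hbot := X.sig (Subgroup.zpowers t) (by
    rw [Nat.card_zpowers, orderOf_eq_prime (p := 2) (by rw [pow_two, ht2]) ht1]; norm_num) fun j hj =>
      mem_of_map_conj _ fun m hm => by
        obtain ⟨i, rfl⟩ := Subgroup.mem_zpowers_iff.mp hm
        rw [← conj_zpow, hcen j (X.J_le hj)]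
        exact zpow_mem (Subgroup.mem_zpowers t) i
  exact ht1 (Subgroup.mem_bot.mp (hbot ▸ Subgroup.mem_zpowers t))

theorem comm_R {r s : G} (hr : r ∈ X.R) (hs : s ∈ X.R) : r * s * r⁻¹ * s⁻¹ ∈ X.Z := by
  haveI : Fact (Nat.Prime 3) := ⟨Nat.prime_three⟩
  have hq : Nat.card (X.R ⧸ Subgroup.center X.R) = 3 ^ 2 := by
    have := Subgroup.card_eq_card_quotient_mul_card_subgroup (Subgroup.center X.R)
    rw [X.card_R, X.center_R] at this; omega
  set y : X.R := ⟨r, hr⟩ * ⟨s, hs⟩ * ⟨r, hr⟩⁻¹ * ⟨s, hs⟩⁻¹ with hy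
  have hyc : y ∈ Subgroup.center X.R := by
    haveI := IsPGroup.isMulCommutative_of_card_eq_prime_sq hq
    rw [← QuotientGroup.eq_one_iff, hy]
    set π := QuotientGroup.mk' (Subgroup.center X.R)
    show π (_ * _ * _⁻¹ * _⁻¹) = 1
    rw [map_mul, map_mul, map_mul, map_inv, map_inv,
      IsMulCommutative.is_comm.comm (π ⟨r, hr⟩) (π ⟨s, hs⟩)]
    group
  exact X.mem_Z_of_center y.2 fun u hu => congrArg Subtype.val (Subgroup.mem_center_iff.mp hyc ⟨u, hu⟩)

/-- Centralizing an involution over `-1` covers the quotient. -/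
theorem cent_surj {t : G} (ht : t ∈ X.C) (htf : X.f t = -1) (ht2 : t * t = 1) (u : S23) :
    ∃ q ∈ X.C, q * t = t * q ∧ X.f q = u := by
  obtain ⟨q, hq, rfl⟩ := X.f_surj u
  have hqt : q * t * q⁻¹ ∈ X.C := mul_mem (mul_mem hq ht) (inv_mem hq)
  set r := t⁻¹ * (q * t * q⁻¹) with hr'
  have hr : r ∈ X.R := by
    refine (X.f_eq_one (mul_mem (inv_mem ht) hqt)).mp ?_
    rw [X.f_mul (inv_mem ht) hqt, X.f_inv ht, X.f_mul (mul_mem hq ht) (inv_mem hq),
      X.f_mul hq ht, X.f_inv hq, htf, ← sl_neg_comm, mul_inv_cancel_right, inv_mul_cancel]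
  have he : q * t * q⁻¹ = t * r := by rw [hr']; group
  have hsq : t * r * (t * r) = 1 := by
    rw [← he, show q * t * q⁻¹ * (q * t * q⁻¹) = q * (t * t) * q⁻¹ by group, ht2, mul_one,
      mul_inv_cancel]
  have htr : t * r * t = r⁻¹ := eq_inv_of_mul_eq_one_left (by rw [mul_assoc]; exact hsq)
  have hrr : r⁻¹ * r⁻¹ = r := by
    calc r⁻¹ * r⁻¹ = r⁻¹ * r⁻¹ * (r * r * r) := by rw [X.cubeR hr, mul_one]
      _ = r := by group
  have hconj : r * t * r⁻¹ = q * t * q⁻¹ := by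
    rw [he]
    calc r * t * r⁻¹ = t * (t * r * t) * r⁻¹ := by
          rw [show t * (t * r * t) = (t * t) * r * t by group, ht2, one_mul]
      _ = t * (r⁻¹ * r⁻¹) := by rw [htr, mul_assoc]
      _ = t * r := by rw [hrr]
  refine ⟨r⁻¹ * q, mul_mem (inv_mem (X.R_le hr)) hq, ?_, ?_⟩
  · calc r⁻¹ * q * t = r⁻¹ * (q * t * q⁻¹) * q := by group
      _ = r⁻¹ * (r * t * r⁻¹) * q := by rw [hconj]
      _ = t * (r⁻¹ * q) := by group
  · rw [X.f_mul (inv_mem (X.R_le hr)) hq, X.f_inv (X.R_le hr), (X.f_eq_one (X.R_le hr)).mpr hr,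
      inv_one, one_mul]

/-- An involution of `C` inverts `R` modulo `a`. -/
theorem neg_one_no_fix {t r : G} (ht : t ∈ X.C) (htf : X.f t = -1) (ht2 : t * t = 1) (hr : r ∈ X.R)
    (h : t * r * t⁻¹ * r⁻¹ ∈ X.Z) : r ∈ X.Z := by
  by_contra hrZ
  have htinv : t⁻¹ = t := inv_eq_of_mul_eq_one_right ht2
  have tw : ∀ (x w : G), t * x * t⁻¹ = w * x → t * w * t⁻¹ = w → w * w = 1 := by
    intro x w hx hw
    have h2 : t * (w * x) * t⁻¹ = x := by
      rw [← hx, htinv, show t * (t * x * t) * t = t * t * x * (t * t) by group, ht2]; simp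
    rw [← conj_mul, hx, hw, ← mul_assoc] at h2
    exact mul_eq_right.mp h2
  let F : Subgroup G := X.R ⊓ Subgroup.centralizer ({t} : Set G)
  have hFR : F ≤ X.R := inf_le_left
  have hfix : ∀ s ∈ F, t * s * t⁻¹ = s := fun s hs => by
    rw [← mem_centralizer_iff'.mp hs.2, mul_inv_cancel_right]
  have hrF : r ∈ F := by
    refine ⟨hr, mem_centralizer_iff'.mpr ?_⟩
    have hz := X.Z_sq h (tw r _ (by group) (by rw [X.Z_comm ht h, mul_inv_cancel_right]))
    rw [mul_inv_eq_one, mul_inv_eq_iff_eq_mul] at hz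
    exact hz.symm
  have hnot : ¬ ∀ x ∈ X.R, t * x * t⁻¹ = x := fun hall => by
    have hk : t ∈ X.kerR := ⟨ht, fun x hx => by rw [hall x hx, mul_inv_cancel]; exact one_mem _⟩
    have := (X.f_eq_one ht).mpr (X.kerR_le hk)
    rw [htf] at this
    exact sl_neg.2 this
  have hZF : X.Z ≤ F := fun z hz => ⟨X.Z_le_R hz, mem_centralizer_iff'.mpr (X.Z_comm ht hz).symm⟩
  have hF9 : Nat.card F = 9 := by
    have hd : Nat.card F ∣ 27 := X.card_R ▸ Subgroup.card_dvd_of_le hFR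
    have h3 : Nat.card F ≠ 3 := fun e => hrZ
      ((Subgroup.eq_of_le_of_card_ge hZF (by rw [e, X.card_Z])).ge hrF)
    have h27 : Nat.card F ≠ 27 := fun e => hnot fun x hx =>
      hfix x ((Subgroup.eq_of_le_of_card_ge hFR (by rw [e, X.card_R])).ge hx)
    have h3' : 3 ∣ Nat.card F := X.card_Z ▸ Subgroup.card_dvd_of_le hZF
    obtain ⟨i, hi, hi'⟩ := (Nat.dvd_prime_pow Nat.prime_three).mp (show Nat.card F ∣ 3 ^ 3 by simpa using hd)
    interval_cases i <;> simp_all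
  let FR : Subgroup X.R := F.subgroupOf X.R
  haveI hFn : FR.Normal := ⟨fun s hs u => by
    show (u : G) * s * (u : G)⁻¹ ∈ F
    rw [show (u : G) * s * (u : G)⁻¹ = (u : G) * s * (u : G)⁻¹ * (s : G)⁻¹ * s by group]
    exact mul_mem (hZF (X.comm_R u.2 s.2)) hs⟩
  have hK : Nat.card (X.R ⧸ FR) = 3 := by
    have := Subgroup.card_eq_card_quotient_mul_card_subgroup FR
    rw [X.card_R, Nat.card_congr (Subgroup.subgroupOfEquivOfLe hFR).toEquiv, hF9] at this
    omega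
  obtain ⟨u, hu⟩ := sl_root
  obtain ⟨q, hq, hqt, rfl⟩ := X.cent_surj ht htf ht2 u
  have hqF : ∀ s ∈ F, q * s * q⁻¹ ∈ F := fun s hs => ⟨X.R_normal hq hs.1, mem_centralizer_iff'.mpr
    ((Commute.mul_left (Commute.mul_left hqt (mem_centralizer_iff'.mp hs.2))
      (show Commute q t from hqt).inv_left)).eq⟩
  let α : X.R →* X.R :=
    { toFun := fun x => ⟨q * x * q⁻¹, X.R_normal hq x.2⟩
      map_one' := Subtype.ext (by simp)
      map_mul' := fun x y => Subtype.ext (by simp [mul_assoc]) }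
  let π := QuotientGroup.mk' FR
  let β : X.R ⧸ FR →* X.R ⧸ FR := QuotientGroup.lift FR (π.comp α) fun s hs =>
    (QuotientGroup.eq_one_iff (α s)).mpr (hqF s hs)
  have hsq : ∀ k : X.R ⧸ FR, β (β k) = k := by
    haveI : Fact (Nat.Prime 3) := ⟨Nat.prime_three⟩
    intro k
    rcases eq_or_ne k 1 with rfl | hk
    · simp
    have hgen := mem_zpowers_of_prime_card hK (g := k) (g' := β k) hk
    obtain ⟨n, hn⟩ := Subgroup.mem_zpowers_iff.mp hgen
    have hk3 : k ^ (3 : ℤ) = 1 := by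
      rw [show (3 : ℤ) = ((3 : ℕ) : ℤ) from rfl, zpow_natCast, ← hK, pow_card_eq_one']
    rw [← hn, map_zpow, ← hn, ← zpow_mul]
    have hmod : n % 3 ≠ 0 := by
      intro h0
      have : β k = 1 := by
        rw [← hn, ← Int.mul_ediv_add_emod n 3, h0, add_zero, zpow_mul, hk3, one_zpow]
      obtain ⟨x, rfl⟩ := QuotientGroup.mk'_surjective FR k
      have hx : q * (x : G) * q⁻¹ ∈ F := (QuotientGroup.eq_one_iff (α x)).mp this
      refine hk ((QuotientGroup.eq_one_iff x).mpr ⟨x.2, mem_centralizer_iff'.mpr ?_⟩)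
      have e := mem_centralizer_iff'.mp hx.2
      calc (x : G) * t = q⁻¹ * (q * x * q⁻¹ * t) * q := by
            rw [show q * (x : G) * q⁻¹ * t = q * x * (q⁻¹ * t) by group,
              ((show Commute q t from hqt).inv_left).eq]; group
        _ = q⁻¹ * (t * (q * x * q⁻¹)) * q := by rw [e]
        _ = t * x := by rw [← mul_assoc q⁻¹, ((show Commute q t from hqt).inv_left).eq]; group
    have h1 : n * n % 3 = 1 := by
      rw [Int.mul_emod]
      rcases (show n % 3 = 1 ∨ n % 3 = 2 by omega) with e | e <;> rw [e] <;> decide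
    rw [← Int.mul_ediv_add_emod (n * n) 3, h1, zpow_add, zpow_mul, hk3, one_zpow, one_mul, zpow_one]
  set d := (q * q)⁻¹ * t with hd'
  have hd : d ∈ X.R := by
    refine (X.f_eq_one (mul_mem (inv_mem (mul_mem hq hq)) ht)).mp ?_
    rw [X.f_mul (inv_mem (mul_mem hq hq)) ht, X.f_inv (mul_mem hq hq), X.f_mul hq hq, hu, htf,
      inv_mul_cancel]
  refine hnot fun x hx => ?_
  set y : G := d * x * d⁻¹
  have hy : y ∈ X.R := mul_mem (mul_mem hd hx) (inv_mem hd)
  have e1 : t * x * t⁻¹ = q * (q * y * q⁻¹) * q⁻¹ := by simp only [y, hd']; group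
  have h2 : q * (q * y * q⁻¹) * q⁻¹ * y⁻¹ ∈ F :=
    (QuotientGroup.eq_one_iff (α (α ⟨y, hy⟩) * (⟨y, hy⟩ : X.R)⁻¹)).mp (by
      show π (α (α ⟨y, hy⟩) * _) = 1
      rw [map_mul, map_inv, mul_inv_eq_one]
      exact hsq (π ⟨y, hy⟩))
  have hw : t * x * t⁻¹ * x⁻¹ ∈ F := by
    rw [e1, show q * (q * y * q⁻¹) * q⁻¹ * x⁻¹ =
      (q * (q * y * q⁻¹) * q⁻¹ * y⁻¹) * (d * x * d⁻¹ * x⁻¹) by simp only [y]; group]
    exact mul_mem h2 (hZF (X.comm_R hd hx))
  have hw1 := X.R_sq hw.1 (tw x _ (by group) (hfix _ hw))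
  rwa [mul_inv_eq_one] at hw1

end Ctx

end CfsgLib.PSpFourThree
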