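import Cfsg.Agent.Lib.PSpFourThree.Coord

/-!
Working in the coordinates of the normalizer of `J`.
-/

set_option autoImplicit false
set_option maxRecDepth 20000
set_option linter.style.haveILetI false

namespace CfsgLib.PSpFourThree

open CfsgLib.SymNineThree CfsgLib.SymNineThree.Mon

attribute [local instance 2000] List.decidableBAll List.decidableBEx

/-- Whether the digits of a translation code sum to zero. -/
def sumZ (v : ℕ) : Bool := Nat.beq ((v % 3 + v / 3 % 3 + v / 9) % 3) 0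

theorem sumZ_gen : ((List.range 27).all fun v => !sumZ v || (List.range 3).any fun i =>
    (List.range 3).any fun j => Nat.beq v (addV (scV i 7) (scV j 13))) = true := by decide +kernel

theorem scV_tr : ∀ i : Fin 3, tr (scV i 7) = tr 7 ^ (i : ℕ) ∧ tr (scV i 13) = tr 13 ^ (i : ℕ) ∧
    scV i 7 < 27 ∧ scV i 13 < 27 := by decide +kernel

theorem comm_seven : tr 1 * of 648 * (tr 1)⁻¹ * (of 648)⁻¹ = tr 7 ∨
    tr 3 * of 648 * (tr 3)⁻¹ * (of 648)⁻¹ = tr 7 ∨ tr 9 * of 648 * (tr 9)⁻¹ * (of 648)⁻¹ = tr 7 ∨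
    (of 648 * tr 1 * (of 648)⁻¹ * (tr 1)⁻¹ = tr 7) ∨ (of 648 * tr 3 * (of 648)⁻¹ * (tr 3)⁻¹ = tr 7) ∨
    (of 648 * tr 9 * (of 648)⁻¹ * (tr 9)⁻¹ = tr 7) := by decide +kernel

theorem syl_cube_check : ((List.range 1296).all fun x => !inK 0 x || !Nat.beq (mulM x (mulM x x)) 0 || inT x ||
    (List.range 27).any fun v => Nat.beq (mulM (mulM (trC v) x) (invM (trC v))) 648 ||
      Nat.beq (mulM (mulM (trC v) x) (invM (trC v))) 864) = true := by decide +kernel

theorem cent_check : ((List.range 4).all fun k => (List.range 1296).all fun x =>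
    !inK k x || !Nat.beq (mulM x 43) (mulM 43 x) || inK 0 x) = true := CfsgLib.SymNineThree.cent_z

theorem invert_check : ((List.range 1296).all fun x =>
    (!inK 0 x || !Nat.beq (mulM (mulM x (trC 13)) (invM x)) (trC 26)) &&
    (!inK 2 x || !Nat.beq (mulM (mulM x (trC 13)) (invM x)) (trC 26))) = true := by decide +kernel

namespace Coord

variable {G : Type*} [Group G] [Finite G] {X : Ctx G} (U : Coord X)

/-- The coordinates extended by one. -/
noncomputable def f (x : Mon) : G :=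
  open scoped _root_.Classical in if h : x ∈ Kd U.k then U.Φ ⟨x, h⟩ else 1

theorem f_eq {x : Mon} (hx : x ∈ Kd U.k) : U.f x = U.Φ ⟨x, hx⟩ := dif_pos hx

theorem f_mul {x y : Mon} (hx : x ∈ Kd U.k) (hy : y ∈ Kd U.k) : U.f (x * y) = U.f x * U.f y := by
  rw [U.f_eq hx, U.f_eq hy, U.f_eq ((Kd U.k).mul_mem hx hy), ← map_mul]; rfl

theorem f_one : U.f 1 = 1 := by rw [U.f_eq (Kd U.k).one_mem]; exact map_one U.Φ

theorem f_inv {x : Mon} (hx : x ∈ Kd U.k) : U.f x⁻¹ = (U.f x)⁻¹ := by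
  rw [U.f_eq hx, U.f_eq ((Kd U.k).inv_mem hx), ← map_inv]; rfl

theorem f_inj {x y : Mon} (hx : x ∈ Kd U.k) (hy : y ∈ Kd U.k) (h : U.f x = U.f y) : x = y := by
  rw [U.f_eq hx, U.f_eq hy] at h
  exact congrArg Subtype.val (U.inj h)

theorem f_conj {x y : Mon} (hx : x ∈ Kd U.k) (hy : y ∈ Kd U.k) :
    U.f (x * y * x⁻¹) = U.f x * U.f y * (U.f x)⁻¹ := by
  rw [U.f_mul ((Kd U.k).mul_mem hx hy) ((Kd U.k).inv_mem hx), U.f_mul hx hy, U.f_inv hx]

theorem f_pow {x : Mon} (hx : x ∈ Kd U.k) (n : ℕ) : U.f (x ^ n) = U.f x ^ n := by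
  rw [U.f_eq hx, U.f_eq ((Kd U.k).pow_mem hx n), ← map_pow]; rfl

theorem f_comm {x y : Mon} (hx : x ∈ Kd U.k) (hy : y ∈ Kd U.k) :
    U.f x * U.f y = U.f y * U.f x ↔ x * y = y * x := by
  rw [← U.f_mul hx hy, ← U.f_mul hy hx]
  exact ⟨U.f_inj ((Kd U.k).mul_mem hx hy) ((Kd U.k).mul_mem hy hx), congrArg U.f⟩

theorem f_mem_N {x : Mon} (hx : x ∈ Kd U.k) : U.f x ∈ Subgroup.normalizer (X.J : Set G) :=
  U.range ▸ ⟨⟨x, hx⟩, (U.f_eq hx).symm⟩

theorem exists_f {g : G} (hg : g ∈ Subgroup.normalizer (X.J : Set G)) :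
    ∃ x ∈ Kd U.k, g = U.f x := by
  rw [← U.range] at hg
  obtain ⟨x, rfl⟩ := hg
  exact ⟨x, x.2, (U.f_eq x.2).symm⟩

theorem f_mem_J {x : Mon} (hx : x ∈ Kd U.k) : U.f x ∈ X.J ↔ x ∈ Tr := by
  rw [U.f_eq hx]; exact U.jval _

/-- The element of `J` with a given code. -/
noncomputable def ι (v : ℕ) : G := U.f (tr v)

theorem ι_mem {v : ℕ} (hv : v < 27) : U.ι v ∈ X.J :=
  (U.f_mem_J (tr_mem hv)).mpr (mem_Tr.mpr ⟨v, hv, rfl⟩)

theorem exists_ι {g : G} (hg : g ∈ X.J) : ∃ v < 27, g = U.ι v := by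
  obtain ⟨x, hx, rfl⟩ := U.exists_f (Subgroup.le_normalizer hg)
  obtain ⟨v, hv, rfl⟩ := mem_Tr.mp ((U.f_mem_J hx).mp hg)
  exact ⟨v, hv, rfl⟩

theorem ι_inj {v w : ℕ} (hv : v < 27) (hw : w < 27) (h : U.ι v = U.ι w) : v = w :=
  tr_inj hv hw (U.f_inj (tr_mem hv) (tr_mem hw) h)

theorem ι_add {v w : ℕ} (hv : v < 27) (hw : w < 27) : U.ι (addV v w) = U.ι v * U.ι w := by
  show U.f (tr (addV v w)) = U.f (tr v) * U.f (tr w)
  rw [← U.f_mul (tr_mem hv) (tr_mem hw), tr_mul hv hw]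

theorem ι_zero : U.ι 0 = 1 := by rw [ι, tr_zero, U.f_one]

theorem ι_thirteen : U.ι 13 = X.a := by
  show U.f (tr 13) = X.a
  rw [U.f_eq (tr_mem (by norm_num))]
  exact U.zval

theorem inv_a : X.a⁻¹ = U.ι 26 := by
  refine inv_eq_of_mul_eq_one_right ?_
  rw [← U.ι_thirteen, ← U.ι_add (by norm_num) (by norm_num), show addV 13 26 = 0 by decide +kernel,
    U.ι_zero]

/-- Fusion in coordinates. -/
theorem fusion {v w : ℕ} (hv : v < 27) (hw : w < 27) {g : G} (hg : g * U.ι v * g⁻¹ = U.ι w) :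
    ∃ x ∈ Kd U.k, x * tr v * x⁻¹ = tr w := by
  obtain ⟨n, hn, e⟩ := X.fusion (U.ι_mem hv) (g := g) (hg ▸ U.ι_mem hw)
  obtain ⟨x, hx, rfl⟩ := U.exists_f hn
  refine ⟨x, hx, U.f_inj ((Kd U.k).mul_mem ((Kd U.k).mul_mem hx (tr_mem hv)) ((Kd U.k).inv_mem hx))
    (tr_mem hw) ?_⟩
  rw [U.f_conj hx (tr_mem hv)]
  exact e.trans hg

/-- When `a` is conjugate to its inverse, the kind is odd. -/
theorem kind_odd {g : G} (hg : g * X.a * g⁻¹ = X.a⁻¹) : U.k = 1 ∨ U.k = 3 := by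
  rw [U.inv_a, ← U.ι_thirteen] at hg
  obtain ⟨x, hx, e⟩ := U.fusion (by norm_num) (by norm_num) hg
  have hk : U.k = 0 ∨ U.k = 1 ∨ U.k = 2 ∨ U.k = 3 := by
    have h : ∀ k : Fin 4, k = 0 ∨ k = 1 ∨ k = 2 ∨ k = 3 := by decide
    exact h _
  have h := List.all_eq_true.mp invert_check _ (List.mem_range.mpr x.c.isLt)
  have e' : Nat.beq (mulM (mulM (x.c : ℕ) (trC 13)) (invM x.c)) (trC 26) = true := by
    rw [Nat.beq_eq, ← code_tr (show 13 < 27 by norm_num), ← code_tr (show 26 < 27 by norm_num),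
      ← code_inv, ← code_mul, ← code_mul, e]
  simp only [e', Bool.not_true, Bool.or_false, Bool.and_eq_true, Bool.not_eq_true'] at h
  rcases hk with h0 | h0 | h0 | h0
  · rw [mem_Kd, h0] at hx
    exact absurd hx (by rw [show ((0 : Fin 4) : ℕ) = 0 from rfl, h.1]; decide)
  · exact Or.inl h0
  · rw [mem_Kd, h0] at hx
    exact absurd hx (by rw [show ((2 : Fin 4) : ℕ) = 2 from rfl, h.2]; decide)
  · exact Or.inr h0

/-! ### The centralizer of `a` and the Sylow subgroup -/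

theorem f_mem_C {x : Mon} (hx : x ∈ Kd 0) : U.f x ∈ X.C := by
  refine mem_centralizer_iff'.mpr ?_
  rw [← U.ι_thirteen]
  refine (U.f_comm (Kd_mono hx) (tr_mem (by norm_num))).mpr (comm_iff.mpr ?_)
  rw [code_tr (show 13 < 27 by norm_num)]
  have h : ((List.range 1296).all fun c => !inK 0 c || Nat.beq (mulM c (trC 13)) (mulM (trC 13) c)) = true := by
    decide +kernel
  have := List.all_eq_true.mp h _ (List.mem_range.mpr x.c.isLt)
  rw [Bool.or_eq_true, Bool.not_eq_true', Nat.beq_eq] at this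
  exact this.resolve_left fun e => Bool.false_ne_true (e.symm.trans (mem_Kd.mp hx))

theorem exists_f_C {g : G} (hg : g ∈ X.C) (hN : g ∈ Subgroup.normalizer (X.J : Set G)) :
    ∃ x ∈ Kd 0, g = U.f x := by
  obtain ⟨x, hx, rfl⟩ := U.exists_f hN
  refine ⟨x, ?_, rfl⟩
  have hc := X.a_comm hg
  rw [← U.ι_thirteen] at hc
  have hc' := comm_iff.mp ((U.f_comm hx (tr_mem (by norm_num))).mp hc)
  rw [code_tr (show 13 < 27 by norm_num), Nat.eq_of_beq_eq_true tr_facts.2.2.2] at hc'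
  have h := List.all_eq_true.mp (List.all_eq_true.mp cent_check U.k (List.mem_range.mpr U.k.isLt))
    x.c (List.mem_range.mpr x.c.isLt)
  simp only [Bool.or_eq_true, Bool.not_eq_true'] at h
  rcases h with (h | h) | h
  · exact absurd ((mem_Kd.mp hx).symm.trans h) (by decide)
  · exact absurd hc' fun e => Bool.false_ne_true (h.symm.trans (by rw [e]; exact Nat.beq_refl _))
  · exact mem_Kd.mpr h

/-- The Sylow subgroup is the image of translations and rotations. -/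
theorem mem_S {g : G} : g ∈ X.S ↔ ∃ x ∈ Syl, g = U.f x := by
  classical
  let F : Kd U.k →* G := U.Φ
  set P : Subgroup G := (Syl.subgroupOf (Kd U.k)).map F with hP
  have hcard : Nat.card P = 81 := by
    rw [hP, Subgroup.card_map_of_injective (f := F) U.inj,
      Nat.card_congr (Subgroup.subgroupOfEquivOfLe (Syl_le _)).toEquiv, card_Syl]
  have hmem : ∀ {g : G}, g ∈ P ↔ ∃ x ∈ Syl, g = U.f x := by
    intro g
    constructor
    · rintro ⟨y, hy, rfl⟩
      exact ⟨y, hy, (U.f_eq y.2).symm⟩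
    · rintro ⟨x, hx, rfl⟩
      exact ⟨⟨x, Syl_le _ hx⟩, hx, (U.f_eq (Syl_le _ hx)).symm⟩
  suffices P = X.S by rw [← this]; exact hmem
  haveI : Fact (Nat.Prime 3) := ⟨Nat.prime_three⟩
  have hp : IsPGroup 3 P := IsPGroup.of_card (n := 4) (by rw [hcard]; norm_num)
  have hPn : P ≤ Subgroup.normalizer (X.S : Set G) := by
    intro g hg
    obtain ⟨x, hx, rfl⟩ := hmem.mp hg
    refine mem_of_map_conj _ fun s hs => ?_
    have hC := U.f_mem_C hx.1
    have hN := U.f_mem_N (Syl_le U.k hx)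
    refine X.mem_S.mpr ⟨mul_mem (mul_mem hC (X.S_le hs)) (inv_mem hC), ?_⟩
    rw [X.f_mul (mul_mem hC (X.S_le hs)) (inv_mem hC), X.f_mul hC (X.S_le hs), X.f_inv hC]
    obtain ⟨n, hn⟩ := Subgroup.mem_zpowers_iff.mp (X.mem_S.mp hs).2
    rw [← hn, ← conj_zpow]
    exact zpow_mem ((X.mem_normalizer_C hC).mp hN) n
  have hsup : P ⊔ X.S = X.S :=
    X.S_maximal (IsPGroup.to_sup_of_normal_right' hp X.S_pgroup hPn) le_sup_right
  exact Subgroup.eq_of_le_of_card_ge (le_sup_left.trans hsup.le) (by rw [X.card_S, hcard])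

theorem sg_mem_R : U.f (of 648) ∈ X.R := by
  obtain ⟨r, hr, hrJ⟩ : ∃ r ∈ X.R, r ∉ X.J := by
    by_contra h
    push Not at h
    exact X.J_ne_R (Subgroup.eq_of_le_of_card_ge h (by rw [X.card_R, X.card_J])).symm
  obtain ⟨x, hx, rfl⟩ := U.mem_S.mp (X.R_le_S hr)
  have hxK : x ∈ Kd U.k := Syl_le _ hx
  have h := List.all_eq_true.mp syl_cube_check _ (List.mem_range.mpr x.c.isLt)
  have hc : Nat.beq (mulM x.c (mulM x.c x.c)) 0 = true := by
    rw [Nat.beq_eq]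
    have h3 : U.f (x * (x * x)) = U.f 1 := by
      rw [U.f_mul hxK ((Kd U.k).mul_mem hxK hxK), U.f_mul hxK hxK, U.f_one, ← mul_assoc, X.cubeR hr]
    have e := congrArg (fun y : Mon => (y.c : ℕ))
      (U.f_inj ((Kd U.k).mul_mem hxK ((Kd U.k).mul_mem hxK hxK)) (Kd U.k).one_mem h3)
    simpa [code_mul, code_one] using e
  have hnT : inT x.c = false := by
    by_contra e
    rw [Bool.not_eq_false] at e
    exact hrJ ((U.f_mem_J hxK).mpr e)
  simp only [hc, hnT, Bool.not_true, Bool.or_false, Bool.or_eq_true, Bool.not_eq_true',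
    List.any_eq_true, List.mem_range, Nat.beq_eq] at h
  obtain ⟨v, hv, h⟩ := h.resolve_left (fun e => Bool.false_ne_true (e.symm.trans hx.1))
  have hconj : U.ι v * U.f x * (U.ι v)⁻¹ ∈ X.R := X.R_normal (X.J_le (U.ι_mem hv)) hr
  rw [ι, ← U.f_conj (tr_mem hv) hxK] at hconj
  rcases h with h | h
  · rwa [show tr v * x * (tr v)⁻¹ = of 648 from code_eq.mpr (by
      rw [code_mul, code_mul, code_inv, code_tr hv, h, code_of (by norm_num)])] at hconj
  · rw [show tr v * x * (tr v)⁻¹ = (of 648)⁻¹ from code_eq.mpr (by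
      rw [code_mul, code_mul, code_inv, code_tr hv, h, code_inv, code_of (by norm_num)]
      decide +kernel), U.f_inv (Syl_le _ sg_syl)] at hconj
    exact inv_mem_iff.mp hconj

theorem seven_mem_R : U.ι 7 ∈ X.R := by
  have key : ∀ w : ℕ, w < 27 → (tr w * of 648 * (tr w)⁻¹ * (of 648)⁻¹ = tr 7 ∨
      of 648 * tr w * (of 648)⁻¹ * (tr w)⁻¹ = tr 7) → U.ι 7 ∈ X.R := by
    intro w hw h
    have hs : of 648 ∈ Kd U.k := Syl_le _ sg_syl
    have hC := X.J_le (U.ι_mem hw)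
    have hR := U.sg_mem_R
    rcases h with h | h
    · rw [ι, ← h, U.f_mul ((Kd U.k).mul_mem ((Kd U.k).mul_mem (tr_mem hw) hs) ((Kd U.k).inv_mem (tr_mem hw)))
        ((Kd U.k).inv_mem hs), U.f_conj (tr_mem hw) hs, U.f_inv hs]
      exact mul_mem (X.R_normal hC hR) (inv_mem hR)
    · rw [ι, ← h, show of 648 * tr w * (of 648)⁻¹ * (tr w)⁻¹ =
          of 648 * (tr w * (of 648)⁻¹ * (tr w)⁻¹) by group,
        U.f_mul hs ((Kd U.k).mul_mem ((Kd U.k).mul_mem (tr_mem hw) ((Kd U.k).inv_mem hs))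
          ((Kd U.k).inv_mem (tr_mem hw))), U.f_conj (tr_mem hw) ((Kd U.k).inv_mem hs), U.f_inv hs]
      exact mul_mem hR (X.R_normal hC (inv_mem hR))
  rcases comm_seven with h | h | h | h | h | h
  · exact key 1 (by norm_num) (Or.inl h)
  · exact key 3 (by norm_num) (Or.inl h)
  · exact key 9 (by norm_num) (Or.inl h)
  · exact key 1 (by norm_num) (Or.inr h)
  · exact key 3 (by norm_num) (Or.inr h)
  · exact key 9 (by norm_num) (Or.inr h)

theorem ι_Z {v : ℕ} (hv : v < 27) : U.ι v ∈ X.Z ↔ v = 0 ∨ v = 13 ∨ v = 26 := by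
  have h26 : X.a * X.a = U.ι 26 := by
    rw [← U.inv_a]; exact (inv_eq_of_mul_eq_one_left X.a_cube).symm
  rw [X.mem_Z, ← U.ι_zero, h26, ← U.ι_thirteen]
  constructor
  · rintro (h | h | h)
    · exact Or.inl (U.ι_inj hv (by norm_num) h)
    · exact Or.inr (Or.inl (U.ι_inj hv (by norm_num) h))
    · exact Or.inr (Or.inr (U.ι_inj hv (by norm_num) h))
  · rintro (rfl | rfl | rfl) <;> simp

/-- The intersection of `J` and `R`: digit sum zero. -/
theorem ι_mem_R {v : ℕ} (hv : v < 27) : U.ι v ∈ X.R ↔ sumZ v = true := by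
  classical
  have hgen : ∀ w < 27, sumZ w = true → U.ι w ∈ X.R := by
    intro w hw hs
    have h := List.all_eq_true.mp sumZ_gen w (List.mem_range.mpr hw)
    simp only [hs, Bool.not_true, Bool.false_or, List.any_eq_true, List.mem_range, Nat.beq_eq] at h
    obtain ⟨i, hi, j, hj, rfl⟩ := h
    obtain ⟨e1, -, l1, -⟩ := scV_tr ⟨i, hi⟩
    obtain ⟨-, e2, -, l2⟩ := scV_tr ⟨j, hj⟩
    rw [U.ι_add l1 l2, show U.ι (scV i 7) = U.ι 7 ^ i by
        rw [ι, e1, U.f_pow (tr_mem (by norm_num))]; rfl,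
      show U.ι (scV j 13) = X.a ^ j by rw [← U.ι_thirteen, ι, e2, U.f_pow (tr_mem (by norm_num))]; rfl]
    exact mul_mem (pow_mem U.seven_mem_R i) (pow_mem X.a_mem_R j)
  refine ⟨fun h => ?_, hgen v hv⟩
  by_contra hs
  rw [Bool.not_eq_true] at hs
  let T := {w : Fin 27 // sumZ w = true ∨ (w : ℕ) = v}
  let m : T → ↥(X.J ⊓ X.R) := fun w => ⟨U.ι w.1, U.ι_mem w.1.isLt, by
    rcases w.2 with e | e
    · exact hgen _ w.1.isLt e
    · rw [e]; exact h⟩
  have hm : Function.Injective m := fun p q e =>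
    Subtype.ext (Fin.ext (U.ι_inj p.1.isLt q.1.isLt (congrArg (fun z : ↥(X.J ⊓ X.R) => (z : G)) e)))
  have hle := Nat.card_le_card_of_injective m hm
  rw [X.card_inf] at hle
  have hT : ∀ u : Fin 27, sumZ u = false →
      9 < Fintype.card {w : Fin 27 // sumZ w = true ∨ (w : ℕ) = (u : ℕ)} := by decide +kernel
  have h9 : Fintype.card T > 9 := hT ⟨v, hv⟩ hs
  rw [Nat.card_eq_fintype_card] at hle
  omega

end Coord

end CfsgLib.PSpFourThree
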