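import Cfsg.Agent.Lib.PSpFourThree.Local
import Cfsg.Agent.Lib.SymNineThree.Api
import Cfsg.Agent.S3376

/-!
Coordinates on the normalizer of `J`: one of the four subgroups of `S₃ ≀ S₃` containing the
centralizer of the product of the three cycles.
-/

set_option autoImplicit false
set_option maxRecDepth 20000
set_option linter.style.haveILetI false

namespace CfsgLib.PSpFourThree

open CfsgLib.SymNineThree CfsgLib.SymNineThree.Mon

attribute [local instance 2000] List.decidableBAll List.decidableBEx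

theorem zE_code : (zE : Mon) = tr 13 := rfl

theorem center_check : ((List.range 27).all fun v => Nat.beq v 0 || Nat.beq v 13 || Nat.beq v 26 ||
    !Nat.beq (mulM 648 (trC v)) (mulM (trC v) 648)) = true := by decide +kernel

theorem flip_check :
    ((List.range 4).all fun k => (List.range 1296).all fun x => !inK k x ||
      inK k (mulM (mulM 129 x) (invM 129))) = true ∧
    of 129 * tr 26 * (of 129)⁻¹ = zE ∧ of 129 * of 129 = 1 ∧ inT (of 129).c = false := by
  refine ⟨?_, ?_, ?_, ?_⟩ <;> decide +kernel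

theorem sg_syl : of 648 ∈ Syl := by
  refine ⟨by show inK 0 _ = true; rw [code_of (by norm_num)]; decide +kernel, Or.inr ?_⟩
  rw [code_of (by norm_num)]
  decide +kernel

/-- Coordinates on the normalizer of `J`. -/
structure Coord {G : Type*} [Group G] [Finite G] (X : Ctx G) where
  k : Fin 4
  Φ : Kd k →* G
  inj : Function.Injective Φ
  range : Φ.range = Subgroup.normalizer (X.J : Set G)
  zval : Φ ⟨zE, tr_mem (by norm_num)⟩ = X.a
  jval : ∀ x : Kd k, Φ x ∈ X.J ↔ (x : Mon) ∈ Tr

variable {G : Type*} [Group G] [Finite G]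

namespace Ctx

variable (X : Ctx G)

theorem S_le_normalizer : X.S ≤ Subgroup.normalizer (X.J : Set G) := fun _ hs =>
  X.J_conj_S fun _ hy => mul_mem (mul_mem hs (X.J_le_S hy)) (inv_mem hs)

/-- The centralizer of `a` in the normalizer is the centralizer in `Sym(9)`. -/
theorem exists_iso : Nonempty (↥(X.C ⊓ Subgroup.normalizer (X.J : Set G)) ≃*
    ↥(Subgroup.centralizer ({Equiv.swap (0 : Fin 9) 1 * Equiv.swap 1 2 * Equiv.swap 3 4 * Equiv.swap 4 5 *
      Equiv.swap 6 7 * Equiv.swap 7 8} : Set (Equiv.Perm (Fin 9))))) := by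
  classical
  haveI : Fact (Nat.Prime 3) := ⟨Nat.prime_three⟩
  haveI : Fact (Nat.Prime 2) := ⟨Nat.prime_two⟩
  set H := X.C ⊓ Subgroup.normalizer (X.J : Set G) with hH
  have hJH : X.J ≤ H := le_inf X.J_le Subgroup.le_normalizer
  have hSH : X.S ≤ H := le_inf X.S_le X.S_le_normalizer
  have f3 : (Nat.card H).factorization 3 = 4 := by
    rw [X.card_NC, show (162 : ℕ) = 3 ^ 4 * 2 by norm_num,
      Nat.factorization_mul (by norm_num) (by norm_num), Nat.factorization_pow,
      Nat.Prime.factorization (by norm_num : Nat.Prime 3),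
      Nat.Prime.factorization (by norm_num : Nat.Prime 2)]
    simp
  have f2 : (Nat.card H).factorization 2 = 1 := by
    rw [X.card_NC, show (162 : ℕ) = 3 ^ 4 * 2 by norm_num,
      Nat.factorization_mul (by norm_num) (by norm_num), Nat.factorization_pow,
      Nat.Prime.factorization (by norm_num : Nat.Prime 3),
      Nat.Prime.factorization (by norm_num : Nat.Prime 2)]
    simp
  let S : Sylow 3 H := Sylow.ofCard (X.S.subgroupOf H) (by
    rw [Nat.card_congr (Subgroup.subgroupOfEquivOfLe hSH).toEquiv, X.card_S, f3]; norm_num)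
  obtain ⟨t, htC, ht2, ht1, htf, htN⟩ := X.exists_t
  let T : Sylow 2 H := Sylow.ofCard (Subgroup.zpowers (⟨t, htC, htN⟩ : H)) (by
    rw [Nat.card_zpowers, f2, pow_one]
    exact orderOf_eq_prime (Subtype.ext (by
      show t ^ 2 = 1
      rw [pow_two, ht2])) fun e => ht1 (congrArg Subtype.val e))
  haveI : (X.J.subgroupOf H).Normal := ⟨fun n hn g => (Subgroup.mem_normalizer_iff.mp g.2.2 _).mp hn⟩
  have hJcard : Nat.card (X.J.subgroupOf H) = 27 := by
    rw [Nat.card_congr (Subgroup.subgroupOfEquivOfLe hJH).toEquiv, X.card_J]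
  have haH : X.a ∈ H := hJH X.a_mem_J
  have hZcard : Nat.card ↥((S : Subgroup H) ⊓ Subgroup.centralizer ((S : Subgroup H) : Set H)) = 3 := by
    refine Eq.trans ?_ X.card_Z
    refine Nat.card_congr
      { toFun := fun z => ⟨((z : H) : G), X.mem_Z_of_S z.2.1 fun s hs =>
          congrArg Subtype.val (Subgroup.mem_centralizer_iff.mp z.2.2 ⟨s, hSH hs⟩ hs)⟩
        invFun := fun z => ⟨⟨z, hJH (X.Z_le_J z.2)⟩, X.R_le_S (X.Z_le_R z.2),
          Subgroup.mem_centralizer_iff.mpr fun s hs => Subtype.ext (X.Z_comm s.2.1 z.2)⟩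
        left_inv := fun _ => rfl
        right_inv := fun _ => rfl }
  refine Cfsg.Agent.S3376.result X.card_NC S T (X.J.subgroupOf H)
    ⟨⟨fun p q => Subtype.ext (Subtype.ext (X.comm _ p.2 _ q.2))⟩⟩
    (fun p hp => Subtype.ext (by
      show ((p : H) : G) ^ 3 = 1
      exact X.cube _ hp)) hJcard _ rfl hZcard ?_ ?_
  · intro z hz
    have hzZ := X.mem_Z_of_S hz.1 fun s hs =>
      congrArg Subtype.val (Subgroup.mem_centralizer_iff.mp hz.2 ⟨s, hSH hs⟩ hs)
    exact Subgroup.mem_centralizer_iff.mpr fun g _ => Subtype.ext (X.Z_comm g.2.1 hzZ)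
  · intro he
    obtain ⟨r, hr, hrR, hrZ⟩ := X.exists_r0
    have hrS : (⟨r, hJH hr⟩ : H) ∈ (S : Subgroup H) := X.J_le_S hr
    rw [← he] at hrS
    have hc : t * r = r * t := congrArg Subtype.val
      (Subgroup.mem_centralizer_iff.mp hrS.2 ⟨t, htC, htN⟩ (Subgroup.mem_zpowers _))
    exact hrZ (X.neg_one_no_fix htC htf ht2 hrR (by rw [hc]; simp))

/-- Coordinates exist. -/
theorem exists_coord : Nonempty (Coord X) := by
  classical
  haveI : Fact (Nat.Prime 3) := ⟨Nat.prime_three⟩
  obtain ⟨e⟩ := X.exists_iso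
  set N := Subgroup.normalizer (X.J : Set G) with hN
  have haN : X.a ∈ N := Subgroup.le_normalizer X.a_mem_J
  let x : N := ⟨X.a, haN⟩
  let e' : ↥(Subgroup.centralizer ({x} : Set N)) ≃* ↥(X.C ⊓ N) :=
    { toFun := fun g => ⟨((g : N) : G), mem_centralizer_iff'.mpr
        (congrArg Subtype.val (mem_centralizer_iff'.mp g.2)), g.1.2⟩
      invFun := fun g => ⟨⟨g, g.2.2⟩, mem_centralizer_iff'.mpr (Subtype.ext (X.a_comm g.2.1))⟩
      left_inv := fun _ => rfl
      right_inv := fun _ => rfl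
      map_mul' := fun _ _ => rfl }
  have hJN : X.J ≤ N := Subgroup.le_normalizer
  obtain ⟨U, hU⟩ := CfsgLib.SymNineThree.exists_setup (G := N) (x := x) (e'.trans e) (X.J.subgroupOf N)
    (fun g hg => mem_centralizer_iff'.mpr (Subtype.ext (X.comm _ hg _ X.a_mem_J)))
    ⟨⟨fun p q => Subtype.ext (Subtype.ext (X.comm _ p.2 _ q.2))⟩⟩
    (fun j hj => Subtype.ext (X.cube _ hj))
    (by rw [Nat.card_congr (Subgroup.subgroupOfEquivOfLe hJN).toEquiv, X.card_J])
    (by rw [← Subgroup.orderOf_coe]; exact X.ha)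
    (by
      intro K hK hKJ
      have hbot := X.sig (K.map N.subtype)
        (by rw [Subgroup.card_map_of_injective N.subtype_injective]; exact hK) fun j hj =>
        mem_of_map_conj _ (by
          rintro _ ⟨y, hy, rfl⟩
          refine ⟨⟨j, hJN hj⟩ * y * (⟨j, hJN hj⟩ : N)⁻¹, ?_, rfl⟩
          rw [SetLike.mem_coe, ← hKJ ⟨j, hJN hj⟩ hj]
          exact ⟨y, hy, rfl⟩)
      exact (Subgroup.map_eq_bot_iff_of_injective _ N.subtype_injective).mp hbot)
  have hnorm : Subgroup.normalizer (U.J : Set N) = ⊤ := by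
    rw [hU]
    haveI : (X.J.subgroupOf N).Normal := ⟨fun n hn g => (Subgroup.mem_normalizer_iff.mp g.2 _).mp hn⟩
    exact Subgroup.normalizer_eq_top _
  have htop : U.Φ.range = ⊤ := U.normalizer_J ▸ hnorm
  -- the Sylow subgroups of the normalizer
  have hP : ∀ Q : Subgroup N, IsPGroup 3 Q → U.P ≤ Q → Q = U.P := by
    intro Q hQ hle
    refine (Subgroup.eq_of_le_of_card_ge hle ?_).symm
    rw [U.card_P]
    obtain ⟨i, hi⟩ := hQ.exists_card_eq
    have hS : IsPGroup 3 (Q.map N.subtype) := hQ.map _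
    obtain ⟨P', hP'⟩ := hS.exists_le_sylow
    have hc : Nat.card (P' : Subgroup G) = 81 := by
      rw [P'.card_eq_multiplicity, ← X.sylow.card_eq_multiplicity]
      exact X.card_S
    have := Subgroup.card_le_of_le hP'
    rwa [hc, Subgroup.card_map_of_injective N.subtype_injective] at this
  let P₁ : Sylow 3 N := ⟨U.P, U.P_pgroup, fun hQ hle => hP _ hQ hle⟩
  let P₂ : Sylow 3 N := Sylow.subtype X.sylow (show (X.sylow : Subgroup G) ≤ N from X.S_le_normalizer)
  obtain ⟨n, hn⟩ := MulAction.exists_smul_eq N P₂ P₁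
  obtain ⟨y, hy⟩ : (n : N) ∈ U.Φ.range := htop ▸ Subgroup.mem_top n
  -- the image of `a` is central in the Sylow subgroup
  set a' : N := n * x * n⁻¹ with ha'
  have hcen : ∀ s ∈ U.P, s * a' = a' * s := by
    intro s hs
    have hs' : s ∈ (P₁ : Subgroup N) := hs
    rw [← hn, Sylow.coe_subgroup_smul] at hs'
    obtain ⟨w, hw, rfl⟩ := (Subgroup.mem_smul_pointwise_iff_exists _ _ _).mp hs'
    have hwS : (w : G) ∈ X.S := hw
    have e2 : w * x = x * w := Subtype.ext (X.a_comm (X.S_le hwS))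
    show n * w * n⁻¹ * (n * x * n⁻¹) = n * x * n⁻¹ * (n * w * n⁻¹)
    rw [conj_mul, conj_mul, e2]
  have ha'J : a' ∈ U.J := by
    rw [hU]
    exact (Subgroup.mem_normalizer_iff.mp n.2 X.a).mp X.a_mem_J
  obtain ⟨v, hv, hva⟩ := U.mem_J.mp ha'J
  have hv13 : v = 13 ∨ v = 26 := by
    have hsK : of 648 ∈ Kd U.k := Syl_le _ sg_syl
    have h1 := hcen _ ((U.f_mem_img (Syl_le _) hsK).mpr sg_syl)
    rw [hva, U.f_comm hsK (tr_mem hv), comm_iff, code_of (by norm_num), code_tr hv] at h1
    have h := List.all_eq_true.mp center_check v (List.mem_range.mpr hv)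
    simp only [Bool.or_eq_true, Nat.beq_eq, Bool.not_eq_true'] at h
    rcases h with ((h | h) | h) | h
    · exfalso
      rw [h, tr_zero, U.f_one, ha', conj_eq_one_iff] at hva
      exact X.a_ne (congrArg Subtype.val hva)
    · exact Or.inl h
    · exact Or.inr h
    · rw [h1] at h
      simp at h
  -- normalize
  have hflip : ∀ m : Mon, m ∈ Kd U.k → of 129 * m * (of 129)⁻¹ ∈ Kd U.k := by
    intro m hm
    have h := List.all_eq_true.mp (List.all_eq_true.mp flip_check.1 _ (List.mem_range.mpr U.k.isLt)) _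
      (List.mem_range.mpr m.c.isLt)
    rw [Bool.or_eq_true, Bool.not_eq_true'] at h
    rw [mem_Kd, code_mul, code_mul, code_inv, code_of (by norm_num)]
    exact h.resolve_left fun e => Bool.false_ne_true (e.symm.trans (mem_Kd.mp hm))
  let β : Mon →* Mon := if v = 13 then MonoidHom.id Mon else (MulAut.conj (of 129)).toMonoidHom
  have hβinj : Function.Injective β := by
    by_cases h : v = 13
    · simp only [β, h, if_true]; exact fun _ _ h => h
    · simp only [β, h, if_false]; exact (MulAut.conj (of 129)).injective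
  have hβmem : ∀ m : Mon, m ∈ Kd U.k → β m ∈ Kd U.k := by
    intro m hm
    by_cases h : v = 13
    · simp only [β, h, if_true]; exact hm
    · simp only [β, h, if_false]; exact hflip m hm
  have hβz : β zE = tr v := by
    rcases hv13 with h | h
    · simp only [β, h, if_true]; rfl
    · subst h
      simp only [β, show ¬ (26 : ℕ) = 13 by norm_num, if_false]
      show of 129 * zE * (of 129)⁻¹ = tr 26
      rw [← flip_check.2.1, inv_eq_of_mul_eq_one_right flip_check.2.2.1]
      calc of 129 * (of 129 * tr 26 * of 129) * of 129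
          = (of 129 * of 129) * tr 26 * (of 129 * of 129) := by group
        _ = tr 26 := by rw [flip_check.2.2.1, one_mul, mul_one]
  let βK : Kd U.k →* Kd U.k :=
    { toFun := fun m => ⟨β m, hβmem m m.2⟩
      map_one' := Subtype.ext (map_one β)
      map_mul' := fun p q => Subtype.ext (map_mul β (p : Mon) q) }
  let Φ : Kd U.k →* G :=
    N.subtype.comp (((MulAut.conj n⁻¹).toMonoidHom.comp U.Φ).comp βK)
  have hΦ : ∀ m : Kd U.k, Φ m = (n : G)⁻¹ * (U.Φ (βK m) : G) * n := fun m => by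
    show ((n⁻¹ * U.Φ (βK m) * n⁻¹⁻¹ : N) : G) = _
    simp
  have hTr : ∀ m : Mon, β m ∈ Tr ↔ m ∈ Tr := by
    intro m
    by_cases h : v = 13
    · simp only [β, h, if_true]; exact Iff.rfl
    · simp only [β, h, if_false]
      refine ⟨fun hm => ?_, fun hm => conj_tr_mem _ hm⟩
      have := conj_tr_mem (of 129)⁻¹ hm
      change (of 129)⁻¹ * (of 129 * m * (of 129)⁻¹) * (of 129)⁻¹⁻¹ ∈ Tr at this
      simpa [mul_assoc] using this
  refine ⟨⟨U.k, Φ, fun p q hpq => ?_, ?_, ?_, fun m => ?_⟩⟩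
  · have h1 : U.Φ (βK p) = U.Φ (βK q) := Subtype.ext (by
      have := hpq
      rw [hΦ, hΦ] at this
      simpa using this)
    exact Subtype.ext (hβinj (congrArg Subtype.val (U.inj h1)))
  · refine le_antisymm (by rintro _ ⟨m, rfl⟩; exact SetLike.coe_mem _) fun g hg => ?_
    obtain ⟨m, hm⟩ : n * ⟨g, hg⟩ * n⁻¹ ∈ U.Φ.range := htop ▸ Subgroup.mem_top _
    have hbij : Function.Bijective βK := (Finite.injective_iff_bijective).mp fun p q h =>
      Subtype.ext (hβinj (congrArg Subtype.val h))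
    obtain ⟨m', rfl⟩ := hbij.2 m
    refine ⟨m', ?_⟩
    rw [hΦ, hm]
    show (n : G)⁻¹ * ((n : G) * g * (n : G)⁻¹) * n = g
    group
  · rw [hΦ, show βK ⟨zE, tr_mem (show 13 < 27 by norm_num)⟩ = ⟨tr v, tr_mem hv⟩ from Subtype.ext hβz,
      ← U.f_eq, ← hva, ha']
    show (n : G)⁻¹ * ((n : G) * X.a * (n : G)⁻¹) * n = X.a
    group
  · rw [hΦ, ← hTr m, show β (m : Mon) = ((βK m : Kd U.k) : Mon) from rfl, ← U.f_mem_J (βK m).2, U.f_eq (βK m).2, hU, Subgroup.mem_subgroupOf]
    exact ⟨fun h => by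
      have := (Subgroup.mem_normalizer_iff.mp n.2 _).mp h
      rwa [show (n : G) * ((n : G)⁻¹ * (U.Φ (βK m) : G) * n) * (n : G)⁻¹ = U.Φ (βK m) by group] at this,
      fun h => (Subgroup.mem_normalizer_iff.mp n.2 _).mpr (by
        rwa [show (n : G) * ((n : G)⁻¹ * (U.Φ (βK m) : G) * n) * (n : G)⁻¹ = U.Φ (βK m) by group])⟩

end Ctx

end CfsgLib.PSpFourThree
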