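import Cfsg.Agent.Lib.PSpFourThree.Codes
import Cfsg.Agent.S0077

/-!
Conjugates of `a` in the Sylow subgroup; when `a` is not fused to its inverse and the kind is the
smallest one, there is a normal subgroup of index three.
-/

set_option autoImplicit false
set_option maxRecDepth 20000
set_option linter.style.haveILetI false

namespace CfsgLib.PSpFourThree

open CfsgLib.SymNineThree CfsgLib.SymNineThree.Mon CfsgLib.PSpFourLocal
open scoped commutatorElement

attribute [local instance 2000] List.decidableBAll List.decidableBEx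

theorem seven_check : ((List.range 4).all fun k => (List.range 1296).all fun x =>
    !inK k x || !Nat.beq (mulM (mulM x (trC 13)) (invM x)) (trC 7)) = true := by decide +kernel

theorem central_check : ((List.range 1296).all fun x =>
    !inK 0 x || Nat.beq (mulM (mulM x (trC 13)) (invM x)) (trC 13)) = true := by decide +kernel

theorem sl_comm : ∀ g h : S23, (g * h * g⁻¹ * h⁻¹) * (g * h * g⁻¹ * h⁻¹) *
    (g * h * g⁻¹ * h⁻¹) * (g * h * g⁻¹ * h⁻¹) = 1 := by decide +kernel

/-- A finite commutative group of order divisible by three has a subgroup of index three. -/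
theorem exists_index_three {A : Type*} [CommGroup A] [Finite A] (h : 3 ∣ Nat.card A) :
    ∃ M : Subgroup A, M.index = 3 := by
  classical
  haveI : Fact (Nat.Prime 3) := ⟨Nat.prime_three⟩
  let c : A →* A := powMonoidHom 3
  obtain ⟨y, hy⟩ := exists_prime_orderOf_dvd_card' 3 h
  have hne : c.range ≠ ⊤ := by
    intro e
    have hs : Function.Surjective c := MonoidHom.range_eq_top.mp e
    have hi := (Finite.injective_iff_surjective).mpr hs
    have : y = 1 := hi (show y ^ 3 = (1 : A) ^ 3 by rw [← hy, pow_orderOf_eq_one, one_pow])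
    rw [this, orderOf_one] at hy
    omega
  obtain ⟨M, hM, hcM⟩ := (eq_top_or_exists_le_coatom c.range).resolve_left hne
  refine ⟨M, ?_⟩
  obtain ⟨z, -, hz⟩ := SetLike.exists_of_lt (lt_top_iff_ne_top.mpr hM.1)
  have htop : M ⊔ Subgroup.zpowers z = ⊤ := hM.2 _ (lt_of_le_of_ne le_sup_left fun e =>
    hz (e.ge (Subgroup.mem_sup_right (Subgroup.mem_zpowers z))))
  have hq : ∀ q : A ⧸ M, q ∈ Subgroup.zpowers (QuotientGroup.mk z : A ⧸ M) := by
    intro q
    obtain ⟨w, rfl⟩ := QuotientGroup.mk_surjective q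
    obtain ⟨m, hm, n, hn, rfl⟩ := Subgroup.mem_sup.mp (htop.ge (Subgroup.mem_top w))
    obtain ⟨i, rfl⟩ := Subgroup.mem_zpowers_iff.mp hn
    rw [QuotientGroup.mk_mul, (QuotientGroup.eq_one_iff m).mpr hm, one_mul]
    exact ⟨i, rfl⟩
  have ho : orderOf (QuotientGroup.mk z : A ⧸ M) = 3 := by
    refine orderOf_eq_prime ?_ fun e => hz ((QuotientGroup.eq_one_iff z).mp e)
    rw [← QuotientGroup.mk_pow]
    exact (QuotientGroup.eq_one_iff _).mpr (hcM ⟨z, rfl⟩)
  rw [Subgroup.index_eq_card, ← ho, ← Nat.card_zpowers,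
    show Subgroup.zpowers (QuotientGroup.mk z : A ⧸ M) = ⊤ from eq_top_iff.mpr fun q _ => hq q,
    Subgroup.card_top]

namespace Coord

variable {G : Type*} [Group G] [Finite G] {X : Ctx G} (U : Coord X)

theorem not_conj_seven {g : G} : g * X.a * g⁻¹ ≠ U.ι 7 := by
  intro h
  rw [← U.ι_thirteen] at h
  obtain ⟨x, hx, e⟩ := U.fusion (by norm_num) (by norm_num) h
  have hc := List.all_eq_true.mp (List.all_eq_true.mp seven_check U.k (List.mem_range.mpr U.k.isLt))
    x.c (List.mem_range.mpr x.c.isLt)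
  rw [Bool.or_eq_true, Bool.not_eq_true', Bool.not_eq_true'] at hc
  rcases hc with hc | hc
  · exact Bool.false_ne_true (hc.symm.trans (mem_Kd.mp hx))
  · refine Bool.false_ne_true (hc.symm.trans ?_)
    rw [Nat.beq_eq, ← code_tr (show 13 < 27 by norm_num), ← code_tr (show 7 < 27 by norm_num),
      ← code_inv, ← code_mul, ← code_mul, e]

include U in
theorem not_conj_R {g r : G} (hr : r ∈ X.R) (hrZ : r ∉ X.Z) : g * X.a * g⁻¹ ≠ r := by
  intro h
  have h7 : U.ι 7 ∉ X.Z := fun e => by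
    rcases (U.ι_Z (by norm_num)).mp e with e | e | e <;> norm_num at e
  obtain ⟨c, -, hc⟩ := X.R_conj hr hrZ U.seven_mem_R h7
  exact U.not_conj_seven (g := c * g) (by rw [← hc, ← h]; group)

include U in
/-- Conjugates of `a` in the Sylow subgroup lie in `J`. -/
theorem conj_mem_S {g : G} (h : g * X.a * g⁻¹ ∈ X.S) : g * X.a * g⁻¹ ∈ X.J := by
  by_contra hJ
  obtain ⟨x, hx, e⟩ := U.mem_S.mp h
  have hxK : x ∈ Kd U.k := Syl_le _ hx
  have hx3 : x * (x * x) = 1 := by
    refine U.f_inj ((Kd U.k).mul_mem hxK ((Kd U.k).mul_mem hxK hxK)) (Kd U.k).one_mem ?_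
    rw [U.f_mul hxK ((Kd U.k).mul_mem hxK hxK), U.f_mul hxK hxK, U.f_one, ← e,
      show g * X.a * g⁻¹ * (g * X.a * g⁻¹ * (g * X.a * g⁻¹)) = g * (X.a * X.a * X.a) * g⁻¹ by group,
      X.a_cube, mul_one, mul_inv_cancel]
  have hc := List.all_eq_true.mp syl_cube_check _ (List.mem_range.mpr x.c.isLt)
  have h3 : Nat.beq (mulM x.c (mulM x.c x.c)) 0 = true := by
    rw [Nat.beq_eq, ← code_mul, ← code_mul, hx3]; rfl
  have hT : inT x.c = false := by
    by_contra hT
    rw [Bool.not_eq_false] at hT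
    exact hJ (e ▸ (U.f_mem_J hxK).mpr hT)
  simp only [h3, hT, Bool.not_true, Bool.or_false, Bool.or_eq_true, Bool.not_eq_true',
    List.any_eq_true, List.mem_range, Nat.beq_eq] at hc
  obtain ⟨v, hv, hc⟩ := hc.resolve_left (fun e' => Bool.false_ne_true (e'.symm.trans hx.1))
  have hs : of 648 ∈ Kd U.k := Syl_le _ sg_syl
  have hsZ : U.f (of 648) ∉ X.Z := fun hz => by
    have hs' := (U.f_mem_J hs).mp (X.Z_le_J hz)
    have : inT (of 648).c = true := hs'
    rw [code_of (by norm_num)] at this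
    exact absurd this (by decide +kernel)
  have hconj : U.ι v * (g * X.a * g⁻¹) * (U.ι v)⁻¹ = U.f (tr v * x * (tr v)⁻¹) := by
    rw [e, U.f_conj (tr_mem hv) hxK]; rfl
  rcases hc with hc | hc
  · refine U.not_conj_R (g := U.ι v * g) U.sg_mem_R hsZ ?_
    rw [← show tr v * x * (tr v)⁻¹ = of 648 from code_eq.mpr (by
      rw [code_mul, code_mul, code_inv, code_tr hv, hc, code_of (by norm_num)]), ← hconj]
    group
  · have e2 : tr v * x * (tr v)⁻¹ = (of 648)⁻¹ := code_eq.mpr (by
      rw [code_mul, code_mul, code_inv, code_tr hv, hc, code_inv, code_of (by norm_num)]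
      decide +kernel)
    refine U.not_conj_R (g := U.ι v * g) (inv_mem U.sg_mem_R) (fun h => hsZ (inv_mem_iff.mp h)) ?_
    rw [← U.f_inv hs, ← e2, ← hconj]
    group

/-- The smallest kind gives a normal subgroup of index three. -/
theorem index_three (hk : U.k = 0) (hinv : ∀ g : G, g * X.a * g⁻¹ ≠ X.a⁻¹) :
    ∃ M : Subgroup G, M.Normal ∧ M.index = 3 := by
  classical
  haveI : Fact (Nat.Prime 3) := ⟨Nat.prime_three⟩
  have hW : Cfsg.IsWeaklyClosed X.Z (X.sylow : Subgroup G) := by
    refine ⟨fun z hz => X.R_le_S (X.Z_le_R hz), fun g hg => ?_⟩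
    have hmem : g * X.a * g⁻¹ ∈ X.S := hg ⟨X.a, Subgroup.mem_zpowers _, rfl⟩
    obtain ⟨w, hw, e⟩ := U.exists_ι (U.conj_mem_S hmem)
    have e' : g * U.ι 13 * g⁻¹ = U.ι w := by rw [U.ι_thirteen]; exact e
    obtain ⟨x, hx, ex⟩ := U.fusion (by norm_num) hw e'
    rw [hk] at hx
    have hc := List.all_eq_true.mp central_check _ (List.mem_range.mpr x.c.isLt)
    rw [Bool.or_eq_true, Bool.not_eq_true', Nat.beq_eq] at hc
    have h13 : tr w = tr 13 := by
      rw [← ex]
      refine code_eq.mpr ?_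
      rw [code_mul, code_mul, code_inv, code_tr (by norm_num)]
      exact hc.resolve_left fun e => Bool.false_ne_true (e.symm.trans (mem_Kd.mp hx))
    rw [tr_inj hw (by norm_num) h13, U.ι_thirteen] at e
    rw [Ctx.Z, MonoidHom.map_zpowers]
    exact congrArg Subgroup.zpowers e
  have h := Cfsg.Agent.S0077.result X.sylow X.Z (fun z hz => Subgroup.mem_centralizer_iff.mpr
    fun s hs => X.Z_comm (X.S_le hs) hz) hW
  have hN : Subgroup.normalizer (X.Z : Set G) ≤ X.C := by
    intro g hg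
    rcases X.mem_Z.mp ((Subgroup.mem_normalizer_iff.mp hg _).mp (Subgroup.mem_zpowers X.a)) with e | e | e
    · exact absurd (conj_eq_one_iff.mp e) X.a_ne
    · exact mem_centralizer_iff'.mpr (mul_inv_eq_iff_eq_mul.mp e)
    · exact absurd (e.trans (inv_eq_of_mul_eq_one_left X.a_cube).symm) (hinv g)
  have hx0 : X.x0 ∉ commutator G := fun hx => by
    have hm : X.x0 ∈ ⁅Subgroup.normalizer (X.Z : Set G), Subgroup.normalizer (X.Z : Set G)⁆ :=
      (h.le ⟨hx, X.J_le_S X.x0_mem⟩).1
    have hle : ⁅Subgroup.normalizer (X.Z : Set G), Subgroup.normalizer (X.Z : Set G)⁆ ≤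
        (q8.comap X.φ).map X.C.subtype := by
      rw [Subgroup.commutator_le]
      intro g hg k hk
      obtain ⟨g', rfl⟩ : ∃ g' : X.C, (g' : G) = g := ⟨⟨g, hN hg⟩, rfl⟩
      obtain ⟨k', rfl⟩ : ∃ k' : X.C, (k' : G) = k := ⟨⟨k, hN hk⟩, rfl⟩
      refine Subgroup.mem_map.mpr ⟨⁅g', k'⁆, ?_, map_commutatorElement X.C.subtype g' k'⟩
      rw [Subgroup.mem_comap, commutatorElement_def, map_mul, map_mul, map_mul, map_inv, map_inv]
      show _ ^ 4 = 1
      rw [CfsgLib.PSpFourLocal.pow_four]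
      exact sl_comm (X.φ g') (X.φ k')
    obtain ⟨y, hy, hy'⟩ := hle hm
    have hu : X.u * X.u * X.u * X.u = 1 := by
      have e : X.u = X.φ y := by
        rw [Ctx.u, ← hy', show X.f (X.C.subtype y) = X.φ y from X.f_eq y.2]
      rw [e, ← CfsgLib.PSpFourLocal.pow_four]; exact hy
    rw [X.u_cube, one_mul] at hu
    exact X.u_ne hu
  have hA : 3 ∣ Nat.card (Abelianization G) := by
    have h3 : Abelianization.of X.x0 ^ 3 = 1 := by rw [← map_pow, X.cube _ X.x0_mem, map_one]
    have hne : Abelianization.of X.x0 ≠ 1 := fun e => hx0 ((QuotientGroup.eq_one_iff _).mp e)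
    exact orderOf_eq_prime h3 hne ▸ orderOf_dvd_natCard _
  obtain ⟨M, hM⟩ := exists_index_three hA
  refine ⟨M.comap Abelianization.of, inferInstance, ?_⟩
  rw [Subgroup.index_comap_of_surjective (H := M) QuotientGroup.mk_surjective, hM]

end Coord

end CfsgLib.PSpFourThree
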