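import Cfsg.Agent.Lib.PSpFourThree.Weak
import Cfsg.Agent.Lib.SymNineThree.Quot
import Cfsg.Agent.Lib.SymNineThree.Inverting

/-!
The kind whose automizer is `2 × S₃`: centralizers of the elements of `J` outside `⟨a⟩`.
-/

set_option autoImplicit false
set_option maxRecDepth 20000
set_option linter.style.haveILetI false
set_option linter.unusedSectionVars false

namespace CfsgLib.PSpFourThree

open CfsgLib.SymNineThree CfsgLib.SymNineThree.Mon CfsgLib.PSpFourLocal

attribute [local instance 2000] List.decidableBAll List.decidableBEx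

/-- Codes of the vectors outside the diagonal. -/
def offDiag (v : ℕ) : Bool := !(Nat.beq v 0 || Nat.beq v 13 || Nat.beq v 26)

theorem two_check : ((List.range 1296).all fun x => !inK 1 x || inT x || (List.range 27).all fun v =>
    !offDiag v || !Nat.beq (mulM x (trC v)) (mulM (trC v) x) || (inT (mulM x x) &&
      ([1, 3, 9].any fun w => (List.range 3).all fun i =>
        !Nat.beq (mulM (mulM x (trC w)) (invM x)) (mulM (trC w) (trC (scV i v)))) &&
      cond (sumZ v)
        ([1, 3, 9].all fun w => (List.range 3).any fun i =>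
          Nat.beq (mulM (mulM (mulM x (trC w)) (invM x)) (trC w)) (trC (scV i v)))
        (Nat.beq (mulM x (trC 13)) (mulM (trC 13) x)))) = true := by decide +kernel

theorem two_exists : ((List.range 27).all fun v => !offDiag v || !sumZ v || monoL.any fun x =>
    inK 1 x && Nat.blt x 1296 && !inT x && Nat.beq (mulM x (trC v)) (mulM (trC v) x)) = true := by
  decide +kernel

theorem two_orbit : ((List.range 1296).all fun x => !inK 1 x ||
    Nat.beq (mulM (mulM x (trC 13)) (invM x)) (trC 13) ||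
    Nat.beq (mulM (mulM x (trC 13)) (invM x)) (trC 26)) = true := by decide +kernel

/-- A commuting pair of elements of `J` in a subgroup of the normalizer of a cyclic subgroup. -/
theorem cube_eq_conj {G : Type*} [Group G] {g k y : G} (hy : g * y = y * g) (j : G) (hj : g * k * g⁻¹ * k⁻¹ ∈ Subgroup.zpowers y) (hjk : j * k = k * j)
    (hjy : j * y = y * j) :
    g * j * g⁻¹ * y = y * (g * j * g⁻¹) ∧ g * j * g⁻¹ * k = k * (g * j * g⁻¹) := by
  have h1 : g * j * g⁻¹ * y = y * (g * j * g⁻¹) := by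
    calc g * j * g⁻¹ * y = g * j * (g⁻¹ * y * g) * g⁻¹ := by group
      _ = g * (j * y) * g⁻¹ := by rw [show g⁻¹ * y * g = y by rw [mul_assoc, ← hy, inv_mul_cancel_left]]; group
      _ = g * (y * j) * g⁻¹ := by rw [hjy]
      _ = g * y * j * g⁻¹ := by group
      _ = y * (g * j * g⁻¹) := by rw [hy]; group
  refine ⟨h1, ?_⟩
  obtain ⟨i, hi⟩ := Subgroup.mem_zpowers_iff.mp hj
  have hk' : k = (g * k * g⁻¹ * k⁻¹)⁻¹ * (g * k * g⁻¹) := by group
  have hc : Commute (g * j * g⁻¹) k := by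
    rw [hk', ← hi]
    refine Commute.mul_right ((show Commute (g * j * g⁻¹) y from h1).zpow_right i).inv_right ?_
    show g * j * g⁻¹ * (g * k * g⁻¹) = g * k * g⁻¹ * (g * j * g⁻¹)
    rw [conj_mul, conj_mul, hjk]
  exact hc.eq

namespace Coord

variable {G : Type*} [Group G] [Finite G] {X : Ctx G} (U : Coord X)

include U in
/-- Conjugates of `a` inside `J`. -/
theorem conj_a_mem (hk : U.k = 1) {g : G} (h : g * X.a * g⁻¹ ∈ X.J) : g * X.a * g⁻¹ ∈ X.Z := by
  obtain ⟨w, hw, e⟩ := U.exists_ι h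
  have e' : g * U.ι 13 * g⁻¹ = U.ι w := by rw [U.ι_thirteen]; exact e
  obtain ⟨x, hx, ex⟩ := U.fusion (by norm_num) hw e'
  rw [hk] at hx
  have hc := List.all_eq_true.mp two_orbit _ (List.mem_range.mpr x.c.isLt)
  simp only [show inK 1 x.c = true from mem_Kd.mp hx, Bool.not_true, Bool.false_or, Bool.or_eq_true,
    Nat.beq_eq] at hc
  rw [e, U.ι_Z hw]
  rcases hc with hc | hc
  · refine Or.inr (Or.inl (tr_inj hw (by norm_num) ?_))
    rw [← ex]
    exact code_eq.mpr (by rw [code_mul, code_mul, code_inv, code_tr (by norm_num)]; exact hc)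
  · refine Or.inr (Or.inr (tr_inj hw (by norm_num) ?_))
    rw [← ex]
    exact code_eq.mpr (by
      rw [code_mul, code_mul, code_inv, code_tr (by norm_num), code_tr (by norm_num)]; exact hc)

include U in
/-- Normalizing elements that centralize an element outside the diagonal. -/
theorem stab_facts (hk : U.k = 1) {g : G} (hg : g ∈ Subgroup.normalizer (X.J : Set G)) (hgJ : g ∉ X.J)
    {v : ℕ} (hv : v < 27) (hvd : offDiag v = true) (hgv : g * U.ι v = U.ι v * g) :
    g * g ∈ X.J ∧ (∃ j ∈ X.J, g * j * g⁻¹ * j⁻¹ ∉ Subgroup.zpowers (U.ι v)) ∧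
    (sumZ v = true → ∀ j ∈ X.J, g * j * g⁻¹ * j ∈ Subgroup.zpowers (U.ι v)) ∧
    (sumZ v = false → g ∈ X.C) := by
  obtain ⟨x, hx, rfl⟩ := U.exists_f hg
  have hx1 : inK 1 x.c = true := by
    have := mem_Kd.mp hx
    rwa [hk] at this
  have hT : inT x.c = false := by
    by_contra e
    rw [Bool.not_eq_false] at e
    exact hgJ ((U.f_mem_J hx).mpr e)
  have hc : Nat.beq (mulM (x.c : ℕ) (trC v)) (mulM (trC v) x.c) = true := by
    rw [Nat.beq_eq, ← code_tr hv]
    exact comm_iff.mp ((U.f_comm hx (tr_mem hv)).mp hgv)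
  have h := List.all_eq_true.mp two_check _ (List.mem_range.mpr x.c.isLt)
  simp only [hx1, hT, Bool.not_true, Bool.false_or, List.all_eq_true] at h
  have h := h v (List.mem_range.mpr hv)
  simp only [hvd, hc, Bool.not_true, Bool.false_or, Bool.and_eq_true] at h
  obtain ⟨⟨hsq, hmove⟩, hrest⟩ := h
  simp only [List.any_eq_true, List.all_eq_true, List.mem_range, Bool.not_eq_true'] at hmove
  have hsc : ∀ i : Fin 3, ∀ w : Fin 27, tr (scV i w) = tr (w : ℕ) ^ (i : ℕ) ∧ scV i w < 27 := by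
    decide +kernel
  have hpow : ∀ i, i < 3 → U.ι (scV i v) = U.ι v ^ i ∧ scV i v < 27 := fun i hi => by
    obtain ⟨e1, l1⟩ := hsc ⟨i, hi⟩ ⟨v, hv⟩
    exact ⟨by rw [ι, e1, U.f_pow (tr_mem hv)]; rfl, l1⟩
  have hmem : ∀ z ∈ Subgroup.zpowers (U.ι v), ∃ i < 3, z = U.ι v ^ i := by
    intro z hz
    rw [← mem_powers_iff_mem_zpowers, Submonoid.mem_powers_iff] at hz
    obtain ⟨n, rfl⟩ := hz
    exact ⟨n % 3, Nat.mod_lt _ (by norm_num), pow_eq_pow_mod n (X.cube _ (U.ι_mem hv))⟩
  have hconj : ∀ w : ℕ, ∀ hw : w < 27, U.f x * U.ι w * (U.f x)⁻¹ = U.f (x * tr w * x⁻¹) := fun w hw =>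
    (U.f_conj hx (tr_mem hw)).symm
  refine ⟨?_, ?_, fun hs j hj => ?_, fun hs => ?_⟩
  · rw [← U.f_mul hx hx, U.f_mem_J ((Kd U.k).mul_mem hx hx)]
    show inT (x * x).c = true
    rw [code_mul]; exact hsq
  · obtain ⟨w, hw, hw'⟩ := hmove
    have hw27 : w < 27 := by simp at hw; omega
    refine ⟨U.ι w, U.ι_mem hw27, fun hz => ?_⟩
    obtain ⟨i, hi, e⟩ := hmem _ hz
    obtain ⟨e1, l1⟩ := hpow i hi
    rw [← e1, mul_inv_eq_iff_eq_mul, X.comm _ (U.ι_mem l1) _ (U.ι_mem hw27), hconj w hw27, ι, ι,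
      ← U.f_mul (tr_mem hw27) (tr_mem l1)] at e
    have e2 := congrArg (fun y : Mon => (y.c : ℕ)) (U.f_inj
      ((Kd U.k).mul_mem ((Kd U.k).mul_mem hx (tr_mem hw27)) ((Kd U.k).inv_mem hx))
      ((Kd U.k).mul_mem (tr_mem hw27) (tr_mem l1)) e)
    simp only [code_mul, code_inv, code_tr hw27, code_tr l1] at e2
    have := hw' i hi
    rw [e2, Nat.beq_refl] at this
    simp at this
  · rw [hs, cond_true] at hrest
    simp only [List.all_eq_true, List.any_eq_true, List.mem_range, Nat.beq_eq] at hrest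
    have hgen : ∀ w ∈ [1, 3, 9], U.f x * U.ι w * (U.f x)⁻¹ * U.ι w ∈ Subgroup.zpowers (U.ι v) := by
      intro w hw
      have hw27 : w < 27 := by simp at hw; omega
      obtain ⟨i, hi, e⟩ := hrest w hw
      obtain ⟨e1, l1⟩ := hpow i hi
      rw [hconj w hw27, show U.ι w = U.f (tr w) from rfl, ← U.f_mul ((Kd U.k).mul_mem ((Kd U.k).mul_mem hx (tr_mem hw27))
        ((Kd U.k).inv_mem hx)) (tr_mem hw27), show x * tr w * x⁻¹ * tr w = tr (scV i v) from code_eq.mpr (by
          rw [code_mul, code_mul, code_mul, code_inv, code_tr hw27, code_tr l1]; exact e)]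
      show U.ι (scV i v) ∈ _
      rw [e1]
      exact pow_mem (Subgroup.mem_zpowers _) i
    -- multiplicativity on `J`
    have hmul : ∀ p ∈ X.J, ∀ q ∈ X.J, U.f x * p * (U.f x)⁻¹ * p ∈ Subgroup.zpowers (U.ι v) →
        U.f x * q * (U.f x)⁻¹ * q ∈ Subgroup.zpowers (U.ι v) →
        U.f x * (p * q) * (U.f x)⁻¹ * (p * q) ∈ Subgroup.zpowers (U.ι v) := by
      intro p hp q hq h1 h2
      have hqc : U.f x * q * (U.f x)⁻¹ ∈ X.J := (Subgroup.mem_normalizer_iff.mp hg q).mp hq
      rw [← conj_mul, show U.f x * p * (U.f x)⁻¹ * (U.f x * q * (U.f x)⁻¹) * (p * q) =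
        U.f x * p * (U.f x)⁻¹ * ((U.f x * q * (U.f x)⁻¹) * p) * q by group, X.comm _ hqc _ hp,
        show U.f x * p * (U.f x)⁻¹ * (p * (U.f x * q * (U.f x)⁻¹)) * q =
        U.f x * p * (U.f x)⁻¹ * p * (U.f x * q * (U.f x)⁻¹ * q) by group]
      exact mul_mem h1 h2
    have hpw : ∀ n : ℕ, ∀ w ∈ [1, 3, 9],
        U.f x * U.ι w ^ n * (U.f x)⁻¹ * U.ι w ^ n ∈ Subgroup.zpowers (U.ι v) := by
      intro n w hw
      have hw27 : w < 27 := by simp at hw; omega
      induction n with
      | zero => simp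
      | succ n ih =>
        rw [pow_succ]
        exact hmul _ (pow_mem (U.ι_mem hw27) n) _ (U.ι_mem hw27) ih (hgen w hw)
    obtain ⟨u, hu, rfl⟩ := U.exists_ι hj
    have hdec : ∀ w : Fin 27, tr (w : ℕ) =
        tr 1 ^ ((w : ℕ) % 3) * tr 3 ^ ((w : ℕ) / 3 % 3) * tr 9 ^ ((w : ℕ) / 9) := by decide +kernel
    have h1 : U.ι u = U.ι 1 ^ (u % 3) * U.ι 3 ^ (u / 3 % 3) * U.ι 9 ^ (u / 9) := by
      simp only [ι]
      rw [show tr u = _ from hdec ⟨u, hu⟩, U.f_mul ((Kd U.k).mul_mem ((Kd U.k).pow_mem (tr_mem (by norm_num)) _)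
          ((Kd U.k).pow_mem (tr_mem (by norm_num)) _)) ((Kd U.k).pow_mem (tr_mem (by norm_num)) _),
        U.f_mul ((Kd U.k).pow_mem (tr_mem (by norm_num)) _) ((Kd U.k).pow_mem (tr_mem (by norm_num)) _),
        U.f_pow (tr_mem (by norm_num)), U.f_pow (tr_mem (by norm_num)), U.f_pow (tr_mem (by norm_num))]
    rw [h1]
    exact hmul _ (mul_mem (pow_mem (U.ι_mem (by norm_num)) _) (pow_mem (U.ι_mem (by norm_num)) _)) _
      (pow_mem (U.ι_mem (by norm_num)) _)
      (hmul _ (pow_mem (U.ι_mem (by norm_num)) _) _ (pow_mem (U.ι_mem (by norm_num)) _)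
        (hpw _ 1 (by simp)) (hpw _ 3 (by simp))) (hpw _ 9 (by simp))
  · rw [hs, cond_false, Nat.beq_eq] at hrest
    refine mem_centralizer_iff'.mpr ?_
    rw [← U.ι_thirteen]
    refine (U.f_comm hx (tr_mem (by norm_num))).mpr (comm_iff.mpr ?_)
    rw [code_tr (show 13 < 27 by norm_num)]
    exact hrest

include U in
theorem exists_off {y : G} (hy : y ∈ X.J) (hyZ : y ∉ X.Z) :
    ∃ v < 27, y = U.ι v ∧ offDiag v = true := by
  obtain ⟨v, hv, rfl⟩ := U.exists_ι hy
  refine ⟨v, hv, rfl, ?_⟩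
  by_contra h
  refine hyZ ((U.ι_Z hv).mpr ?_)
  simp only [offDiag, Bool.not_eq_true', Bool.not_eq_false, Bool.or_eq_true, Nat.beq_eq] at h
  exact or_assoc.mp h

include U in
/-- Cubes to one and centralizing: inside `J`. -/
theorem cube_mem (hk : U.k = 1) {y : G} (hy : y ∈ X.J) (hyZ : y ∉ X.Z) {g : G}
    (hg : g ∈ Subgroup.normalizer (X.J : Set G)) (hgy : g * y = y * g) (h3 : g * g * g = 1) :
    g ∈ X.J := by
  by_contra hgJ
  obtain ⟨v, hv, rfl, hvd⟩ := U.exists_off hy hyZ
  have h2 := mul_mem (U.stab_facts hk hg hgJ hv hvd hgy).1 (U.stab_facts hk hg hgJ hv hvd hgy).1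
  rw [show g * g * (g * g) = g * g * g * g by group, h3, one_mul] at h2
  exact hgJ h2

include U in
/-- The centralizer of two independent elements of `J`. -/
theorem cent_pair (hk : U.k = 1) {y w : G} (hy : y ∈ X.J) (hyZ : y ∉ X.Z) (hw : w ∈ X.J)
    (hwy : w ∉ Subgroup.zpowers y) {g : G} (hgy : g * y = y * g) (hgw : g * w = w * g) :
    g ∈ Subgroup.normalizer (X.J : Set G) := by
  classical
  set W := Subgroup.zpowers y ⊔ Subgroup.zpowers w with hW
  have hWJ : W ≤ X.J := sup_le (Subgroup.zpowers_le.mpr hy) (Subgroup.zpowers_le.mpr hw)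
  by_cases haW : X.a ∈ W
  · refine X.cent_le_normalizer hy hyZ ?_ hgy
    have : W ≤ Subgroup.centralizer ({g} : Set G) := sup_le
      (Subgroup.zpowers_le.mpr (mem_centralizer_iff'.mpr hgy.symm))
      (Subgroup.zpowers_le.mpr (mem_centralizer_iff'.mpr hgw.symm))
    exact mem_centralizer_iff'.mpr (mem_centralizer_iff'.mp (this haW)).symm
  set H := Subgroup.centralizer (W : Set G) with hH
  have hJH : X.J ≤ H := fun j hj => Subgroup.mem_centralizer_iff.mpr fun z hz => X.comm z (hWJ hz) j hj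
  have hgH : g ∈ H := by
    refine Subgroup.mem_centralizer_iff.mpr fun z hz => ?_
    have : W ≤ Subgroup.centralizer ({g} : Set G) := sup_le
      (Subgroup.zpowers_le.mpr (mem_centralizer_iff'.mpr hgy.symm))
      (Subgroup.zpowers_le.mpr (mem_centralizer_iff'.mpr hgw.symm))
    exact mem_centralizer_iff'.mp (this hz)
  set WH := W.subgroupOf H with hWH
  have hcen : WH ≤ Subgroup.center H := fun z hz => Subgroup.mem_center_iff.mpr fun x =>
    Subtype.ext ((Subgroup.mem_centralizer_iff.mp x.2) _ hz).symm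
  haveI : WH.Normal := ⟨fun z hz x => by
    rw [Subgroup.mem_center_iff.mp (hcen hz) x, mul_inv_cancel_right]; exact hz⟩
  let π := QuotientGroup.mk' WH
  have hker : π.ker = WH := QuotientGroup.ker_mk' WH
  let aH : H := ⟨X.a, hJH X.a_mem_J⟩
  set c := π aH with hc
  -- the third direction
  have hgenJ : ∀ j ∈ X.J, ∃ i : ℕ, j * (X.a ^ i)⁻¹ ∈ W := by
    intro j hj
    have hlt : W < W ⊔ X.Z := lt_of_le_of_ne le_sup_left fun e =>
      haW (e.ge (Subgroup.mem_sup_right (Subgroup.mem_zpowers _)))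
    have hWlt : Subgroup.zpowers y < W := lt_of_le_of_ne le_sup_left fun e =>
      hwy (e.ge (Subgroup.mem_sup_right (Subgroup.mem_zpowers _)))
    have hy1 : y ≠ 1 := fun e => hyZ (e ▸ one_mem _)
    have hle : W ⊔ X.Z ≤ X.J := sup_le hWJ X.Z_le_J
    have htop : W ⊔ X.Z = X.J := by
      refine Subgroup.eq_of_le_of_card_ge hle ?_
      obtain ⟨i1, -, e1⟩ := (Nat.dvd_prime_pow Nat.prime_three).mp
        (show Nat.card W ∣ 3 ^ 3 by simpa [X.card_J] using Subgroup.card_dvd_of_le hWJ)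
      obtain ⟨i2, -, e2⟩ := (Nat.dvd_prime_pow Nat.prime_three).mp
        (show Nat.card ↥(W ⊔ X.Z) ∣ 3 ^ 3 by simpa [X.card_J] using Subgroup.card_dvd_of_le hle)
      have c1 : Nat.card (Subgroup.zpowers y) = 3 ^ 1 := by
        rw [Nat.card_zpowers, pow_one, orderOf_eq_prime (X.cube y hy) hy1]
      have l1 : 1 < i1 := by
        by_contra hcon
        exact hWlt.ne (Subgroup.eq_of_le_of_card_ge hWlt.le (by
          rw [c1, e1]; exact Nat.pow_le_pow_right (by norm_num) (by omega)))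
      have l2 : i1 < i2 := by
        by_contra hcon
        exact hlt.ne (Subgroup.eq_of_le_of_card_ge hlt.le (by
          rw [e1, e2]; exact Nat.pow_le_pow_right (by norm_num) (by omega)))
      rw [X.card_J, e2, show (27 : ℕ) = 3 ^ 3 from rfl]
      exact Nat.pow_le_pow_right (by norm_num) (show 3 ≤ i2 by omega)
    have hzn : X.Z ≤ Subgroup.normalizer (W : Set G) := fun z hz =>
      mem_of_map_conj _ fun m hm => by
        rw [X.comm z (X.Z_le_J hz) m (hWJ hm), mul_inv_cancel_right]; exact hm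
    rw [← htop] at hj
    have hj' : j ∈ ((W ⊔ X.Z : Subgroup G) : Set G) := hj
    rw [Subgroup.coe_mul_of_right_le_normalizer_left W _ hzn] at hj'
    obtain ⟨m, hm, z, hz, rfl⟩ := Set.mem_mul.mp hj'
    rw [SetLike.mem_coe, Ctx.Z, ← mem_powers_iff_mem_zpowers, Submonoid.mem_powers_iff] at hz
    obtain ⟨i, rfl⟩ := hz
    exact ⟨i, by rw [mul_inv_cancel_right]; exact hm⟩
  have hsc : CfsgLib.SCThree.SC c := by
    refine ⟨Nat.prime_three, orderOf_eq_prime ?_ ?_, le_antisymm (fun q hq => ?_) ?_⟩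
    · rw [hc, ← map_pow, show aH ^ 3 = 1 from Subtype.ext (X.cube _ X.a_mem_J), map_one]
    · intro e
      rw [hc, ← MonoidHom.mem_ker, hker] at e
      exact haW e
    · obtain ⟨x, rfl⟩ := QuotientGroup.mk'_surjective WH q
      have hd : π (x * aH * x⁻¹ * aH⁻¹) = 1 := by
        have hq' : π x * π aH = π aH * π x := Subgroup.mem_centralizer_singleton_iff.mp hq
        rw [map_mul, map_mul, map_mul, map_inv, map_inv, hq']
        group
      rw [← MonoidHom.mem_ker, hker, hWH, Subgroup.mem_subgroupOf] at hd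
      have hd' : (x : G) * X.a * (x : G)⁻¹ * X.a⁻¹ ∈ W := hd
      have hJ : (x : G) * X.a * (x : G)⁻¹ ∈ X.J := by
        have := mul_mem (hWJ hd') X.a_mem_J
        rwa [inv_mul_cancel_right] at this
      have hxC : (x : G) ∈ X.C := by
        rcases X.mem_Z.mp (U.conj_a_mem hk hJ) with e | e | e
        · exact absurd (conj_eq_one_iff.mp e) X.a_ne
        · exact mem_centralizer_iff'.mpr (mul_inv_eq_iff_eq_mul.mp e)
        · rw [e, mul_inv_cancel_right] at hd'
          exact absurd hd' haW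
      have hxy : ∀ z ∈ W, z * (x : G) = x * z := fun z hz => Subgroup.mem_centralizer_iff.mp x.2 z hz
      have hxJ : (x : G) ∈ X.J := X.cent_J fun j hj => by
        obtain ⟨i, hi⟩ := hgenJ j hj
        have h1 : Commute (x : G) (j * (X.a ^ i)⁻¹) := (hxy _ hi).symm
        have h2 := h1.mul_right ((show Commute (x : G) X.a from X.a_comm hxC).pow_right i)
        rwa [inv_mul_cancel_right] at h2
      obtain ⟨i, hi⟩ := hgenJ _ hxJ
      refine Subgroup.mem_zpowers_iff.mpr ⟨i, ?_⟩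
      rw [zpow_natCast, hc, ← map_pow, eq_comm, ← mul_inv_eq_one, ← map_inv, ← map_mul,
        ← MonoidHom.mem_ker, hker, hWH, Subgroup.mem_subgroupOf]
      exact hi
    · exact Subgroup.zpowers_le.mpr (Subgroup.mem_centralizer_singleton_iff.mpr rfl)
  have hJmap : (X.J.subgroupOf H).map π ≤ Subgroup.zpowers c := by
    rintro _ ⟨j, hj, rfl⟩
    obtain ⟨i, hi⟩ := hgenJ _ hj
    refine Subgroup.mem_zpowers_iff.mpr ⟨i, ?_⟩
    rw [zpow_natCast, hc, ← map_pow, eq_comm, ← mul_inv_eq_one, ← map_inv, ← map_mul,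
      ← MonoidHom.mem_ker, hker, hWH, Subgroup.mem_subgroupOf]
    exact hi
  have hn := CfsgLib.SymNineThree.normal_of_selfCent hsc fun R hR hRn =>
    CfsgLib.SymNineThree.sig_quot π (QuotientGroup.mk'_surjective WH) (by rw [hker]; exact hcen)
      (by rw [hker]; exact (X.S_pgroup.to_le (hWJ.trans X.J_le_S)).comap_subtype) (X.J.subgroupOf H)
      (fun K hK hJK => by
        have hb := X.sig (K.map H.subtype)
          (by rw [Subgroup.card_map_of_injective H.subtype_injective]; exact hK) fun j hj =>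
          mem_of_map_conj _ (by
            rintro _ ⟨z, hz, rfl⟩
            exact ⟨⟨j, hJH hj⟩ * z * (⟨j, hJH hj⟩ : H)⁻¹,
              (Subgroup.mem_normalizer_iff.mp (hJK (show (⟨j, hJH hj⟩ : H) ∈ X.J.subgroupOf H from hj)) z).mp hz,
              rfl⟩)
        exact (Subgroup.map_eq_bot_iff_of_injective _ H.subtype_injective).mp hb)
      R hR (hJmap.trans hRn)
  refine mem_of_map_conj _ fun j hj => ?_
  have h1 : π (⟨g, hgH⟩ * ⟨j, hJH hj⟩ * (⟨g, hgH⟩ : H)⁻¹) ∈ Subgroup.zpowers c := by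
    rw [map_mul, map_mul, map_inv]
    exact hn.conj_mem _ (hJmap ⟨⟨j, hJH hj⟩, hj, rfl⟩) _
  obtain ⟨i, hi⟩ := Subgroup.mem_zpowers_iff.mp h1
  rw [hc, ← map_zpow, eq_comm, ← mul_inv_eq_one, ← map_inv, ← map_mul, ← MonoidHom.mem_ker, hker,
    hWH, Subgroup.mem_subgroupOf] at hi
  have hi' : g * j * g⁻¹ * (X.a ^ i)⁻¹ ∈ W := by simpa using hi
  have := mul_mem (hWJ hi') (zpow_mem X.a_mem_J i)
  rwa [inv_mul_cancel_right] at this

include U in
/-- The centralizer of an element outside `⟨a⟩` normalizes `J`. -/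
theorem cent_off (hk : U.k = 1) {y : G} (hy : y ∈ X.J) (hyZ : y ∉ X.Z) {g : G} (hgy : g * y = y * g) :
    g ∈ Subgroup.normalizer (X.J : Set G) := by
  classical
  haveI : Fact (Nat.Prime 3) := ⟨Nat.prime_three⟩
  obtain ⟨v, hv, hyv, hvd⟩ := U.exists_off hy hyZ
  set H := Subgroup.centralizer ({y} : Set G) with hH
  have hJH : X.J ≤ H := fun j hj => mem_centralizer_iff'.mpr (X.comm j hj y hy)
  set T := (Subgroup.zpowers y).subgroupOf H with hT
  haveI : T.Normal := ⟨fun z hz x => by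
    have hc : x * z = z * x := Subtype.ext (by
      obtain ⟨i, hi⟩ := Subgroup.mem_zpowers_iff.mp (show (z : G) ∈ Subgroup.zpowers y from hz)
      show (x : G) * z = z * x
      rw [← hi]
      exact ((show Commute (x : G) y from mem_centralizer_iff'.mp x.2).zpow_right i).eq)
    rw [hc, mul_inv_cancel_right]; exact hz⟩
  let π := QuotientGroup.mk' T
  have hker : π.ker = T := QuotientGroup.ker_mk' T
  set M := (X.J.subgroupOf H).map π with hM
  have hmemM : ∀ x : H, π x ∈ M ↔ (x : G) ∈ X.J := by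
    intro x
    refine ⟨?_, fun h => ⟨x, h, rfl⟩⟩
    rintro ⟨j, hj, e⟩
    have h1 : π (j⁻¹ * x) = 1 := by rw [map_mul, map_inv, e, inv_mul_cancel]
    rw [← MonoidHom.mem_ker, hker, hT, Subgroup.mem_subgroupOf] at h1
    have := mul_mem (show (j : G) ∈ X.J from hj) (Subgroup.zpowers_le.mpr hy h1)
    rwa [Subgroup.coe_mul, Subgroup.coe_inv, mul_inv_cancel_left] at this
  have hMcard : Nat.card M = 9 := by
    let F := π.comp (Subgroup.inclusion hJH)
    have hr : F.range = M := by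
      rw [hM]
      ext q
      constructor
      · rintro ⟨j, rfl⟩; exact ⟨⟨j, hJH j.2⟩, j.2, rfl⟩
      · rintro ⟨j, hj, rfl⟩; exact ⟨⟨j, hj⟩, rfl⟩
    have hk' : Nat.card F.ker = 3 := by
      have hy3 : Nat.card (Subgroup.zpowers y) = 3 := by
        rw [Nat.card_zpowers]
        exact orderOf_eq_prime (X.cube y hy) fun e => hyZ (e ▸ one_mem _)
      rw [← hy3]
      exact Nat.card_congr
        { toFun := fun z => ⟨((z : X.J) : G), by
            have h2 : Subgroup.inclusion hJH (z : X.J) ∈ π.ker := z.2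
            rw [hker] at h2
            exact h2⟩
          invFun := fun z => ⟨⟨z, Subgroup.zpowers_le.mpr hy z.2⟩, by
            have h2 : Subgroup.inclusion hJH ⟨z, Subgroup.zpowers_le.mpr hy z.2⟩ ∈ π.ker := by
              rw [hker]; exact z.2
            exact h2⟩
          left_inv := fun _ => rfl
          right_inv := fun _ => rfl }
    have h := F.ker.card_mul_index
    rw [Subgroup.index_ker, hk', hr, X.card_J] at h
    omega
  -- local centralizers
  have hloc : ∀ x : H, ∀ k ∈ X.J, k ∉ Subgroup.zpowers y → (x : G) * k * (x : G)⁻¹ * k⁻¹ ∈ Subgroup.zpowers y →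
      (x : G) ∈ Subgroup.normalizer (X.J : Set G) := by
    intro x k hk' hky hx
    have hxy := mem_centralizer_iff'.mp x.2
    refine mem_of_map_conj _ fun j hj => ?_
    obtain ⟨h1, h2⟩ := cube_eq_conj hxy j hx (X.comm _ hj _ hk')
      (X.comm _ hj _ hy)
    have hN := U.cent_pair hk hy hyZ hk' hky h1 h2
    refine U.cube_mem hk hy hyZ hN h1 ?_
    rw [conj_mul, conj_mul, X.cube' hj]; simp
  have hnorm : ∀ q : H ⧸ T, q ∈ Subgroup.normalizer (M : Set (H ⧸ T)) →
      ∃ x : H, π x = q ∧ (x : G) ∈ Subgroup.normalizer (X.J : Set G) := by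
    intro q hq
    obtain ⟨x, rfl⟩ := QuotientGroup.mk'_surjective T q
    refine ⟨x, rfl, mem_of_map_conj _ fun j hj => ?_⟩
    have := (Subgroup.mem_normalizer_iff.mp hq _).mp ((hmemM ⟨j, hJH hj⟩).mpr hj)
    rw [← map_inv, ← map_mul, ← map_mul, hmemM] at this
    exact this
  have hcube : ∀ p ∈ M, p ^ 3 = 1 := by
    rintro _ ⟨j, hj, rfl⟩
    rw [← map_pow, show j ^ 3 = 1 from Subtype.ext (X.cube _ hj), map_one]
  have hcommM : ∀ p ∈ M, ∀ q ∈ M, p * q = q * p := by
    rintro _ ⟨j, hj, rfl⟩ _ ⟨l, hl, rfl⟩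
    rw [← map_mul, ← map_mul, show j * l = l * j from Subtype.ext (X.comm _ hj _ hl)]
  have hselfJ : ∀ x : H, (x : G) ∈ Subgroup.normalizer (X.J : Set G) →
      (∀ p ∈ M, π x * p = p * π x) → (x : G) ∈ X.J := by
    intro x hx hc
    by_contra hxJ
    obtain ⟨j, hj, hj'⟩ := (U.stab_facts hk hx hxJ hv hvd (hyv ▸ mem_centralizer_iff'.mp x.2)).2.1
    refine hj' ?_
    have h1 : π (x * ⟨j, hJH hj⟩ * x⁻¹ * (⟨j, hJH hj⟩ : H)⁻¹) = 1 := by
      rw [map_mul, map_mul, map_mul, map_inv, map_inv, hc _ ((hmemM ⟨j, hJH hj⟩).mpr hj)]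
      group
    rw [← MonoidHom.mem_ker, hker, hT, Subgroup.mem_subgroupOf] at h1
    exact hyv ▸ h1
  have hlocM : ∀ k ∈ M, k ≠ 1 → Subgroup.centralizer ({k} : Set (H ⧸ T)) ≤
      Subgroup.normalizer (M : Set (H ⧸ T)) := by
    rintro _ ⟨j, hj, rfl⟩ hne q hq
    obtain ⟨x, rfl⟩ := QuotientGroup.mk'_surjective T q
    have h1 : π (x * j * x⁻¹ * j⁻¹) = 1 := by
      have hq' : π x * π j = π j * π x := Subgroup.mem_centralizer_singleton_iff.mp hq
      rw [map_mul, map_mul, map_mul, map_inv, map_inv, hq']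
      group
    rw [← MonoidHom.mem_ker, hker, hT, Subgroup.mem_subgroupOf] at h1
    have hjy : (j : G) ∉ Subgroup.zpowers y := fun e =>
      hne (MonoidHom.mem_ker.mp (hker.symm ▸ (e : j ∈ T)))
    have hN := hloc x _ hj hjy h1
    refine Subgroup.mem_normalizer_iff_map_conj_eq.mpr (Subgroup.eq_of_le_of_card_ge ?_ (le_of_eq
      (Subgroup.card_map_of_injective (MulAut.conj (π x)).injective).symm))
    rintro _ ⟨_, ⟨l, hl, rfl⟩, rfl⟩
    show π x * π l * (π x)⁻¹ ∈ M
    rw [← map_inv, ← map_mul, ← map_mul, hmemM]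
    exact (Subgroup.mem_normalizer_iff.mp hN l).mp hl
  have hyp : CfsgLib.NineTI.Hyp M := by
    refine ⟨hMcard, hcommM, hcube, fun Q hQ hle => ?_, le_antisymm (fun q hq => ?_) (fun p hp => ?_), hlocM⟩
    · by_contra hne
      haveI := hQ.isNilpotent
      have hlt : M.subgroupOf Q < ⊤ := lt_top_iff_ne_top.mpr fun e =>
        hne (le_antisymm (Subgroup.subgroupOf_eq_top.mp e) hle)
      obtain ⟨q, hqN, hqM⟩ := SetLike.exists_of_lt
        (Group.normalizerCondition_of_isNilpotent (M.subgroupOf Q) hlt)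
      have hqn : (q : H ⧸ T) ∈ Subgroup.normalizer (M : Set (H ⧸ T)) := by
        refine Subgroup.mem_normalizer_iff_map_conj_eq.mpr (Subgroup.eq_of_le_of_card_ge ?_ (le_of_eq
          (Subgroup.card_map_of_injective (MulAut.conj (q : H ⧸ T)).injective).symm))
        rintro _ ⟨p, hp, rfl⟩
        exact (Subgroup.mem_normalizer_iff.mp hqN ⟨p, hle hp⟩).mp hp
      obtain ⟨x, hx, hxN⟩ := hnorm _ hqn
      have hxJ : (x : G) ∉ X.J := fun e => hqM (by
        rw [Subgroup.mem_subgroupOf, ← hx]; exact (hmemM x).mpr e)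
      have hsq := (U.stab_facts hk hxN hxJ hv hvd (hyv ▸ mem_centralizer_iff'.mp x.2)).1
      have h2 : (q : H ⧸ T) * q ∈ M := by
        rw [← hx, ← map_mul, hmemM]; exact hsq
      -- a 3-element whose square lies in `M`
      obtain ⟨n, hn⟩ := hQ q
      have hn' : (q : H ⧸ T) ^ 3 ^ n = 1 := congrArg Subtype.val hn
      obtain ⟨m, hm⟩ : ∃ m, 3 ^ n = 2 * m + 1 := ⟨3 ^ n / 2, by
        have := Nat.odd_iff.mp ((show Odd 3 by decide).pow (n := n)); omega⟩
      rw [hm, pow_succ, pow_mul, pow_two] at hn'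
      refine hqM ?_
      rw [Subgroup.mem_subgroupOf, eq_inv_of_mul_eq_one_right hn']
      exact inv_mem (pow_mem h2 m)
    · obtain ⟨j, hj, hjy⟩ : ∃ j ∈ X.J, j ∉ Subgroup.zpowers y := by
        by_contra hcon
        push Not at hcon
        have h1 := Subgroup.card_le_of_le (show X.J ≤ Subgroup.zpowers y from hcon)
        rw [X.card_J, Nat.card_zpowers, orderOf_eq_prime (X.cube y hy) fun e => hyZ (e ▸ one_mem _)] at h1
        omega
      have hne : π ⟨j, hJH hj⟩ ≠ 1 := fun e => hjy (by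
        rw [← MonoidHom.mem_ker, hker] at e; exact e)
      have hqn := hlocM _ ((hmemM ⟨j, hJH hj⟩).mpr hj) hne (Subgroup.mem_centralizer_singleton_iff.mpr
        (Subgroup.mem_centralizer_iff.mp hq _ ((hmemM ⟨j, hJH hj⟩).mpr hj)).symm)
      obtain ⟨x, rfl, hxN⟩ := hnorm q hqn
      exact (hmemM x).mpr (hselfJ x hxN fun p hp => (Subgroup.mem_centralizer_iff.mp hq p hp).symm)
    · exact Subgroup.mem_centralizer_iff.mpr fun q hq => hcommM q hq p hp
  have hMn : M.Normal := by
    cases hs : sumZ v with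
    | false =>
      refine CfsgLib.SymNineThree.normal_of_fixed hyp (w := π ⟨X.a, hJH X.a_mem_J⟩)
        ((hmemM _).mpr X.a_mem_J) (fun e => ?_) fun q hq => ?_
      · rw [← MonoidHom.mem_ker, hker, hT, Subgroup.mem_subgroupOf] at e
        have h1 : Subgroup.zpowers y ≤ X.Z := by
          have he : X.Z ≤ Subgroup.zpowers y := Subgroup.zpowers_le.mpr e
          exact (Subgroup.eq_of_le_of_card_ge he (le_of_eq (by
            rw [X.card_Z, Nat.card_zpowers]
            exact orderOf_eq_prime (X.cube y hy) fun e => hyZ (e ▸ one_mem _)))).ge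
        exact hyZ (h1 (Subgroup.mem_zpowers y))
      · obtain ⟨x, rfl, hxN⟩ := hnorm q hq
        rw [← map_mul, ← map_mul]
        refine congrArg π (Subtype.ext ?_)
        show (x : G) * X.a = X.a * x
        by_cases hxJ : (x : G) ∈ X.J
        · exact X.comm _ hxJ _ X.a_mem_J
        · exact X.a_comm ((U.stab_facts hk hxN hxJ hv hvd (hyv ▸ mem_centralizer_iff'.mp x.2)).2.2.2 hs)
    | true =>
      obtain ⟨m, -, hm⟩ : ∃ m ∈ monoL, (((inK 1 m = true ∧ Nat.blt m 1296 = true) ∧ inT m = false) ∧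
          mulM m (trC v) = mulM (trC v) m) := by
        have := List.all_eq_true.mp two_exists v (List.mem_range.mpr hv)
        simpa [hvd, hs, List.any_eq_true, Nat.beq_eq] using this
      obtain ⟨⟨⟨hmk, hml⟩, hmT⟩, hmc⟩ := hm
      have hlt : m < 1296 := Nat.le_of_ble_eq_true hml
      have hmK : of m ∈ Kd U.k := by rw [hk]; exact mem_Kd_of hlt hmk
      have hny : U.f (of m) * y = y * U.f (of m) := by
        rw [hyv]
        exact (U.f_comm hmK (tr_mem hv)).mpr (comm_iff.mpr (by rw [code_of hlt, code_tr hv]; exact hmc))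
      have hnJ : U.f (of m) ∉ X.J := fun e => by
        have h1 : inT (of m).c = true := (U.f_mem_J hmK).mp e
        rw [code_of hlt, hmT] at h1
        exact Bool.false_ne_true h1
      let nH : H := ⟨U.f (of m), mem_centralizer_iff'.mpr hny⟩
      have hinv : ∀ x : H, (x : G) ∈ Subgroup.normalizer (X.J : Set G) → (x : G) ∉ X.J →
          ∀ p ∈ M, π x * p * (π x)⁻¹ = p⁻¹ := by
        rintro x hxN hxJ _ ⟨j, hj, rfl⟩
        have h1 := (U.stab_facts hk hxN hxJ hv hvd (hyv ▸ mem_centralizer_iff'.mp x.2)).2.2.1 hs j hj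
        refine eq_inv_of_mul_eq_one_left ?_
        rw [← map_inv, ← map_mul, ← map_mul, ← map_mul, ← MonoidHom.mem_ker, hker, hT,
          Subgroup.mem_subgroupOf]
        exact hyv ▸ h1
      have hn0 := hinv nH (U.f_mem_N hmK) hnJ
      refine CfsgLib.SymNineThree.Inv.normal (h := π nH)
        ⟨hcube, hMcard.ge, fun k hk' hk1 q hq => ?_, hn0, fun q hq => ?_⟩ hcommM
      · have hqn := hlocM k hk' hk1 (Subgroup.mem_centralizer_singleton_iff.mpr hq)
        obtain ⟨x, rfl, hxN⟩ := hnorm q hqn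
        refine (hmemM x).mpr (by_contra fun hxJ => hk1 ?_)
        have h1 := hinv x hxN hxJ k hk'
        rw [hq, mul_inv_cancel_right] at h1
        have h2 : k * k = 1 := mul_eq_one_iff_eq_inv.mpr h1
        simpa [pow_succ, h2] using hcube k hk'
      · have hqn : q ∈ Subgroup.normalizer (M : Set (H ⧸ T)) :=
          Subgroup.mem_normalizer_iff_map_conj_eq.mpr (Subgroup.eq_of_le_of_card_ge
            (by rintro _ ⟨p, hp, rfl⟩; exact hq p hp)
            (le_of_eq (Subgroup.card_map_of_injective (MulAut.conj q).injective).symm))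
        obtain ⟨x, rfl, hxN⟩ := hnorm q hqn
        by_cases hxJ : (x : G) ∈ X.J
        · exact Or.inl ((hmemM x).mpr hxJ)
        · refine Or.inr ?_
          have h1 : π x * (π nH)⁻¹ ∈ Subgroup.centralizer (M : Set (H ⧸ T)) := by
            refine Subgroup.mem_centralizer_iff.mpr fun p hp => ?_
            have e1 := hn0 p hp
            have e2 := hinv x hxN hxJ _ hp
            have e3 : π x * p * (π x)⁻¹ = π nH * p * (π nH)⁻¹ := e2.trans e1.symm
            have e4 : (π nH)⁻¹ * π x * p = p * ((π nH)⁻¹ * π x) := by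
              calc (π nH)⁻¹ * π x * p = (π nH)⁻¹ * (π x * p * (π x)⁻¹) * π x := by group
                _ = _ := by rw [e3]; group
            -- both invert, so the quotient commutes
            have e5 : π x * (π nH)⁻¹ * p⁻¹ * (π x * (π nH)⁻¹)⁻¹ = p⁻¹ := by
              have e6 : (π nH)⁻¹ * p⁻¹ * π nH = p := by
                rw [← e1]; group
              calc π x * (π nH)⁻¹ * p⁻¹ * (π x * (π nH)⁻¹)⁻¹
                  = π x * ((π nH)⁻¹ * p⁻¹ * π nH) * (π x)⁻¹ := by group
                _ = p⁻¹ := by rw [e6, e2]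
            have e7 : π x * (π nH)⁻¹ * p * (π x * (π nH)⁻¹)⁻¹ = p := by
              have := congrArg (fun q => q⁻¹) e5
              simpa [mul_assoc] using this
            rw [eq_comm]
            exact mul_inv_eq_iff_eq_mul.mp e7
          rw [hyp.self] at h1
          exact h1
  refine mem_of_map_conj _ fun j hj => ?_
  have h1 := hMn.conj_mem _ ((hmemM ⟨j, hJH hj⟩).mpr hj) (π ⟨g, mem_centralizer_iff'.mpr hgy⟩)
  rw [← map_inv, ← map_mul, ← map_mul, hmemM] at h1
  exact h1

end Coord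

end CfsgLib.PSpFourThree
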