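import Cfsg.Agent.Lib.PSpFourThree.Base

/-!
The elementary abelian group `J` inside the centralizer: centralizers of its elements,
the Sylow 3-subgroup and fusion.
-/

set_option autoImplicit false
set_option linter.style.haveILetI false
set_option linter.unusedSectionVars false

namespace CfsgLib.PSpFourThree

open CfsgLib.PSpFourLocal (S23)

namespace Ctx

variable {G : Type*} [Group G] [Finite G] (X : Ctx G)

theorem J_ne_R : X.J ≠ X.R := fun e => by
  have h : Subgroup.center X.R = ⊤ := eq_top_iff.mpr fun y _ => Subgroup.mem_center_iff.mpr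
    fun z => Subtype.ext (X.comm _ (e.ge z.2) _ (e.ge y.2))
  have := X.center_R
  rw [h, Subgroup.card_top, X.card_R] at this
  omega

theorem exists_out : ∃ x ∈ X.J, x ∉ X.R := by
  by_contra h
  push Not at h
  exact X.J_ne_R (Subgroup.eq_of_le_of_card_ge h (by rw [X.card_R, X.card_J]))

/-- An element of `J` outside `R`. -/
noncomputable def x0 : G := Classical.choose X.exists_out

theorem x0_mem : X.x0 ∈ X.J := (Classical.choose_spec X.exists_out).1

theorem x0_out : X.x0 ∉ X.R := (Classical.choose_spec X.exists_out).2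

theorem x0_C : X.x0 ∈ X.C := X.J_le X.x0_mem

/-- Its image. -/
noncomputable def u : S23 := X.f X.x0

theorem u_ne : X.u ≠ 1 := fun h => X.x0_out ((X.f_eq_one X.x0_C).mp h)

theorem u_cube : X.u * X.u * X.u = 1 := by
  rw [u, ← X.f_mul X.x0_C X.x0_C, ← X.f_mul (mul_mem X.x0_C X.x0_C) X.x0_C, X.cube' X.x0_mem, X.f_one]

theorem f_J {y : G} (hy : y ∈ X.J) : X.f y ∈ Subgroup.zpowers X.u := by
  rcases eq_or_ne (X.f y) 1 with h | h
  · rw [h]; exact one_mem _
  have hyC := X.J_le hy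
  have hc : X.f y * X.f y * X.f y = 1 := by
    rw [← X.f_mul hyC hyC, ← X.f_mul (mul_mem hyC hyC) hyC, X.cube' hy, X.f_one]
  have hcomm : X.u * X.f y = X.f y * X.u := by
    rw [u, ← X.f_mul X.x0_C hyC, ← X.f_mul hyC X.x0_C, X.comm _ X.x0_mem _ hy]
  rcases sl_three _ _ X.u_cube X.u_ne hc h hcomm with e | e <;> rw [e]
  · exact Subgroup.mem_zpowers _
  · exact mul_mem (Subgroup.mem_zpowers _) (Subgroup.mem_zpowers _)

theorem card_zu : Nat.card (Subgroup.zpowers X.u) = 3 := by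
  rw [Nat.card_zpowers]
  refine orderOf_eq_prime ?_ X.u_ne
  rw [pow_succ, pow_two, X.u_cube]

/-- The Sylow 3-subgroup. -/
noncomputable def S : Subgroup G := ((Subgroup.zpowers X.u).comap X.φ).map X.C.subtype

theorem mem_S {g : G} : g ∈ X.S ↔ g ∈ X.C ∧ X.f g ∈ Subgroup.zpowers X.u := by
  constructor
  · rintro ⟨y, hy, rfl⟩
    exact ⟨y.2, by rw [show X.f (X.C.subtype y) = X.φ y from X.f_eq y.2]; exact hy⟩
  · rintro ⟨hg, h⟩
    exact ⟨⟨g, hg⟩, by rw [X.f_eq hg] at h; exact h, rfl⟩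

theorem S_le : X.S ≤ X.C := fun _ hg => (X.mem_S.mp hg).1

theorem J_le_S : X.J ≤ X.S := fun _ hy => X.mem_S.mpr ⟨X.J_le hy, X.f_J hy⟩

theorem R_le_S : X.R ≤ X.S := fun r hr => X.mem_S.mpr
  ⟨X.R_le hr, by rw [(X.f_eq_one (X.R_le hr)).mpr hr]; exact one_mem _⟩

theorem card_S : Nat.card X.S = 81 := by
  rw [S, Subgroup.card_map_of_injective X.C.subtype_injective, card_preimage X.φ X.surj,
    X.card_ker, X.card_zu]

theorem S_pgroup : IsPGroup 3 X.S := IsPGroup.of_card (n := 4) (by rw [X.card_S]; norm_num)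

theorem card_inf : Nat.card ↥(X.J ⊓ X.R) = 9 := by
  have hd : Nat.card ↥(X.J ⊓ X.R) ∣ 27 := X.card_J ▸ Subgroup.card_dvd_of_le inf_le_left
  have h27 : Nat.card ↥(X.J ⊓ X.R) ≠ 27 := fun e => X.x0_out
    ((Subgroup.eq_of_le_of_card_ge (inf_le_left : X.J ⊓ X.R ≤ X.J) (by rw [e, X.card_J])).ge X.x0_mem).2
  have hle : 9 ≤ Nat.card ↥(X.J ⊓ X.R) := by
    let F : X.J →* S23 := X.φ.comp (Subgroup.inclusion X.J_le)
    have hk : Nat.card F.ker = Nat.card ↥(X.J ⊓ X.R) := Nat.card_congr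
      { toFun := fun x => ⟨((x : X.J) : G), x.1.2, (X.hker _).mp x.2⟩
        invFun := fun y => ⟨⟨y, y.2.1⟩, (X.hker _).mpr y.2.2⟩
        left_inv := fun _ => rfl
        right_inv := fun _ => rfl }
    have hr : F.range ≤ Subgroup.zpowers X.u := by
      rintro _ ⟨y, rfl⟩
      have := X.f_J y.2
      rwa [X.f_eq (X.J_le y.2)] at this
    have h := F.ker.card_mul_index
    rw [Subgroup.index_ker, hk, X.card_J] at h
    have := Subgroup.card_le_of_le hr
    rw [X.card_zu] at this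
    nlinarith
  obtain ⟨i, hi, hi'⟩ := (Nat.dvd_prime_pow Nat.prime_three).mp
    (show Nat.card ↥(X.J ⊓ X.R) ∣ 3 ^ 3 by simpa using hd)
  interval_cases i <;> simp_all

theorem a_mem_J : X.a ∈ X.J := by
  by_contra ha
  have hne : ¬ X.Z ≤ X.J ⊓ X.R := fun h => ha (h (Subgroup.mem_zpowers _)).1
  set M := (X.J ⊓ X.R) ⊔ X.Z with hM
  have hle : M ≤ X.R := sup_le inf_le_right X.Z_le_R
  have hcard : Nat.card M = 27 := by
    have h9 : 9 ∣ Nat.card M := X.card_inf ▸ Subgroup.card_dvd_of_le le_sup_left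
    have hd : Nat.card M ∣ 27 := X.card_R ▸ Subgroup.card_dvd_of_le hle
    have hne9 : Nat.card M ≠ 9 := fun e => hne (le_sup_right.trans
      (Subgroup.eq_of_le_of_card_ge (le_sup_left : X.J ⊓ X.R ≤ M) (by rw [e, X.card_inf])).ge)
    obtain ⟨i, hi, hi'⟩ := (Nat.dvd_prime_pow Nat.prime_three).mp
      (show Nat.card M ∣ 3 ^ 3 by simpa using hd)
    interval_cases i <;> simp_all
  have hc : ∀ y ∈ M, ∀ w ∈ M, w * y = y * w := by
    have h1 : ∀ y ∈ X.J ⊓ X.R, ∀ w ∈ M, w * y = y * w := by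
      intro y hy w hw
      have : M ≤ Subgroup.centralizer ({y} : Set G) := sup_le
        (fun v hv => mem_centralizer_iff'.mpr (X.comm v hv.1 y hy.1))
        (fun v hv => mem_centralizer_iff'.mpr (X.Z_comm (X.R_le hy.2) hv).symm)
      exact mem_centralizer_iff'.mp (this hw)
    intro y hy w hw
    have : M ≤ Subgroup.centralizer ({w} : Set G) := sup_le
      (fun v hv => mem_centralizer_iff'.mpr (h1 v hv w hw).symm)
      (fun v hv => mem_centralizer_iff'.mpr (X.Z_comm (X.R_le (hle hw)) hv).symm)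
    exact (mem_centralizer_iff'.mp (this hy)).symm
  have he : M = X.R := Subgroup.eq_of_le_of_card_ge hle (by rw [hcard, X.card_R])
  have h : Subgroup.center X.R = ⊤ := eq_top_iff.mpr fun y _ => Subgroup.mem_center_iff.mpr
    fun z => Subtype.ext (hc _ (he.ge y.2) _ (he.ge z.2))
  have := X.center_R
  rw [h, Subgroup.card_top, X.card_R] at this
  omega

theorem Z_le_J : X.Z ≤ X.J := Subgroup.zpowers_le.mpr X.a_mem_J

/-! ### Elements of `R` -/

theorem card_cent_R {r : G} (hr : r ∈ X.R) (hrZ : r ∉ X.Z) :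
    Nat.card ↥(X.C ⊓ Subgroup.centralizer ({r} : Set G)) ≤ 27 := by
  set D := X.C ⊓ Subgroup.centralizer ({r} : Set G) with hD
  let F : D →* S23 := X.φ.comp (Subgroup.inclusion inf_le_left)
  have hF : ∀ y : D, F y = X.f y := fun y => (X.f_eq y.2.1).symm
  have hcube : ∀ y : D, F y * F y * F y = 1 := by
    intro y
    by_contra h
    obtain ⟨k, hk⟩ : ∃ k : D, F k = -1 := by
      rcases sl_pow _ (fun e => h (by rw [e]; simp)) h with e | e | e
      · exact ⟨y, e⟩
      · exact ⟨y * y, by rw [map_mul, e]⟩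
      · exact ⟨y * y * y, by rw [map_mul, map_mul, e]⟩
    obtain ⟨t, ht, ht2, -, htf, n, rfl⟩ := X.exists_inv k.2.1 ((hF k).symm.trans hk)
    have htc : (k : G) ^ n * r = r * (k : G) ^ n :=
      ((show Commute (k : G) r from mem_centralizer_iff'.mp k.2.2).pow_left n).eq
    exact hrZ (X.neg_one_no_fix ht htf ht2 hr (by rw [htc]; simp))
  have hrange : Nat.card F.range ≤ 3 := by
    have hp : IsPGroup 3 F.range := by
      rintro ⟨_, y, rfl⟩
      refine ⟨1, Subtype.ext ?_⟩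
      show F y ^ 3 ^ 1 = 1
      rw [pow_one, pow_succ, pow_two, hcube]
    haveI : Fact (Nat.Prime 3) := ⟨Nat.prime_three⟩
    obtain ⟨k, hk⟩ := hp.exists_card_eq
    have hd : 3 ^ k ∣ 24 := hk ▸ card_S23 ▸ Subgroup.card_subgroup_dvd_card F.range
    rw [hk]
    by_contra h
    have : 2 ≤ k := by
      by_contra h2
      interval_cases k <;> simp_all
    exact absurd ((pow_dvd_pow 3 this).trans hd) (by norm_num)
  have hker : Nat.card F.ker ≤ 9 := by
    set E := X.R ⊓ Subgroup.centralizer ({r} : Set G)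
    have e : Nat.card F.ker = Nat.card E := Nat.card_congr
      { toFun := fun x => ⟨((x : D) : G), (X.f_eq_one x.1.2.1).mp ((hF _).symm.trans x.2), x.1.2.2⟩
        invFun := fun y => ⟨⟨y, X.R_le y.2.1, y.2.2⟩,
          (hF _).trans ((X.f_eq_one (X.R_le y.2.1)).mpr y.2.1)⟩
        left_inv := fun _ => rfl
        right_inv := fun _ => rfl }
    rw [e]
    have hd : Nat.card E ∣ 3 ^ 3 := by
      rw [show (3 : ℕ) ^ 3 = 27 from rfl, ← X.card_R]
      exact Subgroup.card_dvd_of_le (inf_le_left : E ≤ X.R)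
    have h27 : Nat.card E ≠ 27 := fun h27 => hrZ (X.mem_Z_of_center hr fun s hs => by
      exact mem_centralizer_iff'.mp
        ((Subgroup.eq_of_le_of_card_ge (inf_le_left : E ≤ X.R) (by rw [h27, X.card_R])).ge hs).2)
    obtain ⟨i, hi, hi'⟩ := (Nat.dvd_prime_pow Nat.prime_three).mp hd
    rw [hi'] at h27 ⊢
    interval_cases i <;> simp_all
  have h := F.ker.card_mul_index
  rw [Subgroup.index_ker] at h
  rw [← h]
  exact Nat.mul_le_mul hker hrange

/-- `C` is transitive on `R` minus the centre. -/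
theorem R_conj {r r' : G} (hr : r ∈ X.R) (hrZ : r ∉ X.Z) (hr' : r' ∈ X.R) (hrZ' : r' ∉ X.Z) :
    ∃ g ∈ X.C, g * r * g⁻¹ = r' := by
  classical
  let D : Subgroup X.C := (Subgroup.centralizer ({r} : Set G)).subgroupOf X.C
  let T := {s : G // s ∈ X.R ∧ s ∉ X.Z}
  have hout : ∀ g : X.C, (g : G) * r * (g : G)⁻¹ ∈ X.R ∧ (g : G) * r * (g : G)⁻¹ ∉ X.Z := fun g =>
    ⟨X.R_normal g.2 hr, fun h => hrZ (by
      have h' := X.Z_comm (inv_mem g.2) h
      have : r = (g : G) * r * (g : G)⁻¹ := by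
        calc r = (g : G)⁻¹ * ((g : G) * r * (g : G)⁻¹) * g := by group
          _ = _ := by rw [h']; group
      rw [this]; exact h)⟩
  let m : X.C ⧸ D → T := Quotient.lift (fun g : X.C => ⟨(g : G) * r * (g : G)⁻¹, hout g⟩) fun g h hgh => by
    have hd : g⁻¹ * h ∈ D := QuotientGroup.leftRel_apply.mp hgh
    have e : ((g : G)⁻¹ * h) * r = r * ((g : G)⁻¹ * h) := mem_centralizer_iff'.mp hd
    refine Subtype.ext ?_
    show (g : G) * r * (g : G)⁻¹ = (h : G) * r * (h : G)⁻¹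
    calc (g : G) * r * (g : G)⁻¹ = (g : G) * (r * ((g : G)⁻¹ * h)) * (h : G)⁻¹ := by group
      _ = _ := by rw [← e]; group
  have hinj : Function.Injective m := by
    intro p q
    induction p using QuotientGroup.induction_on with | _ g => ?_
    induction q using QuotientGroup.induction_on with | _ h => ?_
    intro e
    have e' : (g : G) * r * (g : G)⁻¹ = (h : G) * r * (h : G)⁻¹ := congrArg Subtype.val e
    refine QuotientGroup.eq.mpr (mem_centralizer_iff'.mpr ?_)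
    show ((g : G)⁻¹ * h) * r = r * ((g : G)⁻¹ * h)
    calc (g : G)⁻¹ * h * r = (g : G)⁻¹ * ((h : G) * r * (h : G)⁻¹) * h := by group
      _ = _ := by rw [← e']; group
  have hT : Nat.card T = 24 := by
    have h1 : Nat.card T + Nat.card X.Z = Nat.card X.R := by
      rw [← Nat.card_sum]
      let p : X.R → Prop := fun s => (s : G) ∈ X.Z
      let e1 : T ≃ {s : X.R // ¬ p s} :=
        ⟨fun t => ⟨⟨t.1, t.2.1⟩, t.2.2⟩, fun s => ⟨(s.1 : G), s.1.2, s.2⟩, fun _ => rfl, fun _ => rfl⟩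
      let e2 : ↥X.Z ≃ {s : X.R // p s} :=
        ⟨fun z => ⟨⟨z.1, X.Z_le_R z.2⟩, z.2⟩, fun s => ⟨(s.1 : G), s.2⟩, fun _ => rfl, fun _ => rfl⟩
      exact Nat.card_congr (((Equiv.sumCongr e1 e2).trans (Equiv.sumComm _ _)).trans (Equiv.sumCompl p))
    rw [X.card_Z, X.card_R] at h1
    omega
  have hQ : 24 ≤ Nat.card (X.C ⧸ D) := by
    have hD : Nat.card D ≤ 27 := by
      refine le_trans (le_of_eq ?_) (X.card_cent_R hr hrZ)
      exact Nat.card_congr
        { toFun := fun x => ⟨((x : X.C) : G), x.1.2, x.2⟩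
          invFun := fun y => ⟨⟨y, y.2.1⟩, y.2.2⟩
          left_inv := fun _ => rfl
          right_inv := fun _ => rfl }
    have h := Subgroup.card_eq_card_quotient_mul_card_subgroup D
    rw [X.card_C] at h
    nlinarith
  haveI : Finite T := Subtype.finite
  haveI : Fintype T := Fintype.ofFinite T
  haveI : Fintype (X.C ⧸ D) := Fintype.ofFinite _
  have hb : Function.Surjective m := by
    refine ((Fintype.bijective_iff_injective_and_card m).mpr ⟨hinj, ?_⟩).2
    rw [← Nat.card_eq_fintype_card, ← Nat.card_eq_fintype_card]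
    exact le_antisymm (Nat.card_le_card_of_injective m hinj) (hT ▸ hQ)
  obtain ⟨p, hp⟩ := hb ⟨r', hr', hrZ'⟩
  induction p using QuotientGroup.induction_on with | _ g => ?_
  exact ⟨g, g.2, congrArg Subtype.val hp⟩

theorem cent_JR {r : G} (hr : r ∈ X.J) (hrR : r ∈ X.R) (hrZ : r ∉ X.Z) {g : G} (hg : g ∈ X.C)
    (hgr : g * r = r * g) : g ∈ X.J := by
  have hle : X.J ≤ X.C ⊓ Subgroup.centralizer ({r} : Set G) :=
    fun y hy => ⟨X.J_le hy, mem_centralizer_iff'.mpr (X.comm y hy r hr)⟩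
  exact (Subgroup.eq_of_le_of_card_ge hle (by rw [X.card_J]; exact X.card_cent_R hrR hrZ)).ge
    ⟨hg, mem_centralizer_iff'.mpr hgr⟩

theorem exists_r0 : ∃ r ∈ X.J, r ∈ X.R ∧ r ∉ X.Z := by
  by_contra h
  push Not at h
  have hle : X.J ⊓ X.R ≤ X.Z := fun y hy => h y hy.1 hy.2
  have := Subgroup.card_le_of_le hle
  rw [X.card_inf, X.card_Z] at this
  omega

theorem cent_J {g : G} (hg : ∀ y ∈ X.J, g * y = y * g) : g ∈ X.J := by
  obtain ⟨r, hr, hrR, hrZ⟩ := X.exists_r0
  exact X.cent_JR hr hrR hrZ (mem_centralizer_iff'.mpr (hg _ X.a_mem_J)) (hg r hr)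

/-- The centre of the Sylow subgroup. -/
theorem mem_Z_of_S {z : G} (hz : z ∈ X.S) (hc : ∀ s ∈ X.S, s * z = z * s) : z ∈ X.Z := by
  refine X.mem_Z_of_center (X.kerR_le ⟨X.S_le hz, fun r hr => ?_⟩) fun r hr => hc r (X.R_le_S hr)
  rw [← hc r (X.R_le_S hr), mul_inv_cancel_right, mul_inv_cancel]
  exact one_mem _

/-- `J` is the only abelian subgroup of order 27 of the Sylow subgroup. -/
theorem eq_J {A : Subgroup G} (hA : A ≤ X.S) (hc : ∀ x ∈ A, ∀ y ∈ A, x * y = y * x)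
    (h27 : Nat.card A = 27) : A = X.J := by
  by_contra hne
  have hlt : X.J < X.J ⊔ A := lt_of_le_of_ne le_sup_left fun e => hne
    (Subgroup.eq_of_le_of_card_ge (le_sup_right.trans e.ge) (by rw [h27, X.card_J]))
  have hsup : X.J ⊔ A = X.S := by
    have hle := sup_le X.J_le_S hA
    refine Subgroup.eq_of_le_of_card_ge hle ?_
    have hd : Nat.card ↥(X.J ⊔ A) ∣ 3 ^ 4 := by
      have := Subgroup.card_dvd_of_le hle
      rw [X.card_S] at this; simpa using this
    obtain ⟨i, hi, hi'⟩ := (Nat.dvd_prime_pow Nat.prime_three).mp hd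
    have hne' : Nat.card ↥(X.J ⊔ A) ≠ Nat.card X.J := fun e =>
      hlt.ne (Subgroup.eq_of_le_of_card_ge hlt.le e.le)
    have h27' := Subgroup.card_le_of_le hlt.le
    rw [X.card_J] at hne' h27'
    rw [X.card_S, hi'] at *
    interval_cases i <;> simp_all
  have hle : A ⊓ X.J ≤ X.Z := by
    intro z hz
    refine X.mem_Z_of_S (hA hz.1) fun s hs => ?_
    have : X.J ⊔ A ≤ Subgroup.centralizer ({z} : Set G) := sup_le
      (fun y hy => mem_centralizer_iff'.mpr (X.comm y hy z hz.2))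
      (fun y hy => mem_centralizer_iff'.mpr (hc y hy z hz.1))
    exact mem_centralizer_iff'.mp (this (hsup.ge hs))
  have hrel : X.J.relIndex A ≤ 3 := by
    have h := (X.J.subgroupOf X.S).card_mul_index
    rw [Nat.card_congr (Subgroup.subgroupOfEquivOfLe X.J_le_S).toEquiv, X.card_J, X.card_S] at h
    have hidx : X.J.relIndex X.S = 3 := by
      show (X.J.subgroupOf X.S).index = 3
      omega
    exact hidx ▸ Subgroup.relIndex_le_of_le_right hA (by rw [hidx]; norm_num)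
  have hmul := (X.J.subgroupOf A).card_mul_index
  rw [h27] at hmul
  have h3 : Nat.card (X.J.subgroupOf A) ≤ 3 := by
    rw [← X.card_Z]
    refine le_trans (le_of_eq ?_) (Subgroup.card_le_of_le hle)
    exact Nat.card_congr
      { toFun := fun x => ⟨((x : A) : G), x.1.2, x.2⟩
        invFun := fun y => ⟨⟨y, y.2.1⟩, y.2.2⟩
        left_inv := fun _ => rfl
        right_inv := fun _ => rfl }
  have : (X.J.subgroupOf A).index ≤ 3 := hrel
  nlinarith

theorem J_conj_S {g : G} (hg : ∀ y ∈ X.J, g * y * g⁻¹ ∈ X.S) : g ∈ Subgroup.normalizer (X.J : Set G) := by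
  have h := X.eq_J (A := X.J.map (MulAut.conj g).toMonoidHom)
    (by rintro _ ⟨y, hy, rfl⟩; exact hg y hy)
    (by rintro _ ⟨y, hy, rfl⟩ _ ⟨w, hw, rfl⟩; rw [← map_mul, X.comm y hy w hw, map_mul])
    (by rw [Subgroup.card_map_of_injective (MulAut.conj g).injective, X.card_J])
  exact Subgroup.mem_normalizer_iff_map_conj_eq.mpr h

theorem mem_normalizer_C {g : G} (hg : g ∈ X.C) :
    g ∈ Subgroup.normalizer (X.J : Set G) ↔ X.f g * X.u * (X.f g)⁻¹ ∈ Subgroup.zpowers X.u := by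
  constructor
  · intro h
    have := X.f_J ((Subgroup.mem_normalizer_iff.mp h _).mp X.x0_mem)
    rwa [X.f_mul (mul_mem hg X.x0_C) (inv_mem hg), X.f_mul hg X.x0_C, X.f_inv hg] at this
  · intro h
    refine X.J_conj_S fun y hy => X.mem_S.mpr ⟨mul_mem (mul_mem hg (X.J_le hy)) (inv_mem hg), ?_⟩
    rw [X.f_mul (mul_mem hg (X.J_le hy)) (inv_mem hg), X.f_mul hg (X.J_le hy), X.f_inv hg]
    obtain ⟨n, hn⟩ := Subgroup.mem_zpowers_iff.mp (X.f_J hy)
    rw [← hn, ← conj_zpow]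
    exact zpow_mem h n

/-- Elements of `C` centralizing an element of `J` outside the centre normalize `J`. -/
theorem cent_le_normalizer {v : G} (hv : v ∈ X.J) (hvZ : v ∉ X.Z) {g : G} (hg : g ∈ X.C)
    (hgv : g * v = v * g) : g ∈ Subgroup.normalizer (X.J : Set G) := by
  by_cases hvR : v ∈ X.R
  · exact Subgroup.le_normalizer (X.cent_JR hv hvR hvZ hg hgv)
  rw [X.mem_normalizer_C hg]
  have hvC := X.J_le hv
  have hne : X.f v ≠ 1 := fun e => hvR ((X.f_eq_one hvC).mp e)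
  have hgen : Subgroup.zpowers (X.f v) = Subgroup.zpowers X.u := by
    refine Subgroup.eq_of_le_of_card_ge (Subgroup.zpowers_le.mpr (X.f_J hv)) (le_of_eq ?_)
    rw [X.card_zu, Nat.card_zpowers, orderOf_eq_prime (p := 3) (by rw [pow_succ, pow_two, ← X.f_mul hvC hvC,
      ← X.f_mul (mul_mem hvC hvC) hvC, X.cube' hv, X.f_one]) hne]
  obtain ⟨n, hn⟩ := Subgroup.mem_zpowers_iff.mp (hgen.ge (Subgroup.mem_zpowers X.u))
  rw [← hn, ← conj_zpow, ← X.f_mul hg hvC, hgv, X.f_mul hvC hg, mul_inv_cancel_right]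
  exact Subgroup.mem_zpowers _

theorem S_maximal {Q : Subgroup G} (hQ : IsPGroup 3 Q) (hle : X.S ≤ Q) : Q = X.S := by
  haveI : Fact (Nat.Prime 3) := ⟨Nat.prime_three⟩
  by_contra hne
  haveI := hQ.isNilpotent
  have hlt : X.S.subgroupOf Q < ⊤ := lt_top_iff_ne_top.mpr fun h =>
    hne (le_antisymm (Subgroup.subgroupOf_eq_top.mp h) hle)
  obtain ⟨g, hgN, hgS⟩ := SetLike.exists_of_lt (Group.normalizerCondition_of_isNilpotent (X.S.subgroupOf Q) hlt)
  have hgnorm : ∀ s ∈ X.S, (g : G) * s * (g : G)⁻¹ ∈ X.S := fun s hs =>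
    (Subgroup.mem_normalizer_iff.mp hgN ⟨s, hle hs⟩).mp hs
  have hgS' : (g : G) ∈ Subgroup.normalizer (X.S : Set G) := mem_of_map_conj _ hgnorm
  have hga : (g : G) * X.a * (g : G)⁻¹ ∈ X.Z := by
    refine X.mem_Z_of_S (hgnorm _ (X.R_le_S X.a_mem_R)) fun s hs => ?_
    have h := (Subgroup.mem_normalizer_iff.mp hgS' ((g : G)⁻¹ * s * g)).mpr (by simpa [mul_assoc] using hs)
    calc s * ((g : G) * X.a * (g : G)⁻¹) = g * (((g : G)⁻¹ * s * g) * X.a) * (g : G)⁻¹ := by group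
      _ = g * (X.a * ((g : G)⁻¹ * s * g)) * (g : G)⁻¹ := by rw [X.a_comm (X.S_le h)]
      _ = _ := by group
  have hgC : (g : G) ∈ X.C := by
    rcases X.mem_Z.mp hga with h | h | h
    · exact absurd (conj_eq_one_iff.mp h) X.a_ne
    · exact mem_centralizer_iff'.mpr (mul_inv_eq_iff_eq_mul.mp h)
    · exfalso
      -- inversion has even order
      obtain ⟨k, hk⟩ := hQ g
      have hk' : (g : G) ^ 3 ^ k = 1 := congrArg Subtype.val hk
      have hinv : (g : G) * X.a * (g : G)⁻¹ = X.a⁻¹ := by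
        rw [h]; exact (inv_eq_of_mul_eq_one_left X.a_cube).symm
      have hstep : ∀ m : ℕ, (g : G) ^ (2 * m + 1) * X.a * ((g : G) ^ (2 * m + 1))⁻¹ = X.a⁻¹ := by
        intro m
        induction m with
        | zero => simpa using hinv
        | succ m ih =>
          rw [show 2 * (m + 1) + 1 = 2 + (2 * m + 1) by ring, pow_add,
            show (g : G) ^ 2 * (g : G) ^ (2 * m + 1) * X.a * ((g : G) ^ 2 * (g : G) ^ (2 * m + 1))⁻¹ =
              g * (g * ((g : G) ^ (2 * m + 1) * X.a * ((g : G) ^ (2 * m + 1))⁻¹) * (g : G)⁻¹) * (g : G)⁻¹ by group,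
            ih, show (g : G) * X.a⁻¹ * (g : G)⁻¹ = ((g : G) * X.a * (g : G)⁻¹)⁻¹ by group, hinv, inv_inv, hinv]
      obtain ⟨m, hm⟩ : ∃ m, 3 ^ k = 2 * m + 1 := ⟨3 ^ k / 2, by
        have := Nat.odd_iff.mp ((show Odd 3 by decide).pow (n := k)); omega⟩
      have h2 := hstep m
      rw [← hm, hk', one_mul, inv_one, mul_one] at h2
      exact X.a_ne (X.Z_sq (Subgroup.mem_zpowers _) (mul_eq_one_iff_eq_inv.mpr h2))
  have hT : X.S ⊔ Subgroup.zpowers (g : G) ≤ X.C := sup_le X.S_le (Subgroup.zpowers_le.mpr hgC)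
  have hd := Subgroup.card_dvd_of_le hT
  obtain ⟨j, hj⟩ := (hQ.to_le (sup_le hle (Subgroup.zpowers_le.mpr g.2) :
    X.S ⊔ Subgroup.zpowers (g : G) ≤ Q)).exists_card_eq
  rw [hj, X.card_C] at hd
  have hj4 : j ≤ 4 := by
    by_contra h5
    exact absurd ((pow_dvd_pow 3 (by omega : 5 ≤ j)).trans hd) (by norm_num)
  have heq : X.S = X.S ⊔ Subgroup.zpowers (g : G) := Subgroup.eq_of_le_of_card_ge le_sup_left (by
    rw [hj, X.card_S]; exact Nat.pow_le_pow_right (by norm_num) hj4)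
  exact hgS (heq.ge (Subgroup.mem_sup_right (Subgroup.mem_zpowers _)))

/-- The Sylow subgroup as a Sylow subgroup. -/
noncomputable def sylow : Sylow 3 G :=
  ⟨X.S, X.S_pgroup, fun hQ hle => X.S_maximal hQ hle⟩

/-- `J` is weakly closed. -/
theorem conj_mem_normalizer {Q : Subgroup G} (hQ : IsPGroup 3 Q) (hJ : X.J ≤ Q) {g : G}
    (hg : ∀ y ∈ X.J, g * y * g⁻¹ ∈ Q) : g ∈ Subgroup.normalizer (X.J : Set G) := by
  haveI : Fact (Nat.Prime 3) := ⟨Nat.prime_three⟩
  obtain ⟨P, hP⟩ := hQ.exists_le_sylow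
  obtain ⟨h, hh⟩ := MulAction.exists_smul_eq G P X.sylow
  have hmem : ∀ q ∈ Q, h * q * h⁻¹ ∈ X.S := by
    intro q hq
    have hS : (X.S : Subgroup G) = ((h • P : Sylow 3 G) : Subgroup G) := by rw [hh]; rfl
    rw [hS, Sylow.coe_subgroup_smul]
    exact Subgroup.smul_mem_pointwise_smul q (MulAut.conj h) P (hP hq)
  have h1 := X.J_conj_S (g := h) fun y hy => hmem y (hJ hy)
  have h2 := X.J_conj_S (g := h * g) fun y hy => by
    rw [show h * g * y * (h * g)⁻¹ = h * (g * y * g⁻¹) * h⁻¹ by group]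
    exact hmem _ (hg y hy)
  simpa using mul_mem (inv_mem h1) h2

/-- Fusion in `J`. -/
theorem fusion {x : G} (hx : x ∈ X.J) {g : G} (hg : g * x * g⁻¹ ∈ X.J) :
    ∃ n ∈ Subgroup.normalizer (X.J : Set G), n * x * n⁻¹ = g * x * g⁻¹ := by
  haveI : Fact (Nat.Prime 3) := ⟨Nat.prime_three⟩
  set y := g * x * g⁻¹ with hy
  set D := Subgroup.centralizer ({y} : Set G)
  have hJD : X.J ≤ D := fun w hw => mem_centralizer_iff'.mpr (X.comm w hw y hg)
  have hgD : X.J.map (MulAut.conj g).toMonoidHom ≤ D := by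
    rintro _ ⟨w, hw, rfl⟩
    refine mem_centralizer_iff'.mpr ?_
    show g * w * g⁻¹ * (g * x * g⁻¹) = g * x * g⁻¹ * (g * w * g⁻¹)
    rw [conj_mul, conj_mul, X.comm w hw x hx]
  have hJp : IsPGroup 3 X.J := X.S_pgroup.to_le X.J_le_S
  obtain ⟨P, hP⟩ := (hJp.comap_subtype (K := D)).exists_le_sylow
  obtain ⟨P', hP'⟩ := ((hJp.map (MulAut.conj g).toMonoidHom).comap_subtype (K := D)).exists_le_sylow
  obtain ⟨c, hc⟩ := MulAction.exists_smul_eq D P' P
  have hmem : ∀ w ∈ X.J, ((c : G) * g) * w * ((c : G) * g)⁻¹ ∈ (P : Subgroup D).map D.subtype := by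
    intro w hw
    have hwD : g * w * g⁻¹ ∈ D := hgD ⟨w, hw, rfl⟩
    have hwP : (⟨g * w * g⁻¹, hwD⟩ : D) ∈ (P' : Subgroup D) := hP' ⟨w, hw, rfl⟩
    refine ⟨c * ⟨g * w * g⁻¹, hwD⟩ * c⁻¹, ?_, ?_⟩
    · rw [← hc]
      exact Subgroup.smul_mem_pointwise_smul _ (MulAut.conj c) _ hwP
    · show (c : G) * (g * w * g⁻¹) * (c : G)⁻¹ = _
      group
  refine ⟨(c : G) * g, X.conj_mem_normalizer (P.2.map D.subtype)
    (fun w hw => ⟨⟨w, hJD hw⟩, hP hw, rfl⟩) hmem, ?_⟩
  rw [show (c : G) * g * x * ((c : G) * g)⁻¹ = (c : G) * y * (c : G)⁻¹ by rw [hy]; group,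
    mem_centralizer_iff'.mp c.2, mul_inv_cancel_right]

/-- An involution of `C` normalizing `J`. -/
theorem exists_t : ∃ t ∈ X.C, t * t = 1 ∧ t ≠ 1 ∧ X.f t = -1 ∧
    t ∈ Subgroup.normalizer (X.J : Set G) := by
  obtain ⟨g, hg, hf⟩ := X.f_surj (-1)
  obtain ⟨t, ht, ht2, ht1, htf, -⟩ := X.exists_inv hg hf
  refine ⟨t, ht, ht2, ht1, htf, (X.mem_normalizer_C ht).mpr ?_⟩
  rw [htf, sl_neg_comm, mul_inv_cancel_right]
  exact Subgroup.mem_zpowers _

theorem card_NC : Nat.card ↥(X.C ⊓ Subgroup.normalizer (X.J : Set G)) = 162 := by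
  classical
  set K : Subgroup S23 := Subgroup.normalizer ((Subgroup.zpowers X.u : Subgroup S23) : Set S23) with hK
  have hmem : ∀ g : S23, g ∈ K ↔ g * X.u * g⁻¹ ∈ Subgroup.zpowers X.u := by
    intro g
    refine ⟨fun h => (Subgroup.mem_normalizer_iff.mp h _).mp (Subgroup.mem_zpowers _), fun h => ?_⟩
    refine mem_of_map_conj _ fun m hm => ?_
    obtain ⟨n, rfl⟩ := Subgroup.mem_zpowers_iff.mp hm
    rw [← conj_zpow]
    exact zpow_mem h n
  have hcard : Nat.card K = 6 := by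
    rw [← (sl_normalizer X.u X.u_cube X.u_ne).1, ← Fintype.card_coe, ← Nat.card_eq_fintype_card]
    refine Nat.card_congr (Equiv.subtypeEquiv (Equiv.refl _) fun g => ?_)
    rw [Equiv.refl_apply, Finset.mem_filter, hmem]
    constructor
    · intro h
      refine ⟨Finset.mem_univ _, ?_⟩
      rw [← mem_powers_iff_mem_zpowers, Submonoid.mem_powers_iff] at h
      obtain ⟨n, hn⟩ := h
      have hu3 : orderOf X.u = 3 := (Nat.card_zpowers X.u).symm.trans X.card_zu
      rw [← pow_mod_orderOf, hu3] at hn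
      have := Nat.mod_lt n (show 0 < 3 by norm_num)
      interval_cases n % 3
      · rw [pow_zero] at hn
        exact absurd (conj_eq_one_iff.mp hn.symm) X.u_ne
      · exact Or.inl (by rw [← hn, pow_one])
      · exact Or.inr (by rw [← hn, pow_two])
    · rintro ⟨-, h | h⟩ <;> rw [h]
      · exact Subgroup.mem_zpowers _
      · exact mul_mem (Subgroup.mem_zpowers _) (Subgroup.mem_zpowers _)
  have h := card_preimage X.φ X.surj K
  rw [X.card_ker, hcard] at h
  rw [← show 27 * 6 = 162 from rfl, ← h]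
  exact Nat.card_congr
    { toFun := fun x => ⟨⟨x, x.2.1⟩, by
        rw [Subgroup.mem_comap, hmem, ← X.f_eq x.2.1]; exact (X.mem_normalizer_C x.2.1).mp x.2.2⟩
      invFun := fun y => ⟨(y : X.C), y.1.2, (X.mem_normalizer_C y.1.2).mpr (by
        rw [X.f_eq y.1.2]; exact (hmem _).mp y.2)⟩
      left_inv := fun _ => rfl
      right_inv := fun _ => rfl }

end Ctx

end CfsgLib.PSpFourThree
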